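import Groth.Agent.S9562
import Groth.Agent.Hensel.EtaleReduced

/-!
# Completion maps and analytic reducedness along etale local homomorphisms
-/

set_option autoImplicit false

universe u

open IsLocalRing

namespace Groth.Agent.EtEff48

/-- The map induced on completions by a local homomorphism. -/
theorem exists_completion_hom (A B : Type u) [CommRing A] [CommRing B] [IsLocalRing A] [IsLocalRing B]
    [Algebra A B] [IsLocalHom (algebraMap A B)] :
    ∃ ψ : AdicCompletion (maximalIdeal A) A →+* AdicCompletion (maximalIdeal B) B,
      ψ.comp (algebraMap A (AdicCompletion (maximalIdeal A) A)) =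
        (algebraMap B (AdicCompletion (maximalIdeal B) B)).comp (algebraMap A B) := by
  have hle : ∀ n : ℕ, maximalIdeal A ^ n ≤ (maximalIdeal B ^ n).comap (algebraMap A B) := fun n => by
    rw [← Ideal.map_le_iff_le_comap, Ideal.map_pow]
    exact Ideal.pow_right_mono (map_maximalIdeal_le (algebraMap A B)) n
  let f : (n : ℕ) → AdicCompletion (maximalIdeal A) A →+* B ⧸ maximalIdeal B ^ n := fun n =>
    (Ideal.quotientMap _ (algebraMap A B) (hle n)).comp (AdicCompletion.evalₐ (maximalIdeal A) n).toRingHom
  have hf : ∀ {m n : ℕ} (h : m ≤ n), (Ideal.Quotient.factorPow (maximalIdeal B) h).comp (f n) = f m := by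
    intro m n h
    ext x
    obtain ⟨x, rfl⟩ := AdicCompletion.mk_surjective (maximalIdeal A) A x
    simp only [f, RingHom.comp_apply, AlgHom.toRingHom_eq_coe, RingHom.coe_coe, AdicCompletion.evalₐ_mk,
      Ideal.quotientMap_mk, Ideal.Quotient.factor_mk]
    rw [Ideal.Quotient.eq, ← map_sub]
    exact hle m (by
      have := x.2 h
      rw [SModEq.sub_mem] at this
      simpa using neg_mem this)
  refine ⟨AdicCompletion.liftRingHom (maximalIdeal B) f hf, RingHom.ext fun a => ?_⟩
  refine AdicCompletion.ext_evalₐ fun n => ?_
  change _ = AdicCompletion.evalₐ (maximalIdeal B) n (algebraMap B _ (algebraMap A B a))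
  rw [RingHom.comp_apply, AdicCompletion.evalₐ_liftRingHom]
  simp [f, AdicCompletion.algebraMap_apply]

theorem isReduced_completion_of_etale (A B : Type u) [CommRing A] [CommRing B] [IsLocalRing A] [IsLocalRing B]
    [IsNoetherianRing A] [IsNoetherianRing B] [Algebra A B] [IsLocalHom (algebraMap A B)]
    [Algebra.EssFiniteType A B] [Module.Flat A B] [Algebra.FormallyUnramified A B]
    (hA : IsReduced (AdicCompletion (maximalIdeal A) A)) :
    IsReduced (AdicCompletion (maximalIdeal B) B) ∧ IsReduced B := by
  obtain ⟨ψ, hψ⟩ := exists_completion_hom A B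
  have h := ((S9562.result A B ψ hψ).1).1 ⟨inferInstance, Algebra.FormallyUnramified.map_maximalIdeal,
    inferInstance, inferInstance⟩
  letI := ψ.toAlgebra
  haveI : Algebra.Etale (AdicCompletion (maximalIdeal A) A) (AdicCompletion (maximalIdeal B) B) := h
  haveI := hA
  have hB := Hensel.isReduced_of_etale (AdicCompletion (maximalIdeal A) A) (AdicCompletion (maximalIdeal B) B)
  exact ⟨hB, isReduced_of_injective (algebraMap B (AdicCompletion (maximalIdeal B) B))
    (by
      haveI := LC.Canon.faithfullyFlat_completion (R := B)
      exact FaithfulSMul.algebraMap_injective _ _)⟩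

end Groth.Agent.EtEff48
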