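import Groth.Prelude
import Groth.Agent.AlgSpLib.Descends2
import Groth.Agent.DescLib.DescEff

/-!
# Properties of the scheme descended from a descent datum, fpqc case
-/

set_option autoImplicit false
set_option backward.isDefEq.respectTransparency false
set_option backward.isDefEq.respectTransparency.types false

universe u

open CategoryTheory CategoryTheory.Limits AlgebraicGeometry MorphismProperty

namespace Groth.Agent.EtEff48

instance : DescendsAlong (@IsSeparated : MorphismProperty Scheme.{u})
    (@Surjective ⊓ @Flat ⊓ @QuasiCompact) := by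
  rw [IsSeparated.isSeparated_eq_diagonal_isClosedImmersion]
  infer_instance

/-- The object isomorphism underlying an isomorphism of descent data. -/
def objIso {X S : Scheme.{u}} {p : X ⟶ S} {D D' : Desc.SchDD p} (e : D ≅ D') : D.obj ≅ D'.obj where
  hom := e.hom.hom
  inv := e.inv.hom
  hom_inv_id := by rw [← Desc.SchDD.comp_hom, e.hom_inv_id, Desc.SchDD.id_hom]
  inv_hom_id := by rw [← Desc.SchDD.comp_hom, e.inv_hom_id, Desc.SchDD.id_hom]

theorem pullback_fst_prop {X S : Scheme.{u}} (p : X ⟶ S) {D : Desc.SchDD p} {U : Over S}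
    (e : (Desc.toDD p).obj U ≅ D) (P : MorphismProperty Scheme.{u}) [P.RespectsIso] (h : P D.obj.hom) :
    P (pullback.fst p U.hom) := by
  have h1 : (objIso e).hom.left ≫ D.obj.hom = pullback.fst p U.hom := Over.w (objIso e).hom
  rw [← h1, P.cancel_left_of_respectsIso]
  exact h

theorem descended_prop {X S : Scheme.{u}} (p : X ⟶ S) [Flat p] [Surjective p] [QuasiCompact p]
    {D : Desc.SchDD p} {U : Over S} (e : (Desc.toDD p).obj U ≅ D)
    (P : MorphismProperty Scheme.{u}) [P.RespectsIso]
    [P.DescendsAlong (@Surjective ⊓ @Flat ⊓ @QuasiCompact)] (h : P D.obj.hom) : P U.hom :=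
  MorphismProperty.of_pullback_fst_of_descendsAlong (P := P)
    (Q := @Surjective ⊓ @Flat ⊓ @QuasiCompact) ⟨⟨‹_›, ‹_›⟩, ‹_›⟩ (pullback_fst_prop p e P h)

end Groth.Agent.EtEff48
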