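import Groth.Agent.EtEff48.EtQuot

/-!
# Quotients of étale schemes by open and closed equivalence relations, scheme form
-/

set_option autoImplicit false
set_option backward.isDefEq.respectTransparency false
set_option backward.isDefEq.respectTransparency.types false

universe u

open CategoryTheory Limits AlgebraicGeometry AlgSp

namespace Groth.Agent.EtEff48

variable {W S : Scheme.{u}}

/-- An open and closed equivalence relation on an étale `S`-scheme. -/
structure IsClopenEqv (f : W ⟶ S) (R : (pullback f f).Opens) : Prop where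
  closed : IsClosed (R : Set ↥(pullback f f))
  refl : Set.range (pullback.diagonal f) ⊆ R
  symm : ∀ {T : Scheme.{u}} (a b : T ⟶ W) (h : a ≫ f = b ≫ f),
    Set.range (pullback.lift a b h) ⊆ R → Set.range (pullback.lift b a h.symm) ⊆ R
  trans : ∀ {T : Scheme.{u}} (a b c : T ⟶ W) (h : a ≫ f = b ≫ f) (h' : b ≫ f = c ≫ f),
    Set.range (pullback.lift a b h) ⊆ R → Set.range (pullback.lift b c h') ⊆ R →
      Set.range (pullback.lift a c (h.trans h')) ⊆ R

/-- Quotient of an étale scheme by an open and closed equivalence relation. -/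
theorem exists_quotient_of_isClopenEqv (f : W ⟶ S) [Etale f] (R : (pullback f f).Opens)
    (hR : IsClopenEqv f R) :
    ∃ (U : Scheme.{u}) (q : U ⟶ S) (π : W ⟶ U), IsSeparated q ∧ Etale q ∧ Surjective π ∧ Etale π ∧
      π ≫ q = f ∧ IsPullback (R.ι ≫ pullback.fst f f) (R.ι ≫ pullback.snd f f) π π := by
  let W' : Over S := Over.mk f
  let R' : Over S := Over.mk (R.ι ≫ pullback.fst f f ≫ f)
  let t : R' ⟶ W' := Over.homMk (R.ι ≫ pullback.fst f f) (by simp [R', W'])
  let s : R' ⟶ W' := Over.homMk (R.ι ≫ pullback.snd f f) (by simp [R', W', pullback.condition])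
  have : Etale W'.hom := inferInstanceAs (Etale f)
  have hmem : ∀ {T : Over S} (a b : T ⟶ W'),
      (∃ r : T ⟶ R', r ≫ t = a ∧ r ≫ s = b) ↔
        Set.range (pullback.lift (f := f) (g := f) a.left b.left
          ((Over.w a).trans (Over.w b).symm)) ⊆ R := by
    intro T a b
    constructor
    · rintro ⟨r, rfl, rfl⟩
      have e : pullback.lift (f := f) (g := f) (r ≫ t).left (r ≫ s).left
          ((Over.w (r ≫ t)).trans (Over.w (r ≫ s)).symm) = r.left ≫ R.ι := by
        apply pullback.hom_ext
        · rw [pullback.lift_fst, Category.assoc]; rfl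
        · rw [pullback.lift_snd, Category.assoc]; rfl
      rw [e]
      rintro _ ⟨x, rfl⟩
      rw [Scheme.Hom.comp_apply]
      exact (r.left x).2
    · intro h
      have h' : Set.range (pullback.lift (f := f) (g := f) a.left b.left
          ((Over.w a).trans (Over.w b).symm)) ⊆ Set.range R.ι := by rwa [Scheme.Opens.range_ι]
      refine ⟨Over.homMk (IsOpenImmersion.lift R.ι _ h') ?_, ?_, ?_⟩
      · show IsOpenImmersion.lift R.ι _ h' ≫ R.ι ≫ pullback.fst f f ≫ f = T.hom
        rw [IsOpenImmersion.lift_fac_assoc, pullback.lift_fst_assoc]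
        exact Over.w a
      · ext
        show IsOpenImmersion.lift R.ι _ h' ≫ R.ι ≫ pullback.fst f f = a.left
        rw [IsOpenImmersion.lift_fac_assoc, pullback.lift_fst]
      · ext
        show IsOpenImmersion.lift R.ι _ h' ≫ R.ι ≫ pullback.snd f f = b.left
        rw [IsOpenImmersion.lift_fac_assoc, pullback.lift_snd]
  have heqv : IsEtaleEqvRel s t := by
    refine { injective := ?_, equivalence := ?_, etale_left := ?_, etale_right := ?_ }
    · intro T r r' h₁ h₂
      ext
      rw [← cancel_mono R.ι]
      apply pullback.hom_ext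
      · simpa [t] using congrArg Over.Hom.left h₁
      · simpa [s] using congrArg Over.Hom.left h₂
    · intro T
      refine ⟨fun a => ?_, fun {a b} h => ?_, fun {a b c} h h' => ?_⟩
      · refine (hmem a a).2 ?_
        have e : pullback.lift (f := f) (g := f) a.left a.left ((Over.w a).trans (Over.w a).symm) =
            a.left ≫ pullback.diagonal f := by
          apply pullback.hom_ext <;> simp
        rw [e]
        rintro _ ⟨x, rfl⟩
        rw [Scheme.Hom.comp_apply]
        exact hR.refl ⟨_, rfl⟩
      · exact (hmem b a).2 (hR.symm _ _ _ ((hmem a b).1 h))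
      · exact (hmem a c).2 (hR.trans _ _ _ _ _ ((hmem a b).1 h) ((hmem b c).1 h'))
    · exact inferInstanceAs (Etale (R.ι ≫ pullback.snd f f))
    · exact inferInstanceAs (Etale (R.ι ≫ pullback.fst f f))
  have hι : IsClosedImmersion R.ι := IsClosedImmersion.of_isPreimmersion _ (by
    rw [Scheme.Opens.range_ι]; exact hR.closed)
  have hcl : IsClosedImmersion (prod.lift t s).left := by
    have e : (prod.lift t s).left ≫ (Over.prodLeftIsoPullback W' W').hom = R.ι := by
      apply pullback.hom_ext
      · rw [Category.assoc, Over.prodLeftIsoPullback_hom_fst, ← Over.comp_left, prod.lift_fst]; rfl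
      · rw [Category.assoc, Over.prodLeftIsoPullback_hom_snd, ← Over.comp_left, prod.lift_snd]; rfl
    rw [← MorphismProperty.cancel_right_of_respectsIso @IsClosedImmersion (prod.lift t s).left
      (Over.prodLeftIsoPullback W' W').hom, e]
    exact hι
  obtain ⟨U, π, hsep, het, hs, he, sq⟩ := exists_etale_quotient s t heqv hcl
  exact ⟨U.left, U.hom, π.left, hsep, het, hs, he, Over.w π, sq.map (Over.forget S)⟩

end Groth.Agent.EtEff48
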