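import Groth.Agent.EtEff48.Sec
import Groth.Agent.EtEff48.EtQuotOpen
import Groth.Agent.FpqcDescLib.Basic

/-!
# Effectiveness of descent for étale separated schemes from sections

If a descent datum relative to a universally submersive morphism, with étale separated underlying
scheme, is covered by sections over étale schemes, then it is effective.
-/

set_option autoImplicit false
set_option backward.isDefEq.respectTransparency false
set_option backward.isDefEq.respectTransparency.types false

universe u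

open CategoryTheory CategoryTheory.Limits AlgebraicGeometry MorphismProperty

namespace Groth.Agent.EtEff48

variable {X S : Scheme.{u}}

theorem surjective_of_univSubmersive {g : X ⟶ S} (hg : SGA1.UnivSubmersive g) : Surjective g :=
  ⟨(hg _ _ _ (IsPullback.of_vert_isIso ⟨by simp⟩ :
    IsPullback g (𝟙 X) (𝟙 S) g)).surjective⟩

/-- An isomorphism of descent data from an isomorphism of the underlying schemes. -/
noncomputable def ddIsoMk {g : X ⟶ S} {D D' : Desc.SchDD g} (e : D.obj ≅ D'.obj)
    (comm : ∀ ⦃T : Scheme.{u}⦄ (x₀ x₁ : T ⟶ X) (h : x₀ ≫ g = x₁ ≫ g) (v : Desc.Lifts D.obj x₀)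
      (w : Desc.Lifts D'.obj x₀), w.1 = v.1 ≫ e.hom.left →
      (D'.φ x₀ x₁ h w).1 = (D.φ x₀ x₁ h v).1 ≫ e.hom.left) : D ≅ D' where
  hom := ⟨e.hom, comm⟩
  inv := ⟨e.inv, fun T x₀ x₁ h v w hw => by
    have hl : e.inv.left ≫ e.hom.left = 𝟙 _ := by rw [← Over.comp_left, e.inv_hom_id]; rfl
    have hr : e.hom.left ≫ e.inv.left = 𝟙 _ := by rw [← Over.comp_left, e.hom_inv_id]; rfl
    rw [comm x₀ x₁ h w v (by rw [hw, Category.assoc, hl, Category.comp_id]), Category.assoc, hr,
      Category.comp_id]⟩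
  hom_inv_id := by ext1; exact e.hom_inv_id
  inv_hom_id := by ext1; exact e.inv_hom_id

/-- A section which is an isomorphism exhibits the descent datum as a canonical one. -/
theorem nonempty_iso_of_sec {g : X ⟶ S} {D : Desc.SchDD g} {U : Over S} (c : Sec D U.hom)
    [IsIso c.σ] : Nonempty ((Desc.toDD g).obj U ≅ D) := by
  refine ⟨ddIsoMk (Over.isoMk (asIso c.σ) c.w) fun T x₀ x₁ h v w hw => ?_⟩
  have hv : v.1 ≫ pullback.fst g U.hom = x₀ := v.2
  let t : T ⟶ U.left := v.1 ≫ pullback.snd g U.hom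
  have h₀ : x₀ ≫ g = t ≫ U.hom := by
    rw [← hv, Category.assoc, pullback.condition, Category.assoc]
  have h₁ : x₁ ≫ g = t ≫ U.hom := h.symm.trans h₀
  have hv' : v.1 = pullback.lift x₀ t h₀ :=
    pullback.hom_ext (by simpa using hv) (by simp [t])
  show tr D x₀ x₁ h w.1 w.2 = pullback.lift x₁ t _ ≫ c.σ
  rw [tr_congr h h w.2 (c.app_hom x₀ t h₀) rfl rfl (by rw [hw, hv']; rfl)]
  exact c.tr_app x₀ x₁ t h₀ h₁ h _

/-- A canonical descent datum has the tautological section. -/
theorem exists_sec_of_iso {g : X ⟶ S} {D : Desc.SchDD g} {U : Over S}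
    (e : (Desc.toDD g).obj U ≅ D) : ∃ c : Sec D U.hom, IsIso c.σ := by
  have hl : e.inv.hom.left ≫ e.hom.hom.left = 𝟙 _ := by
    rw [← Over.comp_left, ← Desc.SchDD.comp_hom, e.inv_hom_id]; rfl
  have hr : e.hom.hom.left ≫ e.inv.hom.left = 𝟙 _ := by
    rw [← Over.comp_left, ← Desc.SchDD.comp_hom, e.hom_inv_id]; rfl
  refine ⟨⟨e.hom.hom.left, Over.w e.hom.hom, fun x₀ x₁ t h₀ h₁ => ?_⟩, ⟨e.inv.hom.left, hr, hl⟩⟩
  refine (e.hom.comm x₀ x₁ (h₀.trans h₁.symm) ⟨pullback.lift x₀ t h₀, pullback.lift_fst _ _ _⟩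
    _ rfl).trans ?_
  refine congrArg (· ≫ e.hom.hom.left) ?_
  apply pullback.hom_ext <;> simp [Desc.toDD, Desc.canonicalDD]

/-- An effective descent datum with étale scheme has enough sections. -/
theorem hasLifts_of_iso {g : X ⟶ S} {D : Desc.SchDD g} {U : Over S} [Etale U.hom]
    (e : (Desc.toDD g).obj U ≅ D) : HasLifts D := by
  obtain ⟨c, _⟩ := exists_sec_of_iso e
  exact fun d => ⟨U.left, U.hom, ‹_›, c, c.σ.surjective d⟩

section glue

variable {g : X ⟶ S} {D : Desc.SchDD g} [IsSeparated D.obj.hom] [Etale D.obj.hom]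
  {W : Scheme.{u}} {f : W ⟶ S} (C : Sec D f)

/-- The first coordinate of a point of `X ×_S (W ×_S W)`, as a point of the datum. -/
noncomputable def pA : pullback g (pullback.fst f f ≫ f) ⟶ D.obj.left :=
  C.app (pullback.fst _ _) (pullback.snd _ _ ≫ pullback.fst f f)
    (pullback.condition.trans (Category.assoc _ _ _).symm)

/-- The second coordinate of a point of `X ×_S (W ×_S W)`, as a point of the datum. -/
noncomputable def pB : pullback g (pullback.fst f f ≫ f) ⟶ D.obj.left :=
  C.app (pullback.fst _ _) (pullback.snd _ _ ≫ pullback.snd f f)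
    (pullback.condition.trans
      ((congrArg (pullback.snd g _ ≫ ·) pullback.condition).trans (Category.assoc _ _ _).symm))

omit [IsSeparated D.obj.hom] [Etale D.obj.hom] in
theorem pA_hom : pA C ≫ D.obj.hom = pB C ≫ D.obj.hom := by
  rw [pA, pB, Sec.app_hom, Sec.app_hom]

/-- The locus of equality of the two coordinates. -/
def eqSet : Set ↥(pullback g (pullback.fst f f ≫ f)) :=
  (pullback.lift (pA C) (pB C) (pA_hom C)).base ⁻¹' Set.range (pullback.diagonal D.obj.hom).base

theorem isClopen_eqSet : IsClopen (eqSet C) :=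
  ⟨((pullback.diagonal D.obj.hom).isClosedEmbedding.isClosed_range).preimage (Scheme.Hom.continuous _),
    ((pullback.diagonal D.obj.hom).isOpenEmbedding.isOpen_range).preimage (Scheme.Hom.continuous _)⟩

omit [IsSeparated D.obj.hom] in
theorem range_subset_eqSet_iff {T : Scheme.{u}} (m : T ⟶ pullback g (pullback.fst f f ≫ f)) :
    Set.range m ⊆ eqSet C ↔ m ≫ pA C = m ≫ pB C := by
  constructor
  · intro hm
    have hsub : Set.range (m ≫ pullback.lift (pA C) (pB C) (pA_hom C)) ⊆
        Set.range (pullback.diagonal D.obj.hom) := by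
      rintro _ ⟨t, rfl⟩
      rw [Scheme.Hom.comp_apply]
      exact hm ⟨t, rfl⟩
    have hfac := IsOpenImmersion.lift_fac _ _ hsub
    have ha := congrArg (fun k => k ≫ pullback.fst D.obj.hom D.obj.hom) hfac
    have hb := congrArg (fun k => k ≫ pullback.snd D.obj.hom D.obj.hom) hfac
    simp only [Category.assoc, pullback.diagonal_fst, pullback.diagonal_snd, Category.comp_id,
      pullback.lift_fst, pullback.lift_snd] at ha hb
    exact ha.symm.trans hb
  · rintro e _ ⟨t, rfl⟩
    have h : m ≫ pullback.lift (pA C) (pB C) (pA_hom C) =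
        (m ≫ pA C) ≫ pullback.diagonal D.obj.hom := pullback.hom_ext (by simp) (by simp [e])
    show pullback.lift (pA C) (pB C) (pA_hom C) (m t) ∈ Set.range (pullback.diagonal D.obj.hom)
    rw [← Scheme.Hom.comp_apply, h, Scheme.Hom.comp_apply]
    exact ⟨_, rfl⟩

theorem eqSet_saturated : eqSet C = (pullback.snd g (pullback.fst f f ≫ f)).base ⁻¹'
    ((pullback.snd g (pullback.fst f f ≫ f)).base '' eqSet C) := by
  refine Set.Subset.antisymm (Set.subset_preimage_image _ _) ?_
  rintro p' ⟨p, hp, e⟩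
  set sn := pullback.snd g (pullback.fst f f ≫ f) with hsn_def
  obtain ⟨z, hz₁, hz₂⟩ := Scheme.Pullback.exists_preimage_pullback (f := sn) (g := sn) p p' e
  let k := pullback.fst sn sn
  let k' := pullback.snd sn sn
  -- the point `z` as a scheme
  let ζ := (pullback sn sn).fromSpecResidueField z
  have hζ : ∀ x, ζ x = z := fun x => Scheme.fromSpecResidueField_apply _ x
  have hk : Set.range (ζ ≫ k) ⊆ eqSet C := by
    rintro _ ⟨x, rfl⟩
    rwa [Scheme.Hom.comp_apply, hζ, hz₁]
  have e₁ := (range_subset_eqSet_iff C (ζ ≫ k)).1 hk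
  have hsn : (ζ ≫ k) ≫ sn = (ζ ≫ k') ≫ sn := by simp [k, k', pullback.condition]
  let t := (ζ ≫ k) ≫ sn
  let x₀ := (ζ ≫ k) ≫ pullback.fst g (pullback.fst f f ≫ f)
  let x₁ := (ζ ≫ k') ≫ pullback.fst g (pullback.fst f f ≫ f)
  have h₀ : x₀ ≫ g = t ≫ pullback.fst f f ≫ f := by
    simp only [x₀, t, sn, Category.assoc, pullback.condition]
  have h₁ : x₁ ≫ g = t ≫ pullback.fst f f ≫ f := by
    simp only [x₁, t, hsn, sn, Category.assoc, pullback.condition]
  have hA₀ : x₀ ≫ g = (t ≫ pullback.fst f f) ≫ f := h₀.trans (Category.assoc _ _ _).symm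
  have hA₁ : x₁ ≫ g = (t ≫ pullback.fst f f) ≫ f := h₁.trans (Category.assoc _ _ _).symm
  have hB₀ : x₀ ≫ g = (t ≫ pullback.snd f f) ≫ f :=
    h₀.trans ((congrArg (t ≫ ·) pullback.condition).trans (Category.assoc _ _ _).symm)
  have hB₁ : x₁ ≫ g = (t ≫ pullback.snd f f) ≫ f :=
    h₁.trans ((congrArg (t ≫ ·) pullback.condition).trans (Category.assoc _ _ _).symm)
  have ea₀ : (ζ ≫ k) ≫ pA C = C.app x₀ (t ≫ pullback.fst f f) hA₀ := by
    rw [pA, Sec.app_nat]; exact C.app_congr _ _ rfl (Category.assoc _ _ _).symm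
  have eb₀ : (ζ ≫ k) ≫ pB C = C.app x₀ (t ≫ pullback.snd f f) hB₀ := by
    rw [pB, Sec.app_nat]; exact C.app_congr _ _ rfl (Category.assoc _ _ _).symm
  have ea₁ : (ζ ≫ k') ≫ pA C = C.app x₁ (t ≫ pullback.fst f f) hA₁ := by
    rw [pA, Sec.app_nat]
    exact C.app_congr _ _ rfl (by simp only [t, hsn, sn, Category.assoc])
  have eb₁ : (ζ ≫ k') ≫ pB C = C.app x₁ (t ≫ pullback.snd f f) hB₁ := by
    rw [pB, Sec.app_nat]
    exact C.app_congr _ _ rfl (by simp only [t, hsn, sn, Category.assoc])
  have hh : x₀ ≫ g = x₁ ≫ g := h₀.trans h₁.symm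
  have e₂ : (ζ ≫ k') ≫ pA C = (ζ ≫ k') ≫ pB C := by
    rw [ea₁, eb₁, ← C.tr_app x₀ x₁ _ hA₀ hA₁ hh (C.app_hom _ _ _),
      ← C.tr_app x₀ x₁ _ hB₀ hB₁ hh (C.app_hom _ _ _)]
    exact tr_congr _ _ _ _ rfl rfl (ea₀.symm.trans (e₁.trans eb₀))
  have := (range_subset_eqSet_iff C (ζ ≫ k')).2 e₂
  rw [← hz₂, ← hζ (IsLocalRing.closedPoint _), ← Scheme.Hom.comp_apply]
  exact this ⟨_, rfl⟩

variable (hg : SGA1.UnivSubmersive g)

include hg in
theorem isClopen_image_eqSet :
    IsClopen ((pullback.snd g (pullback.fst f f ≫ f)).base '' eqSet C) := by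
  have hq : Topology.IsQuotientMap (pullback.snd g (pullback.fst f f ≫ f)).base :=
    SGA1Q.isQuotientMap_of_isPullback hg (IsPullback.of_hasPullback g _).flip
  obtain ⟨hcl, hop⟩ := isClopen_eqSet C
  rw [eqSet_saturated C] at hcl hop
  exact ⟨hq.isClosed_preimage.1 hcl, hq.isOpen_preimage.1 hop⟩

/-- The equivalence relation on the scheme of sections. -/
noncomputable def relOpens : (pullback f f).Opens :=
  ⟨(pullback.snd g (pullback.fst f f ≫ f)).base '' eqSet C, (isClopen_image_eqSet C hg).isOpen⟩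

include hg in
theorem range_subset_rel_iff {T : Scheme.{u}} (a b : T ⟶ W) (τ : T ⟶ S) (ha : a ≫ f = τ)
    (hb : b ≫ f = τ) :
    Set.range (pullback.lift a b (ha.trans hb.symm)) ⊆ (relOpens C hg : Set ↥(pullback f f)) ↔
      C.app (pullback.fst g τ) (pullback.snd g τ ≫ a)
          (by rw [Category.assoc, ha, pullback.condition]) =
        C.app (pullback.fst g τ) (pullback.snd g τ ≫ b)
          (by rw [Category.assoc, hb, pullback.condition]) := by
  set l := pullback.lift a b (ha.trans hb.symm)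
  have hl : l ≫ pullback.fst f f ≫ f = τ := by rw [pullback.lift_fst_assoc, ha]
  let m : pullback g τ ⟶ pullback g (pullback.fst f f ≫ f) :=
    pullback.lift (pullback.fst g τ) (pullback.snd g τ ≫ l)
      (by rw [Category.assoc, hl, pullback.condition])
  have hm : m ≫ pullback.snd g _ = pullback.snd g τ ≫ l := pullback.lift_snd _ _ _
  have eA : m ≫ pA C = C.app (pullback.fst g τ) (pullback.snd g τ ≫ a)
      (by rw [Category.assoc, ha, pullback.condition]) := by
    rw [pA, Sec.app_nat]
    refine C.app_congr _ _ (pullback.lift_fst _ _ _) ?_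
    rw [← Category.assoc, hm, Category.assoc, pullback.lift_fst]
  have eB : m ≫ pB C = C.app (pullback.fst g τ) (pullback.snd g τ ≫ b)
      (by rw [Category.assoc, hb, pullback.condition]) := by
    rw [pB, Sec.app_nat]
    refine C.app_congr _ _ (pullback.lift_fst _ _ _) ?_
    rw [← Category.assoc, hm, Category.assoc, pullback.lift_snd]
  rw [← eA, ← eB, ← range_subset_eqSet_iff]
  constructor
  · rintro h _ ⟨p, rfl⟩
    rw [eqSet_saturated C]
    show pullback.snd g (pullback.fst f f ≫ f) (m p) ∈ (relOpens C hg : Set ↥(pullback f f))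
    rw [← Scheme.Hom.comp_apply, hm, Scheme.Hom.comp_apply]
    exact h ⟨_, rfl⟩
  · rintro h _ ⟨t, rfl⟩
    have hq : Topology.IsQuotientMap (pullback.snd g τ).base :=
      SGA1Q.isQuotientMap_of_isPullback hg (IsPullback.of_hasPullback g _).flip
    obtain ⟨p, rfl⟩ := hq.surjective t
    refine ⟨m p, h ⟨p, rfl⟩, ?_⟩
    rw [← Scheme.Hom.comp_apply, hm, Scheme.Hom.comp_apply]

include hg in
theorem isClopenEqv_rel : IsClopenEqv f (relOpens C hg) where
  closed := (isClopen_image_eqSet C hg).isClosed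
  refl := (range_subset_rel_iff C hg (𝟙 W) (𝟙 W) f (by simp) (by simp)).2 rfl
  symm a b h hr := (range_subset_rel_iff C hg b a _ h.symm rfl).2
    ((range_subset_rel_iff C hg a b _ rfl h.symm).1 hr).symm
  trans a b c h h' h1 h2 := (range_subset_rel_iff C hg a c _ rfl (h.trans h').symm).2
    (((range_subset_rel_iff C hg a b _ rfl h.symm).1 h1).trans
      ((range_subset_rel_iff C hg b c _ h.symm (h.trans h').symm).1 h2))

include hg in
theorem exists_of_surjective_sec [Etale f] [Surjective C.σ] :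
    ∃ U : Over S, IsSeparated U.hom ∧ Etale U.hom ∧ Nonempty ((Desc.toDD g).obj U ≅ D) := by
  obtain ⟨U, q, π, hq₁, hq₂, _, _, hπq, hR⟩ :=
    exists_quotient_of_isClopenEqv f (relOpens C hg) (isClopenEqv_rel C hg)
  have hiff : ∀ {T : Scheme.{u}} (a b : T ⟶ W) (h : a ≫ f = b ≫ f),
      a ≫ π = b ≫ π ↔ Set.range (pullback.lift a b h) ⊆ relOpens C hg := by
    intro T a b h
    constructor
    · rintro hab _ ⟨t, rfl⟩
      have e : pullback.lift a b h = hR.lift a b hab ≫ (relOpens C hg).ι := by
        apply pullback.hom_ext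
        · rw [pullback.lift_fst, Category.assoc, hR.lift_fst]
        · rw [pullback.lift_snd, Category.assoc, hR.lift_snd]
      rw [e, Scheme.Hom.comp_apply]
      exact (hR.lift a b hab t).2
    · intro hsub
      have hsub' : Set.range (pullback.lift a b h) ⊆ Set.range (relOpens C hg).ι := by
        rwa [Scheme.Opens.range_ι]
      have hfac := IsOpenImmersion.lift_fac _ _ hsub'
      have ea : IsOpenImmersion.lift _ _ hsub' ≫ (relOpens C hg).ι ≫ pullback.fst f f = a := by
        rw [IsOpenImmersion.lift_fac_assoc, pullback.lift_fst]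
      have eb : IsOpenImmersion.lift _ _ hsub' ≫ (relOpens C hg).ι ≫ pullback.snd f f = b := by
        rw [IsOpenImmersion.lift_fac_assoc, pullback.lift_snd]
      refine (congrArg (· ≫ π) ea).symm.trans (Eq.trans ?_ (congrArg (· ≫ π) eb))
      simp only [Category.assoc]
      have hw := congrArg (IsOpenImmersion.lift _ _ hsub' ≫ ·) hR.w
      simpa only [Category.assoc] using hw
  -- descend `σ` along `X ×_S W ⟶ X ×_S U`
  let π' : pullback g f ⟶ pullback g q :=
    pullback.lift (pullback.fst g f) (pullback.snd g f ≫ π)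
      (by rw [Category.assoc, hπq, pullback.condition])
  have hπ' : IsPullback π' (pullback.snd g f) (pullback.snd g q) π :=
    IsPullback.of_right (h₁₂ := pullback.fst g q) (h₂₂ := q) (v₁₃ := g)
      (by simpa [π', hπq] using (IsPullback.of_hasPullback g f))
      (pullback.lift_snd _ _ _) (IsPullback.of_hasPullback g q)
  have : Surjective π' := MorphismProperty.of_isPullback hπ'.flip ‹Surjective π›
  have : Etale π' := MorphismProperty.of_isPullback hπ'.flip ‹Etale π›
  have hcov := FpqcDescLib.covers_of_isCovering (FpqcDescLib.isCovering_of_lfp π')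
  obtain ⟨σ, hσ, -⟩ := hcov.desc C.σ fun T a b e => by
    have ex : a ≫ pullback.fst g f = b ≫ pullback.fst g f := by
      simpa [π'] using congrArg (fun m => m ≫ pullback.fst g q) e
    have et : (a ≫ pullback.snd g f) ≫ π = (b ≫ pullback.snd g f) ≫ π := by
      simpa [π'] using congrArg (fun m => m ≫ pullback.snd g q) e
    have hf : (b ≫ pullback.snd g f) ≫ f = (a ≫ pullback.snd g f) ≫ f := by
      simp only [← hπq]; rw [← Category.assoc, ← et]; simp
    have hr := (range_subset_rel_iff C hg _ _ _ rfl hf).1 ((hiff _ _ hf.symm).1 et)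
    let j : T ⟶ pullback g ((a ≫ pullback.snd g f) ≫ f) :=
      pullback.lift (a ≫ pullback.fst g f) (𝟙 T) (by simp [pullback.condition])
    have hj := congrArg (fun m => j ≫ m) hr
    simp only [Sec.app_nat] at hj
    rw [C.comp_σ a, C.comp_σ b]
    refine ((C.app_congr _ _ ?_ ?_).trans hj).trans (C.app_congr _ _ ?_ ?_) <;>
      simp only [j, ex, pullback.lift_fst, pullback.lift_snd_assoc] <;>
      simp [Category.id_comp]
  have hw : σ ≫ D.obj.hom = pullback.fst g q := by
    have := hcov.epi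
    rw [← cancel_epi π', ← Category.assoc, hσ, C.w, pullback.lift_fst]
  -- compatibility of the descended section
  have hcompat : ∀ {T : Scheme.{u}} (x₀ x₁ : T ⟶ X) (t : T ⟶ U) (h₀ : x₀ ≫ g = t ≫ q)
      (h₁ : x₁ ≫ g = t ≫ q), tr D x₀ x₁ (h₀.trans h₁.symm) (pullback.lift x₀ t h₀ ≫ σ)
        (by rw [Category.assoc, hw, pullback.lift_fst]) = pullback.lift x₁ t h₁ ≫ σ := by
    intro T x₀ x₁ t h₀ h₁
    have : Epi (pullback.fst t π) := Flat.epi_of_flat_of_surjective _
    rw [← cancel_epi (pullback.fst t π), tr_nat]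
    let k := pullback.fst t π
    let a := pullback.snd t π
    have hk : ∀ (x : T ⟶ X), x ≫ g = t ≫ q → (k ≫ x) ≫ g = a ≫ f := fun x h => by
      rw [Category.assoc, h, ← hπq, ← Category.assoc k, ← Category.assoc a, pullback.condition]
    have he : ∀ (x : T ⟶ X) (h : x ≫ g = t ≫ q),
        k ≫ pullback.lift x t h ≫ σ = C.app (k ≫ x) a (hk x h) := fun x h => by
      rw [Sec.app, ← hσ, ← Category.assoc, ← Category.assoc]
      congr 1
      apply pullback.hom_ext <;> simp [π', k, a, pullback.condition]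
    rw [he x₁ h₁, tr_congr _ _ _ (C.app_hom (k ≫ x₀) a (hk x₀ h₀)) rfl rfl (he x₀ h₀)]
    · exact C.tr_app _ _ _ _ _ _ _
    · exact (hk x₀ h₀).trans (hk x₁ h₁).symm
  let c : Sec D q := ⟨σ, hw, fun x₀ x₁ t h₀ h₁ => hcompat x₀ x₁ t h₀ h₁⟩
  have : Etale σ := by
    have : Etale (σ ≫ D.obj.hom) := by rw [hw]; infer_instance
    exact Etale.of_comp σ D.obj.hom
  have : Surjective (π' ≫ σ) := by rw [hσ]; infer_instance
  have : Surjective σ := Surjective.of_comp π' σ
  -- `σ` is a monomorphism
  have : Mono σ := ⟨fun {T} u v e => by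
    have ex : u ≫ pullback.fst g q = v ≫ pullback.fst g q := by
      rw [← hw, reassoc_of% e]
    let u' := u ≫ pullback.snd g q
    let v' := v ≫ pullback.snd g q
    let k₁ := pullback.fst u' π
    let k₂ := pullback.fst (k₁ ≫ v') π
    let h := k₂ ≫ k₁
    let a := k₂ ≫ pullback.snd u' π
    let b := pullback.snd (k₁ ≫ v') π
    have ha : h ≫ u' = a ≫ π := by
      simp only [h, a, k₁, Category.assoc, pullback.condition]
    have hb : h ≫ v' = b ≫ π := by
      simp only [h, b, k₂, Category.assoc, pullback.condition]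
    have : Epi h := Flat.epi_of_flat_of_surjective _
    let x := h ≫ u ≫ pullback.fst g q
    have hx : x ≫ g = a ≫ f := by
      rw [← hπq, ← Category.assoc a, ← ha]
      simp [x, u', pullback.condition]
    have hx' : x ≫ g = b ≫ f := by
      rw [← hπq, ← Category.assoc b, ← hb]
      simp [x, v', ex, pullback.condition]
    have eu : pullback.lift x a hx ≫ π' = h ≫ u := by
      apply pullback.hom_ext <;> simp [π', x, u', ← ha]
    have ev : pullback.lift x b hx' ≫ π' = h ≫ v := by
      apply pullback.hom_ext <;> simp [π', x, v', ← hb, ex]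
    have eab : C.app x a hx = C.app x b hx' := by
      rw [Sec.app, Sec.app, ← hσ, reassoc_of% eu, reassoc_of% ev, e]
    let l := pullback.lift a b (hx.symm.trans hx')
    let m : _ ⟶ pullback g (pullback.fst f f ≫ f) :=
      pullback.lift x l (by rw [hx, pullback.lift_fst_assoc])
    have hm : m ≫ pA C = m ≫ pB C := by
      rw [pA, pB, Sec.app_nat, Sec.app_nat]
      refine ((C.app_congr _ _ ?_ ?_).trans eab).trans (C.app_congr _ _ ?_ ?_) <;> simp [m, l]
    have hl : Set.range l ⊆ relOpens C hg := by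
      rintro _ ⟨t, rfl⟩
      exact ⟨m t, (range_subset_eqSet_iff C m).2 hm ⟨t, rfl⟩,
        by rw [← Scheme.Hom.comp_apply, pullback.lift_snd]⟩
    have hab := (hiff a b _).2 hl
    rw [← cancel_epi h]
    apply pullback.hom_ext
    · simp [ex]
    · simp only [Category.assoc]
      exact ha.trans (hab.trans hb.symm)⟩
  have := IsOpenImmersion.of_flat_of_mono σ
  have : IsIso c.σ := (isIso_iff_isOpenImmersion_and_surjective σ).2 ⟨‹_›, ‹_›⟩
  exact ⟨Over.mk q, hq₁, hq₂, nonempty_iso_of_sec (U := Over.mk q) c⟩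

end glue

/-- **Effectiveness from sections.** A descent datum relative to a universally submersive morphism
with étale separated scheme and enough sections over étale schemes is effective. -/
theorem exists_of_hasLifts {g : X ⟶ S} (hg : SGA1.UnivSubmersive g) (D : Desc.SchDD g)
    [IsSeparated D.obj.hom] [Etale D.obj.hom] (H : HasLifts D) :
    ∃ U : Over S, IsSeparated U.hom ∧ Etale U.hom ∧ Nonempty ((Desc.toDD g).obj U ≅ D) := by
  choose V s hs c hd using H
  obtain ⟨C, hC⟩ := exists_sec_sigma c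
  have : Etale (Sigma.desc s) := by
    refine IsZariskiLocalAtSource.of_openCover (P := @Etale) (sigmaOpenCover V) fun i => ?_
    rw [sigmaOpenCover_f, Sigma.ι_desc]
    exact hs i
  have : Surjective C.σ := ⟨fun d => by
    obtain ⟨p, hp⟩ := hd d
    have h : pullback.fst g (s d) ≫ g = (pullback.snd g (s d) ≫ Sigma.ι V d) ≫ Sigma.desc s := by
      rw [Category.assoc, Sigma.ι_desc, pullback.condition]
    have e : pullback.lift _ _ h ≫ C.σ = (c d).σ := by
      refine (hC d (pullback.fst g (s d)) (pullback.snd g (s d)) pullback.condition).trans ?_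
      rw [Sec.app, pullback.lift_fst_snd, Category.id_comp]
    refine ⟨pullback.lift _ _ h p, ?_⟩
    rw [← Scheme.Hom.comp_apply, e, hp]⟩
  exact exists_of_surjective_sec C hg

end Groth.Agent.EtEff48
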