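import Groth.Prelude.Def_DescFam
import Groth.Agent.EtEff48.Glue
import Groth.Agent.DescLib.EtaleHom

/-!
# Sections of descent data under base change and refinement
-/

set_option autoImplicit false
set_option backward.isDefEq.respectTransparency false
set_option backward.isDefEq.respectTransparency.types false

universe u

open CategoryTheory CategoryTheory.Limits AlgebraicGeometry MorphismProperty

namespace Groth.Agent.EtEff48

variable {X S : Scheme.{u}}

/-- Descent of a morphism into a scheme étale over `X` along a universally submersive morphism. -/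
theorem descend_to_etale {P Q Y : Scheme.{u}} (e : Q ⟶ P) (he : SGA1.UnivSubmersive e)
    (r : Y ⟶ X) [Etale r] (a : P ⟶ X) (b : Q ⟶ Y) (hb : b ≫ r = e ≫ a)
    (hcoc : pullback.fst e e ≫ b = pullback.snd e e ≫ b) :
    ∃ v : P ⟶ Y, v ≫ r = a ∧ e ≫ v = b := by
  let q := pullback.fst a r
  let f' : pullback (𝟙 P) e ⟶ pullback q e :=
    pullback.lift (pullback.lift (pullback.snd (𝟙 P) e ≫ e) (pullback.snd (𝟙 P) e ≫ b)
      (by simp only [Category.assoc, hb])) (pullback.snd (𝟙 P) e) (pullback.lift_fst _ _ _)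
  have hs : Function.Surjective (pullback.fst (𝟙 P) e) :=
    (SGA1Q.isQuotientMap_fst he (𝟙 P)).surjective
  have hq : Topology.IsQuotientMap (pullback.snd e (pullback.fst (𝟙 P) q ≫ 𝟙 P)) :=
    SGA1Q.isQuotientMap_of_isPullback he (IsPullback.of_hasPullback e _).flip
  obtain ⟨u', ⟨hu₁, hu₂⟩, -⟩ := DescLib.existsUnique_descend_etale e (𝟙 P) q hs hq f'
    (pullback.lift_snd _ _ _) (by
      apply pullback.hom_ext
      · simp [f', q, pullback.condition]
      · simp [f', q, hcoc])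
  refine ⟨u' ≫ pullback.snd a r, ?_, ?_⟩
  · rw [Category.assoc, ← pullback.condition, ← Category.assoc]
    show (u' ≫ q) ≫ a = a
    rw [hu₁, Category.id_comp]
  · let j : Q ⟶ pullback (𝟙 P) e := pullback.lift e (𝟙 Q) (by simp)
    have := congrArg (fun k => j ≫ k ≫ pullback.snd a r) hu₂
    simp [j, f', q] at this
    exact this.symm.trans (Category.id_comp _)

section pull

variable {X' S' : Scheme.{u}} {g : X ⟶ S} {g' : X' ⟶ S'} {p : S' ⟶ S} {p' : X' ⟶ X}

/-- Pullback of a descent datum along a commutative square: `Desc.pullDDFam` for the one-member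
families. -/
noncomputable abbrev pullDD (w : p' ≫ g = g' ≫ p) (D : Desc.SchDD g) : Desc.SchDD g' where
  obj := Over.mk (pullback.snd D.obj.hom p')
  φ _ x₀ x₁ h :=
    (Desc.liftsPullbackEquiv D.obj p' x₀).trans
      ((D.φ (x₀ ≫ p') (x₁ ≫ p') (Desc.pull_compat (f := fun _ : PUnit.{1} => g)
        (f' := fun _ : PUnit.{1} => g') (α := id) (p := p) (p' := fun _ => p') (fun _ => w)
        (j₀ := ⟨⟩) (j₁ := ⟨⟩) x₀ x₁ h)).trans (Desc.liftsPullbackEquiv D.obj p' x₁).symm)
  φ_natural := ((Desc.SchDDFam.toSchDD.{0} g').obj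
    ((Desc.pullDDFam (f := fun _ : PUnit.{1} => g) (f' := fun _ : PUnit.{1} => g') (α := id)
      (p := p) (p' := fun _ => p') (fun _ => w)).obj ((Desc.SchDDFam.ofSchDD.{0} g).obj D))).φ_natural
  φ_self := ((Desc.SchDDFam.toSchDD.{0} g').obj
    ((Desc.pullDDFam (f := fun _ : PUnit.{1} => g) (f' := fun _ : PUnit.{1} => g') (α := id)
      (p := p) (p' := fun _ => p') (fun _ => w)).obj ((Desc.SchDDFam.ofSchDD.{0} g).obj D))).φ_self
  φ_comp := ((Desc.SchDDFam.toSchDD.{0} g').obj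
    ((Desc.pullDDFam (f := fun _ : PUnit.{1} => g) (f' := fun _ : PUnit.{1} => g') (α := id)
      (p := p) (p' := fun _ => p') (fun _ => w)).obj ((Desc.SchDDFam.ofSchDD.{0} g).obj D))).φ_comp

theorem pullDD_eq (w : p' ≫ g = g' ≫ p) (D : Desc.SchDD g) :
    pullDD w D = (Desc.SchDDFam.toSchDD.{0} g').obj
      ((Desc.pullDDFam (f := fun _ : PUnit.{1} => g) (f' := fun _ : PUnit.{1} => g') (α := id)
        (p := p) (p' := fun _ => p') (fun _ => w)).obj ((Desc.SchDDFam.ofSchDD.{0} g).obj D)) :=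
  rfl

variable (w : p' ≫ g = g' ≫ p) (D : Desc.SchDD g)

instance [Etale D.obj.hom] : Etale (pullDD w D).obj.hom :=
  inferInstanceAs (Etale (pullback.snd D.obj.hom p'))

instance [IsSeparated D.obj.hom] : IsSeparated (pullDD w D).obj.hom :=
  inferInstanceAs (IsSeparated (pullback.snd D.obj.hom p'))

instance [QuasiCompact D.obj.hom] : QuasiCompact (pullDD w D).obj.hom :=
  inferInstanceAs (QuasiCompact (pullback.snd D.obj.hom p'))

instance [QuasiSeparated D.obj.hom] : QuasiSeparated (pullDD w D).obj.hom :=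
  inferInstanceAs (QuasiSeparated (pullback.snd D.obj.hom p'))

instance [IsFinite D.obj.hom] : IsFinite (pullDD w D).obj.hom :=
  inferInstanceAs (IsFinite (pullback.snd D.obj.hom p'))

variable {w D}

theorem pullDD_tr_fst {T : Scheme.{u}} {x₀ x₁ : T ⟶ X'} (h : x₀ ≫ g' = x₁ ≫ g')
    {v : T ⟶ (pullDD w D).obj.left} (hv : v ≫ (pullDD w D).obj.hom = x₀)
    (h' : (x₀ ≫ p') ≫ g = (x₁ ≫ p') ≫ g)
    (hv' : (v ≫ pullback.fst D.obj.hom p') ≫ D.obj.hom = x₀ ≫ p') :
    tr (pullDD w D) x₀ x₁ h v hv ≫ pullback.fst D.obj.hom p' =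
      tr D (x₀ ≫ p') (x₁ ≫ p') h' (v ≫ pullback.fst D.obj.hom p') hv' :=
  pullback.lift_fst _ _ _

/-- A section gives a section of the pulled back datum. -/
noncomputable def Sec.pull {V V' : Scheme.{u}} {s : V ⟶ S} (c : Sec D s) (s' : V' ⟶ S')
    (m : V' ⟶ V) (hm : m ≫ s = s' ≫ p) (w : p' ≫ g = g' ≫ p) : Sec (pullDD w D) s' where
  σ := pullback.lift (c.app (pullback.fst g' s' ≫ p') (pullback.snd g' s' ≫ m)
      (by rw [Category.assoc, w, Category.assoc, hm, pullback.condition_assoc]))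
    (pullback.fst g' s') (c.app_hom _ _ _)
  w := pullback.lift_snd _ _ _
  compat {T} x₀ x₁ t h₀ h₁ := by
    apply pullback.hom_ext
    · have e : ∀ (x : T ⟶ X') (h : x ≫ g' = t ≫ s') (h'' : (x ≫ p') ≫ g = (t ≫ m) ≫ s),
          pullback.lift x t h ≫ c.app (pullback.fst g' s' ≫ p') (pullback.snd g' s' ≫ m)
            (by rw [Category.assoc, w, Category.assoc, hm, pullback.condition_assoc]) =
          c.app (x ≫ p') (t ≫ m) h'' := fun x h h'' => by
        rw [c.app_nat]
        exact c.app_congr _ _ (pullback.lift_fst_assoc _ _ _ _) (pullback.lift_snd_assoc _ _ _ _)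
      have hs : ∀ (x : T ⟶ X'), x ≫ g' = t ≫ s' → (x ≫ p') ≫ g = (t ≫ m) ≫ s := fun x h => by
        rw [Category.assoc, w, Category.assoc, hm, reassoc_of% h]
      have hh : (x₀ ≫ p') ≫ g = (x₁ ≫ p') ≫ g := (hs x₀ h₀).trans (hs x₁ h₁).symm
      have ev : ∀ (x : T ⟶ X') (h : x ≫ g' = t ≫ s'),
          (pullback.lift x t h ≫ pullback.lift (c.app (pullback.fst g' s' ≫ p')
            (pullback.snd g' s' ≫ m) (by rw [Category.assoc, w, Category.assoc, hm,
              pullback.condition_assoc])) (pullback.fst g' s') (c.app_hom _ _ _)) ≫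
            pullback.fst D.obj.hom p' = c.app (x ≫ p') (t ≫ m) (hs x h) := fun x h => by
        refine (Category.assoc _ _ _).trans ?_
        exact (congrArg (pullback.lift x t h ≫ ·) (pullback.lift_fst _ _ _)).trans (e x h _)
      refine (pullDD_tr_fst _ _ hh ?_).trans ?_
      · exact (congrArg (· ≫ D.obj.hom) (ev x₀ h₀)).trans (c.app_hom _ _ _)
      · exact (tr_congr hh hh _ (c.app_hom _ _ _) rfl rfl (ev x₀ h₀)).trans
          ((c.tr_app _ _ _ (hs x₀ h₀) (hs x₁ h₁) _ _).trans (ev x₁ h₁).symm)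
    · refine (tr_hom (D := pullDD w D) _ _).trans ?_
      rw [Category.assoc, pullback.lift_snd, pullback.lift_fst]

theorem HasLifts.pull (H : HasLifts D) (w : p' ≫ g = g' ≫ p) : HasLifts (pullDD w D) := by
  intro d'
  obtain ⟨V, s, hs, c, q, hq⟩ := H (pullback.fst D.obj.hom p' d')
  refine ⟨pullback s p, pullback.snd s p, inferInstance,
    c.pull (pullback.snd s p) (pullback.fst s p) pullback.condition w, ?_⟩
  obtain ⟨z, hz₁, hz₂⟩ := Scheme.Pullback.exists_preimage_pullback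
    (f := c.σ) (g := pullback.fst D.obj.hom p') q d' hq
  let a := pullback.fst c.σ (pullback.fst D.obj.hom p')
  let b := pullback.snd c.σ (pullback.fst D.obj.hom p')
  let x' := b ≫ pullback.snd D.obj.hom p'
  have hab : a ≫ c.σ = b ≫ pullback.fst D.obj.hom p' := pullback.condition
  have hx : x' ≫ p' = a ≫ pullback.fst g s := by
    rw [← c.w, reassoc_of% hab, pullback.condition]
    simp [x']
  let t : _ ⟶ pullback s p := pullback.lift (a ≫ pullback.snd g s) (x' ≫ g')
    (((Category.assoc _ _ _).trans (congrArg (a ≫ ·) pullback.condition.symm)).trans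
      (((Category.assoc _ _ _).symm.trans (congrArg (· ≫ g) hx.symm)).trans
        (((Category.assoc _ _ _).trans (congrArg (x' ≫ ·) w)).trans (Category.assoc _ _ _).symm)))
  let k : _ ⟶ pullback g' (pullback.snd s p) := pullback.lift x' t (pullback.lift_snd _ _ _).symm
  refine ⟨k z, ?_⟩
  rw [← Scheme.Hom.comp_apply, ← hz₂]
  have e : k ≫ (c.pull (pullback.snd s p) (pullback.fst s p) pullback.condition w).σ = b := by
    apply pullback.hom_ext
    · refine (Category.assoc _ _ _).trans ((congrArg (k ≫ ·) (pullback.lift_fst _ _ _)).trans ?_)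
      rw [c.app_nat, ← hab, c.comp_σ a]
      exact c.app_congr _ _ (by simp [k, hx]) (by simp [k, t])
    · refine (Category.assoc _ _ _).trans ((congrArg (k ≫ ·) (pullback.lift_snd _ _ _)).trans ?_)
      exact pullback.lift_fst _ _ _
  rw [e]
  rfl

/-- A section of the pullback along a cartesian square gives a section of the original datum. -/
noncomputable def Sec.push {V : Scheme.{u}} {s : V ⟶ S'} (c : Sec (pullDD w D) s)
    (H : IsPullback p' g' g p) : Sec D (s ≫ p) where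
  σ := c.app (H.lift (pullback.fst g (s ≫ p)) (pullback.snd g (s ≫ p) ≫ s)
      (by rw [pullback.condition, Category.assoc])) (pullback.snd g (s ≫ p))
      (H.lift_snd _ _ _) ≫ pullback.fst D.obj.hom p'
  w := by
    rw [Category.assoc, pullback.condition (f := D.obj.hom) (g := p')]
    show _ ≫ (pullDD w D).obj.hom ≫ p' = _
    rw [← Category.assoc, c.app_hom, H.lift_fst]
  compat {T} x₀ x₁ t h₀ h₁ := by
    let x' : ∀ (x : T ⟶ X), x ≫ g = t ≫ s ≫ p → (T ⟶ X') := fun x h =>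
      H.lift x (t ≫ s) (by rw [h, Category.assoc])
    have hx₁' : ∀ x h, x' x h ≫ p' = x := fun x h => H.lift_fst _ _ _
    have hx₂' : ∀ x h, x' x h ≫ g' = t ≫ s := fun x h => H.lift_snd _ _ _
    have e : ∀ (x : T ⟶ X) (h : x ≫ g = t ≫ s ≫ p),
        pullback.lift x t h ≫ c.app (H.lift (pullback.fst g (s ≫ p)) (pullback.snd g (s ≫ p) ≫ s)
          (by rw [pullback.condition, Category.assoc])) (pullback.snd g (s ≫ p))
          (H.lift_snd _ _ _) = c.app (x' x h) t (hx₂' x h) := fun x h => by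
      rw [c.app_nat]
      exact c.app_congr _ _ (H.hom_ext (by simp [x']) (by simp [x'])) (pullback.lift_snd _ _ _)
    have hv : ∀ x h, (c.app (x' x h) t (hx₂' x h) ≫ pullback.fst D.obj.hom p') ≫ D.obj.hom =
        x' x h ≫ p' := fun x h => by
      rw [Category.assoc, pullback.condition, ← Category.assoc]
      exact congrArg (· ≫ p') (c.app_hom _ _ _)
    have hh : (x' x₀ h₀ ≫ p') ≫ g = (x' x₁ h₁ ≫ p') ≫ g :=
      (congrArg (· ≫ g) (hx₁' x₀ h₀)).trans
        ((h₀.trans h₁.symm).trans (congrArg (· ≫ g) (hx₁' x₁ h₁)).symm)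
    have e' := fun x h => (Category.assoc _ _ _).symm.trans
      (congrArg (· ≫ pullback.fst D.obj.hom p') (e x h))
    have hc := (congrArg (· ≫ pullback.fst D.obj.hom p')
      (c.tr_app (x' x₀ h₀) (x' x₁ h₁) t (hx₂' x₀ h₀) (hx₂' x₁ h₁)
        ((hx₂' x₀ h₀).trans (hx₂' x₁ h₁).symm) (c.app_hom _ _ _))).symm.trans
      (pullDD_tr_fst _ _ hh (hv x₀ h₀))
    exact (tr_congr _ hh _ (hv x₀ h₀) (hx₁' x₀ h₀).symm (hx₁' x₁ h₁).symm (e' x₀ h₀)).trans
      (hc.symm.trans (e' x₁ h₁).symm)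

theorem Sec.range_push {V : Scheme.{u}} {s : V ⟶ S'} (c : Sec (pullDD w D) s)
    (H : IsPullback p' g' g p) :
    pullback.fst D.obj.hom p' '' Set.range c.σ ⊆ Set.range (c.push H).σ := by
  rintro _ ⟨_, ⟨q, rfl⟩, rfl⟩
  let k : pullback g' s ⟶ pullback g (s ≫ p) :=
    pullback.lift (pullback.fst g' s ≫ p') (pullback.snd g' s)
      (by rw [Category.assoc, w, pullback.condition_assoc])
  have e : k ≫ (c.push H).σ = c.σ ≫ pullback.fst D.obj.hom p' := by
    refine (Category.assoc _ _ _).symm.trans ?_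
    congr 1
    rw [c.app_nat]
    refine (c.app_congr _ pullback.condition (H.hom_ext ?_ ?_) (pullback.lift_snd _ _ _)).trans ?_
    · simp [k]
    · simp [k, pullback.condition]
    · rw [Sec.app, pullback.lift_fst_snd, Category.id_comp]
  exact ⟨k q, by rw [← Scheme.Hom.comp_apply, e]; rfl⟩

end pull

/-- Sections can be found étale locally on the base. -/
theorem hasLifts_of_etale_cover {g : X ⟶ S} {D : Desc.SchDD g} {ι : Type*} {S' X' : ι → Scheme.{u}}
    {g' : ∀ i, X' i ⟶ S' i} {p : ∀ i, S' i ⟶ S} [∀ i, Etale (p i)] {p' : ∀ i, X' i ⟶ X}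
    (H : ∀ i, IsPullback (p' i) (g' i) g (p i)) (hp : ∀ x : S, ∃ i, x ∈ Set.range (p i))
    (h : ∀ i, HasLifts (pullDD (H i).w D)) : HasLifts D := by
  intro d
  obtain ⟨i, s₀, hs₀⟩ := hp (g (D.obj.hom d))
  obtain ⟨z, hz₁, hz₂⟩ := Scheme.Pullback.exists_preimage_pullback
    (f := g) (g := p i) (D.obj.hom d) s₀ hs₀.symm
  let x' : X' i := (H i).isoPullback.inv z
  have hx' : p' i x' = D.obj.hom d := by
    rw [← Scheme.Hom.comp_apply, (H i).isoPullback_inv_fst, hz₁]
  obtain ⟨d', hd₁, -⟩ := Scheme.Pullback.exists_preimage_pullback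
    (f := D.obj.hom) (g := p' i) d x' hx'.symm
  obtain ⟨V, s, hs, c, hc⟩ := h i d'
  exact ⟨V, s ≫ p i, inferInstance, c.push (H i), Sec.range_push c (H i) ⟨d', hc, hd₁⟩⟩

section refine

variable {X' : Scheme.{u}} {g : X ⟶ S} {g' : X' ⟶ S} {p' : X' ⟶ X} (hg' : SGA1.UnivSubmersive g')
  (w : p' ≫ g = g' ≫ 𝟙 S) {D : Desc.SchDD g} [Etale D.obj.hom]

include hg' in
/-- Sections descend along refinements by universally submersive morphisms. -/
theorem exists_sec_of_refinement {V : Scheme.{u}} {s : V ⟶ S} (c : Sec (pullDD w D) s) :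
    ∃ C : Sec D s, ∀ {T : Scheme.{u}} (x : T ⟶ X) (x' : T ⟶ X') (t : T ⟶ V)
      (h : x ≫ g = t ≫ s) (h' : x' ≫ g' = t ≫ s) (hh : (x' ≫ p') ≫ g = x ≫ g)
      (hv : (c.app x' t h' ≫ pullback.fst D.obj.hom p') ≫ D.obj.hom = x' ≫ p'),
      C.app x t h = tr D (x' ≫ p') x hh (c.app x' t h' ≫ pullback.fst D.obj.hom p') hv := by
  have w' : p' ≫ g = g' := w.trans (Category.comp_id _)
  have hV : ∀ {T : Scheme.{u}} (x' : T ⟶ X') (t : T ⟶ V) (h' : x' ≫ g' = t ≫ s),
      (c.app x' t h' ≫ pullback.fst D.obj.hom p') ≫ D.obj.hom = x' ≫ p' := fun x' t h' => by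
    rw [Category.assoc, pullback.condition, ← Category.assoc]
    exact congrArg (· ≫ p') (c.app_hom _ _ _)
  let τ := pullback.snd g s ≫ s
  let e := pullback.snd g' τ
  have he : SGA1.UnivSubmersive e :=
    SGA1Q.univSubmersive_of_isPullback hg' (IsPullback.of_hasPullback g' τ).flip
  let Q := pullback g' τ
  let xQ : Q ⟶ X := e ≫ pullback.fst g s
  let xQ' : Q ⟶ X' := pullback.fst g' τ
  let tQ : Q ⟶ V := e ≫ pullback.snd g s
  have hQ' : xQ' ≫ g' = tQ ≫ s := by
    simp only [xQ', tQ, e, τ, Category.assoc, pullback.condition]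
  have hQ : (xQ' ≫ p') ≫ g = xQ ≫ g := by
    rw [Category.assoc, w', hQ']
    simp only [xQ, tQ, Category.assoc, pullback.condition]
  let b : Q ⟶ D.obj.left :=
    tr D (xQ' ≫ p') xQ hQ (c.app xQ' tQ hQ' ≫ pullback.fst D.obj.hom p') (hV _ _ _)
  obtain ⟨v, hv₁, hv₂⟩ := descend_to_etale e he D.obj.hom (pullback.fst g s) b (tr_hom _ _) (by
    have hc : pullback.fst e e ≫ e = pullback.snd e e ≫ e := pullback.condition
    set k₀ := pullback.fst e e
    set k₁ := pullback.snd e e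
    have ex : k₁ ≫ xQ = k₀ ≫ xQ := by simp only [xQ]; rw [reassoc_of% hc]
    have et : k₁ ≫ tQ = k₀ ≫ tQ := by simp only [tQ]; rw [reassoc_of% hc]
    simp only [b, tr_nat]
    have h0 : (k₀ ≫ xQ') ≫ g' = (k₀ ≫ tQ) ≫ s := by simp only [Category.assoc, hQ']
    have h1 : (k₁ ≫ xQ') ≫ g' = (k₀ ≫ tQ) ≫ s := by rw [← et]; simp only [Category.assoc, hQ']
    have hp : ∀ u : pullback e e ⟶ X', (u ≫ p') ≫ g = u ≫ g' := fun u => by
      rw [Category.assoc, w']
    have h01 : ((k₀ ≫ xQ') ≫ p') ≫ g = ((k₁ ≫ xQ') ≫ p') ≫ g :=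
      (hp _).trans (h0.trans (h1.symm.trans (hp _).symm))
    have key : tr D ((k₀ ≫ xQ') ≫ p') ((k₁ ≫ xQ') ≫ p') h01
        (c.app (k₀ ≫ xQ') (k₀ ≫ tQ) h0 ≫ pullback.fst D.obj.hom p') (hV _ _ _) =
        c.app (k₁ ≫ xQ') (k₀ ≫ tQ) h1 ≫ pullback.fst D.obj.hom p' := by
      rw [← pullDD_tr_fst (w := w) (h0.trans h1.symm) (c.app_hom _ _ _),
        c.tr_app _ _ _ h0 h1]
    have h12 : ((k₁ ≫ xQ') ≫ p') ≫ g = (k₀ ≫ xQ) ≫ g := by
      rw [← ex]; simp only [Category.assoc] at hQ ⊢; rw [hQ]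
    refine Eq.trans ?_ (Eq.trans (tr_comp h01 h12 (hV _ _ h0) (hV _ _ h1) key).symm ?_)
    · refine tr_congr _ _ _ _ (Category.assoc _ _ _).symm rfl ?_
      rw [← Category.assoc, c.app_nat]
    · refine tr_congr _ _ _ _ (Category.assoc _ _ _) ex.symm ?_
      rw [← Category.assoc k₁, c.app_nat, c.app_congr _ h1 rfl et])
  have hC : ∀ {T : Scheme.{u}} (x : T ⟶ X) (x' : T ⟶ X') (t : T ⟶ V)
      (h : x ≫ g = t ≫ s) (h' : x' ≫ g' = t ≫ s) (hh : (x' ≫ p') ≫ g = x ≫ g),
      pullback.lift x t h ≫ v =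
        tr D (x' ≫ p') x hh (c.app x' t h' ≫ pullback.fst D.obj.hom p') (hV x' t h') := by
    intro T x x' t h h' hh
    let k : T ⟶ Q := pullback.lift x' (pullback.lift x t h) (by simp [τ, h'])
    rw [show pullback.lift x t h = k ≫ e from (pullback.lift_snd _ _ _).symm, Category.assoc, hv₂]
    simp only [b, tr_nat]
    refine tr_congr _ _ _ _ (by simp [k, xQ']) (by simp [k, xQ, e]) ?_
    rw [← Category.assoc, c.app_nat]
    congr 1
    exact c.app_congr _ _ (pullback.lift_fst _ _ _) (by simp [k, tQ, e])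
  refine ⟨⟨v, hv₁, fun {T} x₀ x₁ t h₀ h₁ => ?_⟩, fun x x' t h h' hh _ => hC x x' t h h' hh⟩
  have : Surjective g' := surjective_of_univSubmersive hg'
  let h := pullback.fst (t ≫ s) g'
  let x' := pullback.snd (t ≫ s) g'
  have hx' : x' ≫ g' = (h ≫ t) ≫ s := by simp [h, x', pullback.condition]
  have hh : ∀ x : T ⟶ X, x ≫ g = t ≫ s → (x' ≫ p') ≫ g = (h ≫ x) ≫ g := fun x hx => by
    rw [Category.assoc, w', hx', Category.assoc, Category.assoc, hx]
  have he : ∀ (x : T ⟶ X) (hx : x ≫ g = t ≫ s), h ≫ pullback.lift x t hx ≫ v =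
      tr D (x' ≫ p') (h ≫ x) (hh x hx)
        (c.app x' (h ≫ t) hx' ≫ pullback.fst D.obj.hom p') (hV _ _ _) := fun x hx => by
    rw [← hC (h ≫ x) x' (h ≫ t) (by simp only [Category.assoc, hx]) hx', ← Category.assoc]
    congr 1
    apply pullback.hom_ext <;> simp
  refine hom_ext_of_surjective D.obj.hom h ((tr_hom _ _).trans ?_) ?_
  · rw [Category.assoc, hv₁, pullback.lift_fst]
  · rw [tr_nat, he x₁ h₁]
    exact (tr_congr _ _ _ (tr_hom (hh x₀ h₀) (hV _ _ hx')) rfl rfl (he x₀ h₀)).trans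
      (tr_comp (hh x₀ h₀) (by simp only [Category.assoc, h₀, h₁]) (hV _ _ hx') (tr_hom _ _) rfl)

include hg' in
theorem exists_sec_mem_of_refinement (P : ∀ {V : Scheme.{u}}, (V ⟶ S) → Prop) (d : D.obj.left)
    (H : ∀ d' : (pullDD w D).obj.left, g' ((pullDD w D).obj.hom d') = g (D.obj.hom d) →
      ∃ (V : Scheme.{u}) (s : V ⟶ S) (_ : P s) (c : Sec (pullDD w D) s), d' ∈ Set.range c.σ) :
    ∃ (V : Scheme.{u}) (s : V ⟶ S) (_ : P s) (C : Sec D s), d ∈ Set.range C.σ := by
  have w' : p' ≫ g = g' := w.trans (Category.comp_id _)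
  have : Surjective g' := surjective_of_univSubmersive hg'
  obtain ⟨x', hx'⟩ := g'.surjective (g (D.obj.hom d))
  obtain ⟨z, hz₁, -⟩ := Scheme.Pullback.exists_preimage_pullback
    (f := D.obj.hom ≫ g) (g := g') d x' (by rw [Scheme.Hom.comp_apply, hx'])
  let a := pullback.fst (D.obj.hom ≫ g) g'
  let xZ' := pullback.snd (D.obj.hom ≫ g) g'
  have hZ : (a ≫ D.obj.hom) ≫ g = (xZ' ≫ p') ≫ g := by
    rw [Category.assoc, Category.assoc, w']; exact pullback.condition
  let d' : _ ⟶ (pullDD w D).obj.left :=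
    pullback.lift (tr D _ _ hZ a rfl) xZ' (tr_hom _ _)
  obtain ⟨V, s, hs, c, q, hq⟩ := H (d' z) (by
    show g' (pullback.snd D.obj.hom p' (d' z)) = g (D.obj.hom d)
    have e : d' ≫ pullback.snd D.obj.hom p' ≫ g' = a ≫ D.obj.hom ≫ g :=
      ((Category.assoc _ _ _).symm.trans (congrArg (· ≫ g') (pullback.lift_snd _ _ _))).trans
        pullback.condition.symm
    rw [← hz₁]
    exact congrArg (fun m : _ ⟶ S => m z) e)
  obtain ⟨C, hC⟩ := exists_sec_of_refinement hg' w c
  refine ⟨V, s, hs, C, ?_⟩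
  obtain ⟨z', hz₁', -⟩ := Scheme.Pullback.exists_preimage_pullback (f := d') (g := c.σ) z q hq.symm
  let k := pullback.fst d' c.σ
  let l := pullback.snd d' c.σ
  have hkl : k ≫ d' = l ≫ c.σ := pullback.condition
  have hx : l ≫ pullback.fst g' s = k ≫ xZ' := by
    rw [← c.w, ← reassoc_of% hkl]
    exact congrArg (k ≫ ·) (pullback.lift_snd _ _ _)
  let t := l ≫ pullback.snd g' s
  have ht' : (k ≫ xZ') ≫ g' = t ≫ s := by
    rw [← hx]; simp [t, pullback.condition]
  have ht : (k ≫ a ≫ D.obj.hom) ≫ g = t ≫ s := by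
    rw [Category.assoc, hZ, Category.assoc, w', ← Category.assoc, ht']
  let j : _ ⟶ pullback g s := pullback.lift _ t ht
  have hj : j ≫ C.σ = k ≫ a := by
    have e : c.app (k ≫ xZ') t ht' ≫ pullback.fst D.obj.hom p' = k ≫ tr D _ _ hZ a rfl := by
      have h1 : c.app (k ≫ xZ') t ht' = k ≫ d' := by
        rw [hkl, c.comp_σ l]
        exact c.app_congr _ _ hx.symm rfl
      rw [h1, Category.assoc]
      exact congrArg (k ≫ ·) (pullback.lift_fst _ _ _)
    show C.app _ t ht = _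
    rw [hC _ (k ≫ xZ') t ht ht' (by rw [Category.assoc, w', ht', ht])
      (by rw [e, Category.assoc, tr_hom, Category.assoc])]
    rw [tr_congr _ (by simp only [Category.assoc] at hZ ⊢; rw [hZ] ) _ (tr_hom _ _)
      (Category.assoc _ _ _) rfl (e.trans (tr_nat k hZ rfl))]
    rw [tr_comp (by simp only [Category.assoc] at hZ ⊢; rw [hZ]) _ _ _ rfl]
    exact tr_self _ _
  refine ⟨j z', ?_⟩
  rw [← Scheme.Hom.comp_apply, hj, Scheme.Hom.comp_apply, hz₁', hz₁]

include hg' in
theorem hasLifts_of_refinement (H : HasLifts (pullDD w D)) : HasLifts D := fun d =>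
  exists_sec_mem_of_refinement hg' w (fun s => Etale s) d fun d' _ => H d'

end refine

/-- Quasi-compactness of an effective solution. -/
theorem quasiCompact_of_iso {g : X ⟶ S} [Surjective g] [QuasiCompact g] {D : Desc.SchDD g}
    [QuasiCompact D.obj.hom] {U : Over S} (e : (Desc.toDD g).obj U ≅ D) : QuasiCompact U.hom := by
  obtain ⟨c, _⟩ := exists_sec_of_iso e
  have : QuasiCompact (c.σ ≫ D.obj.hom) := inferInstance
  have : QuasiCompact (pullback.snd g U.hom ≫ U.hom) := by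
    rw [← pullback.condition, ← c.w]; infer_instance
  refine ⟨fun W hW hc => ?_⟩
  rw [show (U.hom ⁻¹' W) =
    pullback.snd g U.hom '' ((pullback.snd g U.hom ≫ U.hom) ⁻¹' W) by
      rw [Scheme.Hom.comp_base, TopCat.coe_comp, Set.preimage_comp,
        Set.image_preimage_eq _ (pullback.snd g U.hom).surjective]]
  exact ((QuasiCompact.isCompact_preimage (f := pullback.snd g U.hom ≫ U.hom) W hW hc).image
    (pullback.snd g U.hom).continuous)

end Groth.Agent.EtEff48
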