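import Groth.Agent.EtEff48.HFunctor
import Groth.Agent.TopDesc98.SS1.Tot
import Mathlib.AlgebraicTopology.ExtraDegeneracy
import Groth.Prelude.Def_SpSeq

/-!
# The descent spectral sequence of a morphism with a section

The Čech complexes `q ↦ (p ↦ H^q(X_p, F|X_p))` are contractible by the extra degeneracy of the Čech nerve of a
split epimorphism; their double complex (vertical differential zero) gives the spectral sequence.
-/

set_option autoImplicit false
set_option backward.isDefEq.respectTransparency false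
set_option backward.isDefEq.respectTransparency.types false

universe u

open CategoryTheory CategoryTheory.Limits CategoryTheory.Abelian AlgebraicGeometry Opposite Simplicial

namespace Groth.Agent.EtEff48.SectSS

open Groth.Agent.TopDesc98

/-- An augmented simplicial scheme, as an augmented simplicial object over its point. -/
noncomputable def overAug (N : SimplicialObject.Augmented Scheme.{u}) :
    SimplicialObject.Augmented (Over N.right) where
  left :=
    { obj n := Over.mk (N.hom.app n)
      map {n m} g := Over.homMk (N.left.map g) (by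
        have := N.hom.naturality g
        exact this.trans (Category.comp_id _))
      map_id n := Over.OverMorphism.ext (N.left.map_id n)
      map_comp g h := Over.OverMorphism.ext (N.left.map_comp g h) }
  right := Over.mk (𝟙 N.right)
  hom :=
    { app n := Over.homMk (N.hom.app n) (Category.comp_id _)
      naturality {n m} g := Over.OverMorphism.ext (N.hom.naturality g) }

theorem s_over {N : SimplicialObject.Augmented Scheme.{u}} (ed : N.ExtraDegeneracy) (n : ℕ) :
    ed.s n ≫ N.hom.app (op ⦋n + 1⦌) = N.hom.app (op ⦋n⦌) := by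
  have h : N.left.δ 0 ≫ N.hom.app (op ⦋n⦌) = N.hom.app (op ⦋n + 1⦌) :=
    (N.hom.naturality (SimplexCategory.δ (0 : Fin (n + 2))).op).trans (Category.comp_id _)
  rw [← h, ← Category.assoc]
  exact (congrArg (· ≫ N.hom.app (op ⦋n⦌)) (ed.s_comp_δ₀ n)).trans (Category.id_comp _)

/-- The extra degeneracy, over the point. -/
noncomputable def overDeg {N : SimplicialObject.Augmented Scheme.{u}} (ed : N.ExtraDegeneracy) :
    (overAug N).ExtraDegeneracy where
  s' := Over.homMk ed.s' ed.s'_comp_ε
  s n := Over.homMk (ed.s n) (s_over ed n)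
  s'_comp_ε := Over.OverMorphism.ext ed.s'_comp_ε
  s₀_comp_δ₁ := Over.OverMorphism.ext ed.s₀_comp_δ₁
  s_comp_δ₀ n := Over.OverMorphism.ext (ed.s_comp_δ₀ n)
  s_comp_δ n i := Over.OverMorphism.ext (ed.s_comp_δ n i)
  s_comp_σ n i := Over.OverMorphism.ext (ed.s_comp_σ n i)

variable (M : ℕ → SimplicialObject.Augmented AddCommGrpCat.{u + 1}ᵒᵖ)

/-- The term in bidegree `(p, q)`. -/
def term : ℤ → ℤ → AddCommGrpCat.{u + 1}
  | Int.ofNat p, Int.ofNat q => ((M q).left.obj (op ⦋p⦌)).unop
  | _, _ => AddCommGrpCat.of PUnit.{u + 2}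

/-- The horizontal differential. -/
noncomputable def hd : ∀ p q : ℤ, term M p q ⟶ term M (p + 1) q
  | Int.ofNat p, Int.ofNat q =>
    ((AlgebraicTopology.AlternatingFaceMapComplex.obj (SimplicialObject.Augmented.drop.obj (M q))).d (p + 1) p).unop
  | Int.ofNat _, Int.negSucc _ => 0
  | Int.negSucc _, _ => 0

/-- A column, with zero differential. -/
noncomputable def col (p : ℤ) : CochainComplex AddCommGrpCat.{u + 1} ℤ where
  X := term M p
  d _ _ := 0
  shape _ _ _ := rfl
  d_comp_d' _ _ _ _ _ := zero_comp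

/-- The double complex. -/
noncomputable def dcx : DCx.{u + 1} :=
  CochainComplex.of (col M) (fun p => { f := fun q => hd M p q, comm' := fun _ _ _ => comp_zero.trans zero_comp.symm })
    fun p => by
      refine HomologicalComplex.hom_ext _ _ fun q => ?_
      change hd M p q ≫ hd M (p + 1) q = 0
      rcases p with p | p
      · rcases q with q | q
        · exact unop_comp.symm.trans
            ((congrArg Quiver.Hom.unop ((AlgebraicTopology.AlternatingFaceMapComplex.obj
              (SimplicialObject.Augmented.drop.obj (M q))).d_comp_d (p + 1 + 1) (p + 1) p)).trans (unop_zero _ _))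
        · exact zero_comp
      · exact zero_comp

theorem dcx_X (p q : ℤ) : ((dcx M).X p).X q = term M p q := rfl

theorem dcx_h (p q : ℤ) : ((dcx M).d p (p + 1)).f q = hd M p q :=
  congrArg (fun φ : col M p ⟶ col M (p + 1) => φ.f q)
    (CochainComplex.of_d (col M) (fun p => ({ f := fun q => hd M p q, comm' := fun _ _ _ => comp_zero.trans zero_comp.symm } : col M p ⟶ col M (p + 1))) p)

theorem subsingleton_term {p q : ℤ} (h : p < 0 ∨ q < 0) : Subsingleton (term M p q) := by
  rcases p with p | p <;> rcases q with q | q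
  · simp at h; omega
  all_goals exact inferInstanceAs (Subsingleton PUnit)

theorem isQuad : IsQuad (dcx M) := fun p q h =>
  have := subsingleton_term M h
  AddCommGrpCat.isZero_of_subsingleton (term M p q)

theorem nonempty_col_homology (p q : ℤ) : Nonempty (((dcx M).X p).homology q ≅ term M p q) :=
  ⟨(ShortComplex.LeftHomologyData.ofZeros ((col M p).sc q) rfl rfl).homologyIso⟩

section Exact

variable {M} (ed : ∀ q, (M q).ExtraDegeneracy)

/-- The augmentation. -/
noncomputable abbrev aug (q : ℕ) : (M q).right.unop ⟶ term M 0 q := ((M q).hom.app (op ⦋0⦌)).unop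

include ed in
theorem aug_injective (q : ℕ) : Function.Injective (aug (M := M) q) := fun x y h => by
  have e := ConcreteCategory.congr_hom (congrArg Quiver.Hom.unop (ed q).s'_comp_ε)
  have := congrArg (fun z => (ed q).s'.unop z) h
  exact (e x).symm.trans (Eq.trans this (e y))

theorem hd_aug (q : ℕ) (x : (M q).right.unop) : hd M 0 q (aug q x) = 0 := by
  have h := (AlgebraicTopology.AlternatingFaceMapComplex.ε.app (M q)).comm 1 0
  rw [AlgebraicTopology.AlternatingFaceMapComplex.ε_app_f_succ, zero_comp, AlgebraicTopology.AlternatingFaceMapComplex.ε_app_f_zero] at h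
  exact ConcreteCategory.congr_hom (congrArg Quiver.Hom.unop h.symm) x

include ed in
theorem exists_aug (q : ℕ) (x : term M 0 q) (h : hd M 0 q x = 0) : ∃ y, aug q y = x := by
  let e := (ed q).homotopyEquiv
  have hc := e.homotopyHomInvId.comm 0
  rw [Homotopy.prevD_chainComplex, Homotopy.dNext_zero_chainComplex, zero_add] at hc
  have hc' := ConcreteCategory.congr_hom (congrArg Quiver.Hom.unop hc) x
  refine ⟨(e.inv.f 0).unop x, ?_⟩
  have hz : ((AlgebraicTopology.AlternatingFaceMapComplex.obj
      (SimplicialObject.Augmented.drop.obj (M q))).d 1 0).unop x = 0 := h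
  simp only [unop_add, unop_comp, HomologicalComplex.comp_f, HomologicalComplex.id_f, unop_id,
    AddCommGrpCat.hom_add, AddMonoidHom.add_apply, ConcreteCategory.comp_apply, hz, map_zero, zero_add,
    ConcreteCategory.id_apply] at hc'
  exact hc'

include ed in
theorem exists_hd (q p : ℕ) (x : term M ((p : ℤ) + 1) q) (h : hd M ((p : ℤ) + 1) q x = 0) :
    ∃ y, hd M p q y = x := by
  let e := (ed q).homotopyEquiv
  have hc := e.homotopyHomInvId.comm (p + 1)
  rw [Homotopy.prevD_chainComplex, Homotopy.dNext_succ_chainComplex] at hc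
  have hc' := ConcreteCategory.congr_hom (congrArg Quiver.Hom.unop hc) x
  have hz : ((AlgebraicTopology.AlternatingFaceMapComplex.obj
      (SimplicialObject.Augmented.drop.obj (M q))).d (p + 1 + 1) (p + 1)).unop x = 0 := h
  have h0 : (e.hom ≫ e.inv).f (p + 1) = 0 := by
    rw [HomologicalComplex.comp_f]
    exact (HomologicalComplex.isZero_single_obj_X _ _ _ _ (Nat.succ_ne_zero p)).eq_of_tgt (e.hom.f (p + 1)) 0 ▸ zero_comp
  rw [h0] at hc'
  simp only [unop_add, unop_comp, HomologicalComplex.id_f, unop_id, unop_zero,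
    AddCommGrpCat.hom_add, AddMonoidHom.add_apply, ConcreteCategory.comp_apply, hz, map_zero, add_zero,
    AddCommGrpCat.hom_zero, AddMonoidHom.zero_apply,
    ConcreteCategory.id_apply] at hc'
  refine ⟨-((e.homotopyHomInvId.hom p (p + 1)).unop x), ?_⟩
  rw [map_neg, neg_eq_iff_add_eq_zero]
  exact hc'.symm

end Exact

section Total

variable {M}

theorem subsingleton_step {n : ℤ} (hn : n < 0) : Subsingleton (DCx.stepGrp (dcx M) ⊤ n) :=
  subsingleton_of_forall_eq 0 fun x => Subtype.ext <| funext fun p => funext fun q => by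
    by_cases h : p + q = n
    · have := subsingleton_term M (p := p) (q := q) (by omega)
      exact @Subsingleton.elim (term M p q) this _ _
    · exact x.2 p q (Or.inl h)

theorem D_dcx (z : ∀ p q : ℤ, term M p q) (p q : ℤ) :
    DCx.D (dcx M) z p q = ((dcx M).d (p - 1) p).f q (z (p - 1) q) := by
  rw [DCx.D_apply]
  refine Eq.trans (congrArg (· + _) ?_) (zero_add _)
  show (p.negOnePow : ℤ) • (((col M p).d (q - 1) q).hom (z p (q - 1))) = 0
  exact smul_zero _

theorem D_dcx_succ (z : ∀ p q : ℤ, term M p q) (p q : ℤ) :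
    DCx.D (dcx M) z (p + 1) q = hd M p q (z p q) := by
  rw [D_dcx]
  have key : ∀ p' : ℤ, p' = p → ((dcx M).d p' (p + 1)).f q (z p' q) = hd M p q (z p q) := by
    rintro _ rfl
    exact ConcreteCategory.congr_hom (dcx_h M _ q) _
  exact key _ (by omega)

open scoped Classical in
/-- A family concentrated in one bidegree. -/
noncomputable def one (p q : ℤ) (x : term M p q) : ∀ p' q' : ℤ, term M p' q' := fun p' q' =>
  if h : p' = p ∧ q' = q then h.1.symm ▸ h.2.symm ▸ x else 0

theorem one_self (p q : ℤ) (x : term M p q) : one p q x p q = x := by simp [one]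

theorem one_ne {p q : ℤ} (x : term M p q) {p' q' : ℤ} (h : ¬ (p' = p ∧ q' = q)) : one p q x p' q' = 0 :=
  dif_neg h

variable (ed : ∀ q, (M q).ExtraDegeneracy)

theorem mem_step_top {n : ℤ} {z : ∀ p q : ℤ, term M p q} (h : ∀ p q, p + q ≠ n → z p q = 0) :
    z ∈ DCx.stepGrp (dcx M) ⊤ n := fun p q hpq => by
  rcases hpq with hpq | hpq
  · exact h p q hpq
  · exact absurd le_top hpq

/-- The augmentation into the total complex. -/
noncomputable def augStep (n : ℕ) (x : (M n).right.unop) : DCx.stepGrp (dcx M) ⊤ (n : ℤ) :=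
  ⟨one 0 n (aug n x), mem_step_top fun p q h => one_ne _ (by rintro ⟨rfl, rfl⟩; omega)⟩

theorem D_augStep (n : ℕ) (x : (M n).right.unop) : DCx.D (dcx M) (augStep n x).1 = 0 := by
  refine funext fun p => funext fun q => ?_
  obtain ⟨p, rfl⟩ : ∃ p₀, p = p₀ + 1 := ⟨p - 1, by omega⟩
  rw [D_dcx_succ]
  change hd M p q (one 0 n (aug n x) p q) = 0
  by_cases h : p = 0 ∧ q = n
  · obtain ⟨rfl, rfl⟩ := h
    rw [one_self]
    exact hd_aug n x
  · rw [one_ne _ h]
    exact map_zero _

include ed in
theorem nonempty_total_iso (n : ℕ) : Nonempty ((DCx.total (dcx M)).homology (n : ℤ) ≅ (M n).right.unop) := by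
  let S := (DCx.total (dcx M)).sc' ((n : ℤ) - 1) n ((n : ℤ) + 1)
  have eS : (DCx.total (dcx M)).homology (n : ℤ) ≅ S.homology :=
    (DCx.total (dcx M)).homologyIsoSc' _ _ _ (by simp) (by simp)
  have hker : ∀ x : (M n).right.unop, S.g.hom (augStep n x) = 0 := fun x => Subtype.ext
    ((DCx.stepCx_d (dcx M) ⊤ (n : ℤ) (augStep n x)).trans (D_augStep n x))
  let φ : (M n).right.unop →+ (AddMonoidHom.ker S.g.hom) ⧸ AddMonoidHom.range S.abToCycles :=
    AddMonoidHom.mk' (fun x => QuotientAddGroup.mk ⟨augStep n x, hker x⟩) fun x y => by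
      refine congrArg QuotientAddGroup.mk (Subtype.ext (Subtype.ext (funext fun p => funext fun q => ?_)))
      change one 0 n (aug n (x + y)) p q = one 0 n (aug n x) p q + one 0 n (aug n y) p q
      by_cases h : p = 0 ∧ q = n
      · obtain ⟨rfl, rfl⟩ := h
        rw [one_self, one_self, one_self, map_add]
      · rw [one_ne _ h, one_ne _ h, one_ne _ h, add_zero]
  have hf : ∀ (w : DCx.stepGrp (dcx M) ⊤ ((n : ℤ) - 1)) (p q : ℤ),
      (S.f.hom w).1 p q = DCx.D (dcx M) w.1 p q := fun w p q => by
    have key : ∀ m : ℤ, m = (n : ℤ) - 1 + 1 → ∀ (w : DCx.stepGrp (dcx M) ⊤ ((n : ℤ) - 1)),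
        (((DCx.total (dcx M)).d ((n : ℤ) - 1) m).hom w : DCx.stepGrp (dcx M) ⊤ m).1 = DCx.D (dcx M) w.1 := by
      rintro _ rfl w
      exact DCx.stepCx_d (dcx M) ⊤ _ w
    exact congrFun (congrFun (key n (by omega) w) p) q
  have hbij : Function.Bijective φ := by
    refine ⟨(injective_iff_map_eq_zero φ).2 fun x hx => ?_, fun c => ?_⟩
    · obtain ⟨w, hw⟩ := (QuotientAddGroup.eq_zero_iff _).1 hx
      have hw0 : (S.f.hom w).1 0 n = aug n x :=
        (congrArg (fun z : AddMonoidHom.ker S.g.hom => (z.1 : DCx.stepGrp (dcx M) ⊤ (n : ℤ)).1 0 n) hw).trans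
          (one_self 0 n _)
      rw [hf, D_dcx] at hw0
      have := subsingleton_term M (p := (0 : ℤ) - 1) (q := (n : ℤ)) (Or.inl (by omega))
      rw [@Subsingleton.elim _ this (w.1 ((0 : ℤ) - 1) n) 0, map_zero] at hw0
      exact aug_injective ed n (hw0.symm.trans (map_zero _).symm)
    · obtain ⟨⟨z, hz⟩, rfl⟩ := QuotientAddGroup.mk_surjective c
      let z' : DCx.stepGrp (dcx M) ⊤ (n : ℤ) := z
      have hD : ∀ p q, hd M p q (z'.1 p q) = 0 := fun p q =>
        (D_dcx_succ z'.1 p q).symm.trans (congrFun (congrFun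
          ((DCx.stepCx_d (dcx M) ⊤ (n : ℤ) z').symm.trans
            (congrArg (fun t : DCx.stepGrp (dcx M) ⊤ ((n : ℤ) + 1) => t.1) hz)) _) q)
      obtain ⟨y, hy⟩ := exists_aug ed n (z'.1 0 n) (hD 0 n)
      have hw : ∀ p q : ℤ, ∃ t : term M p q, ((p + q ≠ (n : ℤ) - 1 ∨ p < 0) → t = 0) ∧
          (p + q = (n : ℤ) - 1 → p ≠ -1 → hd M p q t = z'.1 (p + 1) q) := fun p q => by
        by_cases h : p + q = (n : ℤ) - 1 ∧ 0 ≤ p
        · by_cases h' : q < 0
          · refine ⟨0, fun e => absurd e (by omega), fun _ _ => ?_⟩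
            rw [map_zero]
            have : Subsingleton (term M (p + 1) q) := subsingleton_term M (Or.inr h')
            exact Subsingleton.elim _ _
          · obtain ⟨p, rfl⟩ := Int.eq_ofNat_of_zero_le h.2
            obtain ⟨q, rfl⟩ := Int.eq_ofNat_of_zero_le (show 0 ≤ q by omega)
            obtain ⟨t, ht⟩ := exists_hd ed q p (z'.1 ((p : ℤ) + 1) q) (hD _ _)
            exact ⟨t, fun e => absurd e (by omega), fun _ _ => ht⟩
        · refine ⟨0, fun _ => rfl, fun e e' => ?_⟩
          rw [map_zero]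
          have : Subsingleton (term M (p + 1) q) := subsingleton_term M (by omega)
          exact Subsingleton.elim _ _
      choose w hw₀ hw₁ using hw
      refine ⟨y, (QuotientAddGroup.eq_iff_sub_mem.2 ?_)⟩
      refine ⟨-(⟨w, mem_step_top fun p q h => hw₀ p q (Or.inl h)⟩ : DCx.stepGrp (dcx M) ⊤ ((n : ℤ) - 1)),
        Subtype.ext (Subtype.ext (funext fun p => funext fun q => ?_))⟩
      change (S.f.hom (-(⟨w, mem_step_top fun p q h => hw₀ p q (Or.inl h)⟩ : DCx.stepGrp (dcx M) ⊤ ((n : ℤ) - 1)))).1 p q =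
        (one 0 n (aug n y) p q : term M p q) - (show term M p q from z'.1 p q)
      rw [hf]
      obtain ⟨p, rfl⟩ : ∃ p₀, p = p₀ + 1 := ⟨p - 1, by omega⟩
      rw [D_dcx_succ]
      change hd M p q (-(w p q)) = _
      rw [map_neg]
      by_cases h : p + 1 + q = (n : ℤ)
      · by_cases h0 : p + 1 = 0
        · obtain rfl : p = -1 := by omega
          obtain rfl : q = (n : ℤ) := by omega
          have e : one 0 (n : ℤ) (aug n y) (-1 + 1) n = aug n y := one_self 0 n _
          rw [e]
          refine Eq.trans ?_ (sub_eq_zero.2 hy).symm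
          exact neg_eq_zero.2 rfl
        · rw [one_ne _ (by rintro ⟨e, -⟩; exact h0 e), hw₁ p q (by omega) (by omega), zero_sub]
      · rw [hw₀ p q (by omega), map_zero, neg_zero, one_ne _ (by rintro ⟨e, e'⟩; omega),
          z'.2 (p + 1) q (Or.inl h), sub_zero]
  exact ⟨eS ≪≫ S.abHomologyIso ≪≫ (AddEquiv.ofBijective φ hbij).toAddCommGrpIso.symm⟩

theorem nonempty_total_iso_neg {n : ℤ} (hn : n < 0) :
    Nonempty ((DCx.total (dcx M)).homology n ≅ AddCommGrpCat.of PUnit.{u + 2}) := by
  have := subsingleton_step (M := M) hn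
  refine ⟨IsZero.iso (DCx.isZero_homology_of_isZero ?_) (AddCommGrpCat.isZero_of_subsingleton _)⟩
  exact @AddCommGrpCat.isZero_of_subsingleton (AddCommGrpCat.of (DCx.stepGrp (dcx M) ⊤ n)) this

end Total

/-- The descent spectral sequence of a morphism with a section. -/
theorem exists_ss {X Y : Scheme.{u}} (f : X ⟶ Y) (s : Y ⟶ X) (hs : s ≫ f = 𝟙 Y) (F : EtCoh.Ab Y) :
    ∃ (E : CohomologicalSpectralSequence AddCommGrpCat.{u + 1} 1)
      (a : SpSeq.Abutment E (fun n : ℤ =>
        if 0 ≤ n then AddCommGrpCat.of (EtCoh.H Y F n.toNat) else AddCommGrpCat.of PUnit.{u + 2})),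
      (∀ n, a.IsFinite n) ∧ SpSeq.IsBounded E ∧
      ∀ p q : ℤ, Nonempty ((E.page 1 le_rfl).X (p, q) ≅
        (if 0 ≤ p ∧ 0 ≤ q then
          AddCommGrpCat.of (EtCoh.H (widePullback Y (fun _ : Fin (p.toNat + 1) => X) (fun _ => f))
            ((EtCoh.pull (WidePullback.base (fun _ : Fin (p.toNat + 1) => f) :
              widePullback Y (fun _ : Fin (p.toNat + 1) => X) (fun _ => f) ⟶ Y)).obj F) q.toNat)
         else AddCommGrpCat.of PUnit.{u + 2})) := by
  let S : SplitEpi (Arrow.mk f).hom := ⟨s, hs⟩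
  let N := (Arrow.mk f).augmentedCechNerve
  let M : ℕ → SimplicialObject.Augmented AddCommGrpCat.{u + 1}ᵒᵖ := fun q =>
    ((SimplicialObject.Augmented.whiskering _ _).obj (HFun.hFun F q)).obj (overAug N)
  let ed : ∀ q, (M q).ExtraDegeneracy := fun q =>
    (overDeg (Arrow.AugmentedCechNerve.extraDegeneracy (Arrow.mk f) S)).map (HFun.hFun F q)
  refine exists_spectralSequence (dcx M) (isQuad M) _ (fun n => ?_) _ (fun p q => ?_)
  · by_cases hn : 0 ≤ n
    · obtain ⟨m, rfl⟩ := Int.eq_ofNat_of_zero_le hn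
      obtain ⟨e⟩ := nonempty_total_iso ed m
      obtain ⟨e'⟩ := HFun.nonempty_hFun_id F m
      exact ⟨e ≪≫ e' ≪≫ eqToIso (by simp)⟩
    · obtain ⟨e⟩ := nonempty_total_iso_neg (M := M) (not_le.1 hn)
      exact ⟨e ≪≫ eqToIso (by rw [if_neg hn])⟩
  · obtain ⟨e⟩ := nonempty_col_homology M p q
    refine ⟨e ≪≫ eqToIso ?_⟩
    rcases p with p | p <;> rcases q with q | q
    · rw [if_pos ⟨Int.natCast_nonneg p, Int.natCast_nonneg q⟩]
      rfl
    all_goals rw [if_neg (by omega)]; rfl

end Groth.Agent.EtEff48.SectSS
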