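import Groth.Prelude
import Groth.Agent.AlgSpDec.LqfScheme
import Groth.Agent.AlgSpDec.QuotRep
import Groth.Agent.AlgSpPts.Quot
import Groth.Agent.AlgSpPts.Diag
import Groth.Agent.AlgSpLib.EtLocalInst
import Groth.Agent.AlgSpLib.Descends2
import Groth.Agent.SrcDescent.LocalAtSource

/-!
# Quotients of étale schemes by closed étale equivalence relations
-/

set_option autoImplicit false
set_option backward.isDefEq.respectTransparency false
set_option backward.isDefEq.respectTransparency.types false

universe u

open CategoryTheory Limits AlgebraicGeometry AlgSp Groth.Agent.AlgSpLib Groth.Agent.AlgSpPts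

namespace Groth.Agent.EtEff48

variable {S : Scheme.{u}}

/-- An étale `S`-scheme modulo a closed étale equivalence relation is an étale separated `S`-scheme. -/
theorem exists_etale_quotient {R W : Over S} [Etale W.hom] (s t : R ⟶ W) (h : IsEtaleEqvRel s t)
    (hcl : IsClosedImmersion (prod.lift t s).left) :
    ∃ (U : Over S) (π : W ⟶ U), IsSeparated U.hom ∧ Etale U.hom ∧ Surjective π.left ∧ Etale π.left ∧
      IsPullback t s π π := by
  let P := QuotSh.quot Scheme.fppfPrecoverage s t
  let q := quotMap s t
  have : Epi q := by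
    have : Epi (QuotSh.quotπ Scheme.fppfPrecoverage s t) := by
      unfold QuotSh.quotπ
      infer_instance
    exact epi_comp _ _
  have : Sheaf.IsLocallySurjective q := (CategoryTheory.Sheaf.isLocallySurjective_iff_epi q).2 inferInstance
  have hsq := isPullback_quotMap h.toIsEqvRel
  have := h.etale_left
  have : Surjective s.left := ⟨fun x => by
    obtain ⟨r, -, hr2⟩ := (h.equivalence W).refl (𝟙 W)
    exact ⟨r.left x, by rw [← Scheme.Hom.comp_apply, ← Over.comp_left, hr2, Over.id_left]; rfl⟩⟩
  have hP : IsAlgSpace P := AlgSpDec.isAlgSpace_of_etale_kernelPair hsq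
  have hrep : Representable q := hP.representable_from_yon q
  have := isLocalAtTarget_fppf (@Etale : MorphismProperty Scheme.{u})
  have := isLocalAtTarget_fppf (@Surjective : MorphismProperty Scheme.{u})
  have := isLocalAtTarget_fppf (@IsClosedImmersion : MorphismProperty Scheme.{u})
  have hq : RepWith @Etale q :=
    repWith_of_locallySurjective hrep _ hsq @Etale ((repWith_yon_map_iff _ _).2 ‹Etale s.left›)
  have hqs : RepWith @Surjective q :=
    repWith_of_locallySurjective hrep _ hsq @Surjective ((repWith_yon_map_iff _ _).2 ‹Surjective s.left›)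
  let T : Over S := Over.mk (𝟙 S)
  let f : P ⟶ (yon S).obj T := (isTerminalYon S).from P
  have hsep : IsSeparatedMor f :=
    (repWith_diag_iff _ P).1 (repWith_diag_of_chart @IsClosedImmersion hP.diag q hq hqs t s hsq hcl)
  have hT : (Over.mkIdTerminal.from W).left = W.hom := by
    simpa using Over.w (Over.mkIdTerminal.from W)
  have hlqf : LocP (@LocallyQuasiFinite ⊓ @LocallyOfFiniteType) f :=
    locP_of_chart (h := Over.mkIdTerminal.from W) hq hqs (repWith_of_isIso @Etale (𝟙 ((yon S).obj T)))
      (by rw [Category.comp_id]; exact (isTerminalYon S).hom_ext _ _) (by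
        rw [hT]
        exact ⟨locallyQuasiFinite_of_formallyUnramified W.hom, inferInstance⟩)
  obtain ⟨U, ⟨e⟩⟩ := AlgSpDec.exists_iso_of_lqf_separated hP f hlqf hsep
  obtain ⟨π, hπ⟩ := (yon S).map_surjective (q ≫ e.inv)
  have hπe : RepWith @Etale ((yon S).map π) := by
    rw [hπ]; exact (RepWith (S := S) @Etale).cancel_right_of_respectsIso q e.inv |>.2 hq
  have hπs : RepWith @Surjective ((yon S).map π) := by
    rw [hπ]; exact (RepWith (S := S) @Surjective).cancel_right_of_respectsIso q e.inv |>.2 hqs
  have hUsep : IsSeparatedMor ((yon S).map (Over.mkIdTerminal.from U)) := by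
    rw [(isTerminalYon S).hom_ext ((yon S).map (Over.mkIdTerminal.from U)) (e.hom ≫ f)]
    exact (RepWith (S := S) @IsClosedImmersion).diagonal.cancel_left_of_respectsIso e.hom f |>.2 hsep
  have hπe' : Etale π.left := (repWith_yon_map_iff _ _).1 hπe
  have hπs' : Surjective π.left := (repWith_yon_map_iff _ _).1 hπs
  refine ⟨U, π, ?_, ?_, hπs', hπe', ?_⟩
  · have h2 : RepWith @IsClosedImmersion (Limits.diag ((yon S).obj U)) := by
      refine (repWith_diag_iff _ ((yon S).obj U)).2 ?_
      have e2 : ∀ g g' : (yon S).obj U ⟶ (yon S).obj T, IsSeparatedMor g → IsSeparatedMor g' := fun g g' hg => by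
        rwa [(isTerminalYon S).hom_ext g' g]
      exact e2 _ _ hUsep
    exact ⟨(repWith_diag_yon_iff _ U).1 h2⟩
  · exact SrcDescent.etale_of_etale_comp π.left U.hom (by rw [Over.w]; infer_instance)
  · refine IsPullback.of_map (yon S) ((yon S).map_injective ?_) ?_
    · rw [Functor.map_comp, Functor.map_comp, hπ]; exact (Category.assoc _ _ _).symm.trans ((congrArg (· ≫ e.inv) hsq.w).trans (Category.assoc _ _ _))
    · exact hsq.of_iso (Iso.refl _) (Iso.refl _) (Iso.refl _) e.symm (by simp) (by simp) (by simp [hπ, q])
        (by simp [hπ, q])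

end Groth.Agent.EtEff48
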