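import Groth.Agent.EtEff48.Uniq
import Groth.Agent.S2906

/-!
# Effective descent of étale schemes is fpqc local on the base
-/

set_option autoImplicit false
set_option backward.isDefEq.respectTransparency false
set_option backward.isDefEq.respectTransparency.types false

universe u

open CategoryTheory CategoryTheory.Limits AlgebraicGeometry MorphismProperty

namespace Groth.Agent.EtEff48

variable {X S : Scheme.{u}} {g : X ⟶ S} {D : Desc.SchDD g}

/-- Isomorphisms of family data for a one-member family are isomorphisms of data. -/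
theorem nonempty_famIso_iff (U : Over S) (E : Desc.SchDDFam (fun _ : PUnit.{1} => g)) :
    Nonempty ((Desc.toDDFam (fun _ : PUnit.{1} => g)).obj U ≅ E) ↔
      Nonempty ((Desc.toDD g).obj U ≅ (Desc.SchDDFam.toSchDD.{0} g).obj E) :=
  ⟨fun ⟨e⟩ => ⟨(Desc.SchDDFam.toSchDD.{0} g).mapIso e⟩,
    fun ⟨e⟩ => ⟨(Desc.SchDDFam.ofSchDD.{0} g).mapIso e⟩⟩

section pull

variable {X' S' : Scheme.{u}} {g' : X' ⟶ S'} {p : S' ⟶ S} {p' : X' ⟶ X}
  (w : p' ≫ g = g' ≫ p)

/-- The base change of an iso section is an iso. -/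
theorem Sec.isIso_pull {V V' : Scheme.{u}} {s : V ⟶ S} (c : Sec D s) [IsIso c.σ] {s' : V' ⟶ S'}
    {m : V' ⟶ V} (H : IsPullback m s' s p) : IsIso (c.pull s' m H.w w).σ := by
  let C := c.pull s' m H.w w
  let b := pullback.fst D.obj.hom p'
  let x' := pullback.snd D.obj.hom p'
  obtain ⟨t, ht, et⟩ := c.exists_app_of_iso (x := x' ≫ p') b pullback.condition
  let t' := H.lift t (x' ≫ g') (by rw [← ht]; simp only [Category.assoc, w])
  have ht' : x' ≫ g' = t' ≫ s' := (H.lift_snd _ _ _).symm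
  have h1 : pullback.lift x' t' ht' ≫ C.σ = 𝟙 _ := by
    apply pullback.hom_ext
    · rw [Category.id_comp]
      refine (Sec.pull_app c _ _ _ x' t' ht' ?_).trans ?_
      · rw [H.lift_fst]; exact ht
      · exact (c.app_congr _ ht rfl (H.lift_fst _ _ _)).trans et
    · rw [Category.id_comp]
      exact C.app_hom x' t' ht'
  refine ⟨pullback.lift x' t' ht', ?_, h1⟩
  apply pullback.hom_ext
  · rw [Category.assoc, pullback.lift_fst, Category.id_comp]; exact C.w
  · rw [Category.assoc, pullback.lift_snd, Category.id_comp]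
    apply H.hom_ext
    · rw [Category.assoc, H.lift_fst]
      have hA : (pullback.fst g' s' ≫ p') ≫ g = (pullback.snd g' s' ≫ m) ≫ s := by
        rw [Category.assoc, w, Category.assoc, H.w, pullback.condition_assoc]
      have hB : (pullback.fst g' s' ≫ p') ≫ g = (C.σ ≫ t) ≫ s := by
        rw [Category.assoc C.σ, ← ht]
        simp only [x', reassoc_of% C.w, Category.assoc]
        exact congrArg (· ≫ p' ≫ g) C.w.symm
      refine c.app_inj_of_iso hB hA ?_
      have e1 : C.σ ≫ b = c.app (pullback.fst g' s' ≫ p') (pullback.snd g' s' ≫ m) hA :=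
        pullback.lift_fst _ _ _
      rw [← e1, ← et, c.app_nat]
      exact c.app_congr _ _ ((congrArg (· ≫ p') C.w.symm).trans (Category.assoc _ _ _)) rfl
    · rw [Category.assoc, H.lift_snd, ← Category.assoc, ← pullback.condition]
      exact congrArg (· ≫ g') C.w

/-- An effective datum stays effective after base change. -/
theorem nonempty_iso_pull {U : Over S} (e : (Desc.toDD g).obj U ≅ D) :
    Nonempty ((Desc.toDD g').obj (Over.mk (pullback.snd U.hom p)) ≅ pullDD w D) := by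
  obtain ⟨c, _⟩ := exists_sec_of_iso e
  have := c.isIso_pull w (IsPullback.of_hasPullback U.hom p)
  exact nonempty_iso_of_sec (U := Over.mk (pullback.snd U.hom p))
    (c.pull (pullback.snd U.hom p) (pullback.fst U.hom p) pullback.condition w)

theorem Sec.push_res {V V' : Scheme.{u}} {s : V ⟶ S'} (c : Sec (pullDD w D) s) (m : V' ⟶ V)
    {s' : V' ⟶ S'} (hm : m ≫ s = s') (H : IsPullback p' g' g p) :
    (c.res m hm).push H = (c.push H).res m (by rw [← hm, Category.assoc]) := by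
  refine Sec.ext_app fun x t h => ?_
  let x' := H.lift x (t ≫ s') (by rw [h, Category.assoc])
  rw [Sec.push_app _ H x t h x' (H.lift_fst _ _ _) (H.lift_snd _ _ _), Sec.res_app, Sec.res_app,
    Sec.push_app c H x (t ≫ m) (by rw [h, Category.assoc, reassoc_of% hm]) x' (H.lift_fst _ _ _)
      (by rw [Category.assoc, hm]; exact H.lift_snd _ _ _)]

end pull

theorem Sec.res_res {V V' V'' : Scheme.{u}} {s : V ⟶ S} (c : Sec D s) (m : V' ⟶ V) {s' : V' ⟶ S}
    (hm : m ≫ s = s') (k : V'' ⟶ V') {s'' : V'' ⟶ S} (hk : k ≫ s' = s'') :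
    (c.res m hm).res k hk = c.res (k ≫ m) (by rw [Category.assoc, hm, hk]) :=
  Sec.ext_app fun x t h => by
    rw [Sec.res_app, Sec.res_app, Sec.res_app]
    exact c.app_congr _ _ rfl (Category.assoc _ _ _)

/-- Sections descend along fpqc coverings of their base. -/
theorem exists_sec_descend {W U : Scheme.{u}} {q : U ⟶ S} {f : W ⟶ S} (π : W ⟶ U) [Flat π]
    [Surjective π] [QuasiCompact π] (hπ : π ≫ q = f) (C : Sec D f)
    (h : ∀ {T : Scheme.{u}} (a b : T ⟶ W) (e : a ≫ π = b ≫ π),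
      C.res a (rfl : a ≫ f = a ≫ f) = C.res b (by rw [← hπ, ← reassoc_of% e])) :
    ∃ C' : Sec D q, C'.res π hπ = C := by
  let π' : pullback g f ⟶ pullback g q :=
    pullback.lift (pullback.fst g f) (pullback.snd g f ≫ π)
      (by rw [Category.assoc, hπ, pullback.condition])
  have hsq : IsPullback π' (pullback.snd g f) (pullback.snd g q) π :=
    IsPullback.of_right (h₁₂ := pullback.fst g q) (h₂₂ := q) (v₁₃ := g)
      (by simpa [π', hπ] using (IsPullback.of_hasPullback g f))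
      (pullback.lift_snd _ _ _) (IsPullback.of_hasPullback g q)
  have : Surjective π' := MorphismProperty.of_isPullback hsq.flip ‹Surjective π›
  have : Flat π' := MorphismProperty.of_isPullback hsq.flip ‹Flat π›
  have : QuasiCompact π' := MorphismProperty.of_isPullback hsq.flip ‹QuasiCompact π›
  have hcov := FpqcDescLib.covers_of_isCovering (FpqcDescLib.isCovering_of_quasiCompact π')
  obtain ⟨σ, hσ, -⟩ := hcov.desc C.σ fun T a b e => by
    have ex : a ≫ pullback.fst g f = b ≫ pullback.fst g f := by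
      simpa [π'] using congrArg (fun m => m ≫ pullback.fst g q) e
    have et : (a ≫ pullback.snd g f) ≫ π = (b ≫ pullback.snd g f) ≫ π := by
      simpa [π'] using congrArg (fun m => m ≫ pullback.snd g q) e
    have hx : (a ≫ pullback.fst g f) ≫ g = 𝟙 T ≫ (a ≫ pullback.snd g f) ≫ f := by
      simp [pullback.condition]
    have := congrArg (fun c : Sec D ((a ≫ pullback.snd g f) ≫ f) =>
      c.app (a ≫ pullback.fst g f) (𝟙 T) hx) (h _ _ et)
    simp only [Sec.res_app] at this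
    rw [C.comp_σ a, C.comp_σ b]
    refine ((C.app_congr _ _ rfl ?_).trans this).trans (C.app_congr _ _ ex ?_) <;> simp
  have hw : σ ≫ D.obj.hom = pullback.fst g q := by
    have := hcov.epi
    rw [← cancel_epi π', ← Category.assoc, hσ, C.w, pullback.lift_fst]
  have he : ∀ {T : Scheme.{u}} (x : T ⟶ X) (a : T ⟶ W) (h : x ≫ g = a ≫ f)
      (h' : x ≫ g = (a ≫ π) ≫ q), pullback.lift x (a ≫ π) h' ≫ σ = C.app x a h := by
    intro T x a h h'
    rw [Sec.app, ← hσ, ← Category.assoc]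
    congr 1
    apply pullback.hom_ext <;> simp [π']
  refine ⟨⟨σ, hw, fun {T} x₀ x₁ t h₀ h₁ => ?_⟩, Sec.ext_app fun x t h => ?_⟩
  · have : Epi (pullback.fst t π) := Flat.epi_of_flat_of_surjective _
    rw [← cancel_epi (pullback.fst t π), tr_nat]
    let k := pullback.fst t π
    let a := pullback.snd t π
    have hk : ∀ (x : T ⟶ X), x ≫ g = t ≫ q → (k ≫ x) ≫ g = a ≫ f := fun x h => by
      rw [Category.assoc, h, ← hπ, ← Category.assoc k, ← Category.assoc a, pullback.condition]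
    have he' : ∀ (x : T ⟶ X) (h : x ≫ g = t ≫ q),
        k ≫ pullback.lift x t h ≫ σ = C.app (k ≫ x) a (hk x h) := fun x h => by
      rw [← he (k ≫ x) a (hk x h) (by rw [hk x h, Category.assoc, hπ]), ← Category.assoc]
      congr 1
      apply pullback.hom_ext <;> simp [k, a, pullback.condition]
    rw [he' x₁ h₁, tr_congr _ _ _ (C.app_hom (k ≫ x₀) a (hk x₀ h₀)) rfl rfl (he' x₀ h₀)]
    · exact C.tr_app _ _ _ _ _ _ _
    · exact (hk x₀ h₀).trans (hk x₁ h₁).symm
  · rw [Sec.res_app]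
    exact he x t h _

/-- **fpqc descent of effectivity.** -/
theorem exists_iso_of_pullback_fpqc (hg : SGA1.UnivSubmersive g) [Etale D.obj.hom]
    [IsSeparated D.obj.hom] {S₁ X₁ : Scheme.{u}} {g₁ : X₁ ⟶ S₁} (p : S₁ ⟶ S) {p' : X₁ ⟶ X}
    [Flat p] [Surjective p] [QuasiCompact p] (H : IsPullback p' g₁ g p) (U₁ : Over S₁)
    [Etale U₁.hom] [IsSeparated U₁.hom] [QuasiCompact U₁.hom]
    (e₁ : (Desc.toDD g₁).obj U₁ ≅ pullDD H.w D) :
    ∃ U : Over S, Etale U.hom ∧ IsSeparated U.hom ∧ QuasiCompact U.hom ∧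
      Nonempty ((Desc.toDD g).obj U ≅ D) := by
  have hg₁ : SGA1.UnivSubmersive g₁ := SGA1Q.univSubmersive_of_isPullback hg H.flip
  obtain ⟨c₁, _⟩ := exists_sec_of_iso e₁
  let c := c₁.push H
  -- points of `U₁` over `x` as sections of `D`
  let G : ∀ ⦃T : Scheme.{u}⦄ (x : T ⟶ S₁) (τ : T ⟶ S), x ≫ p = τ → Desc.Lifts U₁ x → Sec D τ :=
    fun T x τ hτ v => c.res v.1 (by rw [reassoc_of% v.2, hτ])
  have hG : ∀ {T : Scheme.{u}} (x : T ⟶ S₁) (τ : T ⟶ S) (hτ : x ≫ p = τ),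
      Function.Bijective (G x τ hτ) := by
    intro T x τ hτ
    subst hτ
    refine ⟨fun v v' e => ?_, fun C => ?_⟩
    · obtain ⟨a, -, hu⟩ := Sec.existsUnique_lift hg₁ c₁ (c₁.res v.1 v.2)
      have e' : c₁.res v'.1 v'.2 = c₁.res v.1 v.2 := by
        rw [← Sec.push_pull (c₁.res v'.1 v'.2) H, ← Sec.push_pull (c₁.res v.1 v.2) H,
          Sec.push_res H.w c₁ v'.1 v'.2 H, Sec.push_res H.w c₁ v.1 v.2 H]
        exact congrArg (fun C : Sec D (x ≫ p) => C.pull x (𝟙 T) (Category.id_comp _) H.w) e.symm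
      exact Subtype.ext ((hu v.1 ⟨v.2, rfl⟩).trans (hu v'.1 ⟨v'.2, e'⟩).symm)
    · obtain ⟨a, ⟨ha, ea⟩, -⟩ :=
        Sec.existsUnique_lift hg₁ c₁ (C.pull x (𝟙 T) (Category.id_comp _) H.w)
      refine ⟨⟨a, ha⟩, ?_⟩
      rw [← Sec.pull_push (w := H.w) C H, ← ea, Sec.push_res H.w c₁ a ha H]
  have hGnat : ∀ {T T' : Scheme.{u}} (k : T' ⟶ T) (x : T ⟶ S₁) (τ : T ⟶ S) (hτ : x ≫ p = τ)
      (v : Desc.Lifts U₁ x) (v' : Desc.Lifts U₁ (k ≫ x)), v'.1 = k ≫ v.1 →
      G (k ≫ x) (k ≫ τ) (by rw [Category.assoc, hτ]) v' = (G x τ hτ v).res k rfl := by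
    intro T T' k x τ hτ v v' hv
    rw [Sec.res_res]
    exact Sec.ext_app fun x t h => by
      rw [Sec.res_app, Sec.res_app]; exact c.app_congr _ _ rfl (by rw [hv])
  let φ : ∀ ⦃T : Scheme.{u}⦄ (x₀ x₁ : T ⟶ S₁), x₀ ≫ p = x₁ ≫ p →
      (Desc.Lifts U₁ x₀ ≃ Desc.Lifts U₁ x₁) := fun T x₀ x₁ h =>
    (Equiv.ofBijective _ (hG x₀ (x₀ ≫ p) rfl)).trans (Equiv.ofBijective _ (hG x₁ (x₀ ≫ p) h.symm)).symm
  have hφ : ∀ {T : Scheme.{u}} (x₀ x₁ : T ⟶ S₁) (h : x₀ ≫ p = x₁ ≫ p) (v : Desc.Lifts U₁ x₀)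
      (τ : T ⟶ S) (h₀ : x₀ ≫ p = τ) (h₁ : x₁ ≫ p = τ), G x₁ τ h₁ (φ x₀ x₁ h v) = G x₀ τ h₀ v := by
    intro T x₀ x₁ h v τ h₀ h₁
    subst h₀
    exact Equiv.ofBijective_apply_symm_apply _ (hG x₁ (x₀ ≫ p) h.symm) _
  let E : Desc.SchDD p :=
    { obj := U₁
      φ := φ
      φ_natural := fun T T' k x₀ x₁ h h' v v' hv' => by
        have key := hφ (k ≫ x₀) (k ≫ x₁) h' v' (k ≫ x₀ ≫ p) (Category.assoc _ _ _)
          (by rw [Category.assoc, h])
        let v₁ : Desc.Lifts U₁ (k ≫ x₁) :=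
          ⟨k ≫ (φ x₀ x₁ h v).1, by rw [Category.assoc, (φ x₀ x₁ h v).2]⟩
        refine congrArg Subtype.val ((hG (k ≫ x₁) (k ≫ x₀ ≫ p) (by rw [Category.assoc, h])).1
          (a₂ := v₁) ?_)
        rw [key, hGnat k x₀ (x₀ ≫ p) rfl v v' hv', hGnat k x₁ (x₀ ≫ p) h.symm _ v₁ rfl,
          hφ x₀ x₁ h v (x₀ ≫ p) rfl h.symm]
      φ_self := fun T x v => (hG x (x ≫ p) rfl).1 (hφ x x rfl v _ rfl rfl)
      φ_comp := fun T x₀ x₁ x₂ h₀₁ h₁₂ v => (hG x₂ (x₀ ≫ p) (h₀₁.trans h₁₂).symm).1 <| by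
        rw [hφ x₁ x₂ h₁₂ _ (x₀ ≫ p) h₀₁.symm (h₀₁.trans h₁₂).symm, hφ x₀ x₁ h₀₁ v (x₀ ≫ p) rfl h₀₁.symm,
          hφ x₀ x₂ (h₀₁.trans h₁₂) v (x₀ ≫ p) rfl (h₀₁.trans h₁₂).symm] }
  have : QuasiCompact E.obj.hom := ‹QuasiCompact U₁.hom›
  have : IsSeparated E.obj.hom := ‹IsSeparated U₁.hom›
  have : Etale E.obj.hom := ‹Etale U₁.hom›
  obtain ⟨U, _, _, _, ⟨e⟩⟩ := S2906.result p E
  -- descend the section to `U`
  have hl : e.inv.hom.left ≫ e.hom.hom.left = 𝟙 _ := by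
    rw [← Over.comp_left, ← Desc.SchDD.comp_hom, e.inv_hom_id]; rfl
  have hr : e.hom.hom.left ≫ e.inv.hom.left = 𝟙 _ := by
    rw [← Over.comp_left, ← Desc.SchDD.comp_hom, e.hom_inv_id]; rfl
  have : IsIso e.inv.hom.left := ⟨e.hom.hom.left, hl, hr⟩
  let π : U₁.left ⟶ U.left := e.inv.hom.left ≫ pullback.snd p U.hom
  have : Flat π := MorphismProperty.comp_mem _ _ _ (inferInstanceAs (Flat e.inv.hom.left))
    (inferInstanceAs (Flat (pullback.snd p U.hom)))
  have : Surjective π := MorphismProperty.comp_mem _ _ _ (inferInstanceAs (Surjective e.inv.hom.left))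
    (inferInstanceAs (Surjective (pullback.snd p U.hom)))
  have : QuasiCompact π := MorphismProperty.comp_mem _ _ _
    (inferInstanceAs (QuasiCompact e.inv.hom.left))
    (inferInstanceAs (QuasiCompact (pullback.snd p U.hom)))
  have hfst : e.inv.hom.left ≫ pullback.fst p U.hom = U₁.hom := Over.w e.inv.hom
  have hπ : π ≫ U.hom = U₁.hom ≫ p := by
    rw [← hfst]; simp only [π, Category.assoc, pullback.condition]
  obtain ⟨C, hC⟩ := exists_sec_descend π hπ c fun {T} a b eab => by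
    have h : (a ≫ U₁.hom) ≫ p = (b ≫ U₁.hom) ≫ p := by
      rw [Category.assoc, Category.assoc, ← hπ, reassoc_of% eab]
    have eb : φ (a ≫ U₁.hom) (b ≫ U₁.hom) h ⟨a, rfl⟩ = ⟨b, rfl⟩ := by
      apply Subtype.ext
      refine (cancel_mono e.inv.hom.left).1 ?_
      refine (e.inv.comm (a ≫ U₁.hom) (b ≫ U₁.hom) h ⟨a, rfl⟩
        ⟨a ≫ e.inv.hom.left, (Category.assoc _ _ _).trans (congrArg (a ≫ ·) hfst)⟩ rfl).symm.trans ?_
      apply pullback.hom_ext
      · refine (pullback.lift_fst _ _ _).trans ?_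
        exact ((Category.assoc _ _ _).trans (congrArg (b ≫ ·) hfst)).symm
      · refine (pullback.lift_snd _ _ _).trans ?_
        simpa [π] using eab
    have := hφ (a ≫ U₁.hom) (b ≫ U₁.hom) h ⟨a, rfl⟩ (a ≫ U₁.hom ≫ p) (Category.assoc _ _ _)
      (by rw [← h, Category.assoc])
    rw [eb] at this
    exact this.symm
  have hsurj : Surjective C.σ := ⟨fun d => by
    obtain ⟨x₁, hx₁⟩ := (MorphismProperty.of_isPullback H.flip ‹Surjective p› : Surjective p').surj
      (D.obj.hom d)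
    obtain ⟨d', hd', -⟩ := Scheme.Pullback.exists_preimage_pullback
      (f := D.obj.hom) (g := p') d x₁ hx₁.symm
    obtain ⟨q, hq⟩ := c₁.σ.surjective d'
    obtain ⟨q', hq'⟩ := Sec.range_push c₁ H ⟨d', ⟨q, hq⟩, hd'⟩
    let k : pullback g (U₁.hom ≫ p) ⟶ pullback g U.hom :=
      pullback.lift (pullback.fst _ _) (pullback.snd _ _ ≫ π)
        (by rw [Category.assoc, hπ, pullback.condition])
    refine ⟨k q', ?_⟩
    rw [← Scheme.Hom.comp_apply]
    have : k ≫ C.σ = (C.res π hπ).σ := rfl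
    rw [this, hC]
    exact hq'⟩
  have hlifts : HasLifts D := fun d => ⟨U.left, U.hom, ‹_›, C, C.σ.surjective d⟩
  obtain ⟨U', _, _, ⟨e'⟩⟩ := exists_of_hasLifts hg D hlifts
  refine ⟨U', ‹_›, ‹_›, ?_, ⟨e'⟩⟩
  -- quasi-compactness
  obtain ⟨c', _⟩ := exists_sec_of_iso e'
  let c'' := c'.pull (pullback.snd U'.hom p) (pullback.fst U'.hom p) pullback.condition H.w
  have : IsIso c''.σ := c'.isIso_pull H.w (IsPullback.of_hasPullback U'.hom p)
  have : Etale (pullback.snd U'.hom p) := inferInstance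
  obtain ⟨a, ⟨ha, ea⟩, -⟩ := Sec.existsUnique_lift hg₁ c₁ c''
  obtain ⟨b, ⟨hb, eb⟩, -⟩ := Sec.existsUnique_lift hg₁ c'' c₁
  have hab : a ≫ b = 𝟙 _ := by
    obtain ⟨i, -, hu⟩ := Sec.existsUnique_lift hg₁ c'' c''
    refine (hu (a ≫ b) ⟨by rw [Category.assoc, hb, ha], ?_⟩).trans
      (hu (𝟙 _) ⟨Category.id_comp _, Sec.ext_app fun x t h => ?_⟩).symm
    · rw [← Sec.res_res c'' b hb a ha, eb, ea]
    · rw [Sec.res_app]; exact c''.app_congr _ _ rfl (Category.comp_id _)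
  have hba : b ≫ a = 𝟙 _ := by
    obtain ⟨i, -, hu⟩ := Sec.existsUnique_lift hg₁ c₁ c₁
    refine (hu (b ≫ a) ⟨by rw [Category.assoc, ha, hb], ?_⟩).trans
      (hu (𝟙 _) ⟨Category.id_comp _, Sec.ext_app fun x t h => ?_⟩).symm
    · rw [← Sec.res_res c₁ a ha b hb, ea, eb]
    · rw [Sec.res_app]; exact c₁.app_congr _ _ rfl (Category.comp_id _)
  have : IsIso a := ⟨b, hab, hba⟩
  have hqc : QuasiCompact (pullback.snd U'.hom p) := by rw [← ha]; infer_instance
  exact MorphismProperty.of_pullback_snd_of_descendsAlong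
    (P := (@QuasiCompact : MorphismProperty Scheme.{u}))
    (Q := @Surjective ⊓ @Flat ⊓ @QuasiCompact) (f := U'.hom) (g := p)
    ⟨⟨‹_›, ‹_›⟩, ‹_›⟩ hqc

end Groth.Agent.EtEff48
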