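import Groth.Agent.EtEff48.PullCoh

/-!
# Etale cohomology of schemes over a base as a functor
-/

set_option autoImplicit false
set_option backward.isDefEq.respectTransparency.types false

universe u

open CategoryTheory CategoryTheory.Limits CategoryTheory.Abelian AlgebraicGeometry Opposite

namespace Groth.Agent.EtEff48.HFun

variable {X Y Z : Scheme.{u}}

theorem ext_comp_aux.{w} {A B C : Type*} [Category* A] [Category* B] [Category* C] [Abelian A] [Abelian B] [Abelian C]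
    [HasExt.{w} A] [HasExt.{w} B] [HasExt.{w} C] [EnoughInjectives A]
    (Lg : A ⥤ B) (Lh : B ⥤ C) (Lk : A ⥤ C) [Lg.Additive] [Lh.Additive] [Lk.Additive]
    [PreservesFiniteLimits Lg] [PreservesFiniteColimits Lg] [PreservesFiniteLimits Lh] [PreservesFiniteColimits Lh]
    [PreservesFiniteLimits Lk] [PreservesFiniteColimits Lk] (θ : Lg ⋙ Lh ⟶ Lk)
    {ZA : A} {ZB : B} {ZC : C} {FA : A} {FB : B} {FC : C}
    (zg : ZB ⟶ Lg.obj ZA) (zh : ZC ⟶ Lh.obj ZB) (zk : ZC ⟶ Lk.obj ZA)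
    (tg : Lg.obj FA ⟶ FB) (th : Lh.obj FB ⟶ FC) (tk : Lk.obj FA ⟶ FC)
    (hz : zh ≫ Lh.map zg ≫ θ.app ZA = zk) (ht : Lh.map tg ≫ th = θ.app FA ≫ tk) {p : ℕ} (β : Ext ZA FA p) :
    ((Ext.mk₀ zk).comp (β.mapExactFunctor Lk) (zero_add p)).comp (Ext.mk₀ tk) (add_zero p) =
      ((Ext.mk₀ zh).comp ((((Ext.mk₀ zg).comp (β.mapExactFunctor Lg) (zero_add p)).comp (Ext.mk₀ tg)
        (add_zero p)).mapExactFunctor Lh) (zero_add p)).comp (Ext.mk₀ th) (add_zero p) := by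
  have : PreservesFiniteLimits (Lg ⋙ Lh) := comp_preservesFiniteLimits _ _
  have : PreservesFiniteColimits (Lg ⋙ Lh) := comp_preservesFiniteColimits _ _
  have hn := EtMVLib.mapExactFunctor_natTrans (Lg ⋙ Lh) Lk θ β
  rw [EtMVLib.mapExactFunctor_functorComp] at hn
  rw [Ext.mapExactFunctor_comp, Ext.mapExactFunctor_comp, Ext.mapExactFunctor_mk₀, Ext.mapExactFunctor_mk₀,
    ← hz, ← Category.assoc, ← Ext.mk₀_comp_mk₀]
  simp only [Ext.comp_assoc_of_third_deg_zero, Ext.comp_assoc_of_second_deg_zero]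
  rw [show (Ext.mk₀ (θ.app ZA)).comp ((β.mapExactFunctor Lk).comp (Ext.mk₀ tk) (add_zero p)) (zero_add p) =
    ((β.mapExactFunctor Lg).mapExactFunctor Lh).comp
      ((Ext.mk₀ (θ.app FA)).comp (Ext.mk₀ tk) (zero_add 0)) (add_zero p) by
    rw [← Ext.comp_assoc_of_third_deg_zero, ← hn, Ext.comp_assoc_of_third_deg_zero]]
  rw [Ext.mk₀_comp_mk₀, ← ht]
  simp only [← Ext.mk₀_comp_mk₀, Ext.comp_assoc_of_third_deg_zero, Ext.comp_assoc_of_second_deg_zero]

theorem ext_comp_aux'.{w} {D A B C : Type*} [Category* D] [Category* A] [Category* B] [Category* C] [Abelian A]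
    [Abelian B] [Abelian C] [HasExt.{w} A] [HasExt.{w} B] [HasExt.{w} C] [EnoughInjectives A]
    (La : D ⥤ A) (Lb : D ⥤ B) (Lc : D ⥤ C) (Lg : A ⥤ B) (Lh : B ⥤ C) (Lk : A ⥤ C)
    [Lg.Additive] [Lh.Additive] [Lk.Additive]
    [PreservesFiniteLimits Lg] [PreservesFiniteColimits Lg] [PreservesFiniteLimits Lh] [PreservesFiniteColimits Lh]
    [PreservesFiniteLimits Lk] [PreservesFiniteColimits Lk] (θhg : Lg ⋙ Lh ≅ Lk) (θga : La ⋙ Lg ≅ Lb)
    (θhb : Lb ⋙ Lh ≅ Lc) (θka : La ⋙ Lk ≅ Lc) {ZA : A} {ZB : B} {ZC : C} (F : D)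
    (zg : ZB ⟶ Lg.obj ZA) (zh : ZC ⟶ Lh.obj ZB) (zk : ZC ⟶ Lk.obj ZA)
    (hz : zh ≫ Lh.map zg ≫ θhg.hom.app ZA = zk)
    (ht : Lh.map (θga.hom.app F) ≫ θhb.hom.app F = θhg.hom.app (La.obj F) ≫ θka.hom.app F)
    {p : ℕ} (β : Ext ZA (La.obj F) p) :
    ((Ext.mk₀ zk).comp (β.mapExactFunctor Lk) (zero_add p)).comp (Ext.mk₀ (θka.hom.app F)) (add_zero p) =
      ((Ext.mk₀ zh).comp ((((Ext.mk₀ zg).comp (β.mapExactFunctor Lg) (zero_add p)).comp (Ext.mk₀ (θga.hom.app F))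
        (add_zero p)).mapExactFunctor Lh) (zero_add p)).comp (Ext.mk₀ (θhb.hom.app F)) (add_zero p) :=
  ext_comp_aux Lg Lh Lk θhg.hom zg zh zk _ _ _ hz ht β

theorem HpullVia_comp {T₀ T₁ T₂ T₃ : Scheme.{u}} (h : T₀ ⟶ T₁) (g : T₁ ⟶ T₂) (a : T₂ ⟶ T₃) (k : T₀ ⟶ T₂)
    (b : T₁ ⟶ T₃) (c : T₀ ⟶ T₃) (wk : h ≫ g = k) (wb : g ≫ a = b) (wc : h ≫ b = c) (wc' : k ≫ a = c)
    (F : EtCoh.Ab T₃) (p : ℕ) :
    EtCore.HpullVia k a c wc' F p =
      (EtCore.HpullVia h b c wc F p).comp (EtCore.HpullVia g a b wb F p) := by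
  refine AddMonoidHom.ext fun β => ?_
  rw [AddMonoidHom.comp_apply, EtMVLib.HpullVia_apply, EtMVLib.HpullVia_apply, EtMVLib.HpullVia_apply]
  exact ext_comp_aux' (EtCoh.pull a) (EtCoh.pull b) (EtCoh.pull c) (EtCoh.pull g) (EtCoh.pull h) (EtCoh.pull k)
    (θ h g k wk) (θ g a b wb) (θ h b c wc) (θ k a c wc') F _ _ _
    (pullConst_θ h g k wk) (θ_assoc h g a k b c wk wb wc wc' F) β

/-- base change along the identity -/
noncomputable def bcId (X : Scheme.{u}) : EtCoh.bc (𝟙 X) ≅ 𝟭 X.Etale :=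
  NatIso.ofComponents (fun V =>
    MorphismProperty.Over.isoMk
      (@asIso _ _ _ _ (pullback.fst V.hom (𝟙 X)) ((IsPullback.of_hasPullback V.hom (𝟙 X)).isIso_fst_of_isIso (inst := inferInstance)))
    ((pullback.condition).trans (Category.comp_id _))) fun {V W} g => MorphismProperty.Over.Hom.ext (bc_map_fst _ g)

/-- inverse image along the identity -/
noncomputable def pullId (X : Scheme.{u}) : EtCoh.pull (𝟙 X) ≅ 𝟭 (EtCoh.Ab X) :=
  ((EtCoh.pullPushAdj (𝟙 X)).ofNatIsoRight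
    (Functor.sheafPushforwardContinuousId' (bcId X) AddCommGrpCat.{u + 1} X.smallEtaleTopology)).leftAdjointUniq
      Adjunction.id

theorem HpullVia_id {T : Scheme.{u}} (a : T ⟶ Z) (w : 𝟙 T ≫ a = a) (F : EtCoh.Ab Z) (p : ℕ)
    (β : EtCoh.H T ((EtCoh.pull a).obj F) p) : EtCore.HpullVia (𝟙 T) a a w F p β = β := by
  let e := EtCore.HpullVia (𝟙 T) a a w F p
  have he : ∀ β, e (e β) = e β := fun β =>
    (DFunLike.congr_fun (HpullVia_comp (𝟙 T) (𝟙 T) a (𝟙 T) a a (Category.id_comp _) w w w F p) β).symm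
  have hinj : Function.Injective e := by
    intro β₁ β₂ hβ
    have key : ∀ β, e β = ((Ext.mk₀ ((EtCore.pullConst (𝟙 T) ℤ).inv ≫ (pullId T).hom.app _)).comp β (zero_add p)).comp
        (Ext.mk₀ ((pullId T).inv.app ((EtCoh.pull a).obj F) ≫ (θ (𝟙 T) a a w).hom.app F)) (add_zero p) := fun β => by
      have hn := EtMVLib.mapExactFunctor_natTrans (𝟭 _) (EtCoh.pull (𝟙 T)) (pullId T).inv β
      rw [EtMVLib.mapExactFunctor_id] at hn
      rw [← Ext.mk₀_comp_mk₀, ← Ext.mk₀_comp_mk₀]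
      simp only [Ext.comp_assoc_of_third_deg_zero, Ext.comp_assoc_of_second_deg_zero]
      rw [← Ext.comp_assoc_of_third_deg_zero β, hn]
      simp only [Ext.comp_assoc_of_third_deg_zero, Ext.comp_assoc_of_second_deg_zero]
      rw [show (Ext.mk₀ ((pullId T).hom.app (EtCoh.const T ℤ))).comp
        ((Ext.mk₀ ((pullId T).inv.app (EtCoh.const T ℤ))).comp
          ((β.mapExactFunctor (EtCoh.pull (𝟙 T))).comp (Ext.mk₀ ((θ (𝟙 T) a a w).hom.app F)) (add_zero p))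
          (zero_add p)) (zero_add p) = (β.mapExactFunctor (EtCoh.pull (𝟙 T))).comp
            (Ext.mk₀ ((θ (𝟙 T) a a w).hom.app F)) (add_zero p) by
        rw [← Ext.comp_assoc_of_second_deg_zero, Ext.mk₀_comp_mk₀, Iso.hom_inv_id_app, Ext.mk₀_id_comp]]
      exact EtMVLib.HpullVia_apply (𝟙 T) a a w F p β |>.trans (by
        simp only [Ext.comp_assoc_of_third_deg_zero])
    rw [key, key] at hβ
    have h1 := congrArg (fun z => z.comp (Ext.mk₀ (inv ((pullId T).inv.app ((EtCoh.pull a).obj F) ≫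
      (θ (𝟙 T) a a w).hom.app F))) (add_zero p)) hβ
    simp only [Ext.comp_assoc_of_third_deg_zero, Ext.mk₀_comp_mk₀, IsIso.hom_inv_id, Ext.comp_mk₀_id] at h1
    have h2 := congrArg (fun z => (Ext.mk₀ (inv ((EtCore.pullConst (𝟙 T) ℤ).inv ≫ (pullId T).hom.app _))).comp z
      (zero_add p)) h1
    simp only [← Ext.comp_assoc_of_second_deg_zero, Ext.mk₀_comp_mk₀, IsIso.inv_hom_id, Ext.mk₀_id_comp] at h2
    exact h2
  exact hinj (he β)

/-- Etale cohomology of the inverse images of a sheaf, contravariant in the schemes over the base. -/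
noncomputable def hFun (F : EtCoh.Ab Z) (p : ℕ) : Over Z ⥤ AddCommGrpCat.{u + 1}ᵒᵖ where
  obj T := op (AddCommGrpCat.of (EtCoh.H T.left ((EtCoh.pull T.hom).obj F) p))
  map {S T} g := (AddCommGrpCat.ofHom (EtCore.HpullVia g.left T.hom S.hom (Over.w g) F p)).op
  map_id T := congrArg Quiver.Hom.op
    (congrArg AddCommGrpCat.ofHom (AddMonoidHom.ext fun β => HpullVia_id T.hom _ F p β))
  map_comp {R S T} g h := congrArg Quiver.Hom.op
    (congrArg AddCommGrpCat.ofHom (HpullVia_comp g.left h.left T.hom (g.left ≫ h.left) S.hom R.hom rfl (Over.w h)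
      (Over.w g) (Over.w (g ≫ h)) F p))

theorem nonempty_hFun_id (F : EtCoh.Ab Z) (p : ℕ) :
    Nonempty (((hFun F p).obj (Over.mk (𝟙 Z))).unop ≅ AddCommGrpCat.of (EtCoh.H Z F p)) :=
  ⟨(EtCoh.HF Z p).mapIso ((pullId Z).app F)⟩

end Groth.Agent.EtEff48.HFun
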