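import Groth.Agent.EtEff48.Main
import Groth.Agent.EtFound.SectionUnr

/-!
# Effective descent of étale schemes along integral surjections
-/

set_option autoImplicit false
set_option backward.isDefEq.respectTransparency false
set_option backward.isDefEq.respectTransparency.types false

universe u

open CategoryTheory CategoryTheory.Limits AlgebraicGeometry MorphismProperty

namespace Groth.Agent.EtEff48

/-- Sections of étale morphisms with the same points are equal. -/
theorem section_ext {Y Z : Scheme.{u}} (r : Z ⟶ Y) [Etale r] {s t : Y ⟶ Z} (hs : s ≫ r = 𝟙 Y)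
    (ht : t ≫ r = 𝟙 Y) (h : ∀ y, s y = t y) : s = t := by
  have := EtFound.isOpenImmersion_section r t ht
  have hsub : Set.range s ⊆ Set.range t := by
    rintro _ ⟨y, rfl⟩
    exact ⟨y, (h y).symm⟩
  have hfac := IsOpenImmersion.lift_fac t s hsub
  have hu := congrArg (fun m => m ≫ r) hfac
  simp only [Category.assoc, hs, ht, Category.comp_id] at hu
  rw [← hfac, hu, Category.id_comp]

/-- Over a strictly henselian local ring, a section over the closed fibre of an étale separated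
scheme over an integral algebra extends. -/
theorem exists_extension_of_integral {R : Type u} [CommRing R] [HenselianLocalRing R]
    [IsSepClosed (IsLocalRing.ResidueField R)] {X Y : Scheme.{u}}
    (g : X ⟶ Spec (CommRingCat.of R)) [IsIntegralHom g] (r : Y ⟶ X) [Etale r] [IsSeparated r]
    (σ₀ : pullback g (ιClosed R) ⟶ Y) (hσ₀ : σ₀ ≫ r = pullback.fst g (ιClosed R)) :
    ∃ σ : X ⟶ Y, σ ≫ r = 𝟙 X ∧ pullback.fst g (ιClosed R) ≫ σ = σ₀ := by
  rcases isEmpty_or_nonempty X with hX | hX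
  · exact ⟨isInitialOfIsEmpty.to Y, isInitialOfIsEmpty.hom_ext _ _,
      have : IsEmpty ↥(pullback g (ιClosed R)) := Function.isEmpty (pullback.fst g (ιClosed R)).base
      isInitialOfIsEmpty.hom_ext _ _⟩
  have : IsAffine X := isAffine_of_isAffineHom g
  -- the base change of `r` to the closed fibre and the section there
  let X₀ := pullback g (ιClosed R)
  let ι₀ : X₀ ⟶ X := pullback.fst g (ιClosed R)
  let r₀ := pullback.snd r ι₀
  let s₀ : X₀ ⟶ pullback r ι₀ := pullback.lift σ₀ (𝟙 _) (by rw [Category.id_comp]; exact hσ₀)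
  have hs₀ : s₀ ≫ r₀ = 𝟙 _ := pullback.lift_snd _ _ _
  have : IsOpenImmersion s₀ := EtFound.isOpenImmersion_section r₀ s₀ hs₀
  have : IsClosedImmersion s₀ := by
    have : IsClosedImmersion (s₀ ≫ r₀) := by rw [hs₀]; infer_instance
    exact IsClosedImmersion.of_comp s₀ r₀
  have : IsClosedImmersion (ιClosed R) := IsClosedImmersion.spec_of_surjective _ IsLocalRing.residue_surjective
  have : IsClosedImmersion (pullback.fst r ι₀) := inferInstance
  -- remove the other points of the closed fibre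
  let Bad : Set Y := pullback.fst r ι₀ '' (Set.range s₀)ᶜ
  have hBad : IsClosed Bad := (pullback.fst r ι₀).isClosedEmbedding.isClosedMap _
    s₀.isOpenEmbedding.isOpen_range.isClosed_compl
  let Y' : Y.Opens := ⟨Badᶜ, hBad.isOpen_compl⟩
  have hgood : ∀ y : Y, g (r y) = IsLocalRing.closedPoint R → y ∈ Y' → y ∈ Set.range σ₀ := by
    intro y hy hy'
    obtain ⟨o, ho⟩ : g (r y) ∈ Set.range (ιClosed R) := by rw [range_ιClosed, hy]; rfl
    obtain ⟨x, hx, -⟩ := Scheme.Pullback.exists_preimage_pullback (f := g) (g := ιClosed R) (r y) o ho.symm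
    obtain ⟨z, hz, -⟩ := Scheme.Pullback.exists_preimage_pullback (f := r) (g := ι₀) y x hx.symm
    by_contra hn
    refine hy' ⟨z, fun ⟨x', hx'⟩ => hn ⟨x', ?_⟩, hz⟩
    rw [← hz, ← hx', ← Scheme.Hom.comp_apply, pullback.lift_fst]
  have hσY' : ∀ x, σ₀ x ∈ Y' := by
    rintro x ⟨z, hz, e⟩
    refine hz ⟨x, ?_⟩
    refine ((pullback.fst r ι₀).isClosedEmbedding.injective ?_)
    rw [e, ← Scheme.Hom.comp_apply, pullback.lift_fst]
  have hclosed : ∀ x : X₀, g (ι₀ x) = IsLocalRing.closedPoint R := fun x => by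
    have h : ι₀ ≫ g = pullback.snd g (ιClosed R) ≫ ιClosed R := pullback.condition
    have h2 : (ιClosed R) (pullback.snd g (ιClosed R) x) ∈ Set.range (ιClosed R) := ⟨_, rfl⟩
    rw [range_ιClosed, ← Scheme.Hom.comp_apply, ← h, Scheme.Hom.comp_apply] at h2
    exact h2
  -- finitely many affine opens around the section
  have : CompactSpace ↥X₀ := QuasiCompact.compactSpace_of_compactSpace (pullback.snd g (ιClosed R))
  have hcov : ∀ x : X₀, ∃ W : Y.Opens, IsAffineOpen W ∧ σ₀ x ∈ W ∧ W ≤ Y' := fun x => by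
    obtain ⟨W, hW, hxW, hWY⟩ := exists_isAffineOpen_mem_and_subset (hσY' x)
    exact ⟨W, hW, hxW, hWY⟩
  choose W hW hxW hWY using hcov
  obtain ⟨t, ht⟩ := (isCompact_univ (X := ↥X₀)).elim_finite_subcover
    (fun x => σ₀.base ⁻¹' (W x : Set Y)) (fun x => (W x).isOpen.preimage σ₀.continuous)
    (fun x _ => Set.mem_iUnion.2 ⟨x, hxW x⟩)
  let Z := ∐ fun i : {x // x ∈ t} => ((W i.1).toScheme)
  have : ∀ i : {x // x ∈ t}, IsAffine (W i.1).toScheme := fun i => hW i.1
  let j : Z ⟶ Y := Sigma.desc fun i => (W i.1).ι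
  have hj : ∀ z, j z ∈ Y' := fun z => by
    obtain ⟨i, w, rfl⟩ : ∃ i w, Sigma.ι (fun i : {x // x ∈ t} => ((W i.1).toScheme)) i w = z :=
      ⟨_, _, ((sigmaOpenCover fun i : {x // x ∈ t} => ((W i.1).toScheme)).covers z).choose_spec⟩
    rw [← Scheme.Hom.comp_apply, Sigma.ι_desc]
    exact hWY _ w.2
  have : Etale (j ≫ r) := by
    refine IsZariskiLocalAtSource.of_openCover (P := @Etale) (sigmaOpenCover _) fun i => ?_
    rw [sigmaOpenCover_f, Sigma.ι_desc_assoc]
    infer_instance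
  -- rings
  let f := X.isoSpec.inv ≫ g
  have hf : IsIntegralHom f := inferInstance
  obtain ⟨φ, hφ⟩ := Spec.map_surjective f
  have hφi : φ.hom.IsIntegral := by
    rw [← hφ] at hf
    exact IsIntegralHom.SpecMap_iff.1 hf
  let e := j ≫ r ≫ X.isoSpec.hom
  obtain ⟨ψ, hψ⟩ := Spec.map_surjective (Z.isoSpec.inv ≫ e)
  let : Algebra R Γ(X, ⊤) := φ.hom.toAlgebra
  let : Algebra Γ(X, ⊤) Γ(Z, ⊤) := ψ.hom.toAlgebra
  have : Algebra.IsIntegral R Γ(X, ⊤) := ⟨hφi⟩
  have : Etale e := by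
    show Etale (j ≫ r ≫ X.isoSpec.hom)
    rw [← Category.assoc]; infer_instance
  have he : Etale (Spec.map ψ) := by rw [hψ]; infer_instance
  rw [HasRingHomProperty.Spec_iff (P := @Etale)] at he
  have : Algebra.Etale Γ(X, ⊤) Γ(Z, ⊤) := RingHom.etale_algebraMap.1 (by rwa [RingHom.algebraMap_toAlgebra])
  have hgx : ∀ x : PrimeSpectrum Γ(X, ⊤), g (X.isoSpec.inv x) = PrimeSpectrum.comap φ.hom x := fun x => by
    rw [← Scheme.Hom.comp_apply, show X.isoSpec.inv ≫ g = Spec.map φ from hφ.symm]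
    rfl
  have hzx : ∀ z : Z, PrimeSpectrum.comap ψ.hom (Z.isoSpec.hom z) = X.isoSpec.hom (r (j z)) := fun z => by
    show Spec.map ψ (Z.isoSpec.hom z) = _
    rw [hψ, ← Scheme.Hom.comp_apply, Iso.hom_inv_id_assoc]
    rfl
  have hsurj : ∀ x : PrimeSpectrum Γ(X, ⊤),
      x.asIdeal.comap (algebraMap R Γ(X, ⊤)) = IsLocalRing.maximalIdeal R →
      ∃ y : PrimeSpectrum Γ(Z, ⊤), PrimeSpectrum.comap (algebraMap Γ(X, ⊤) Γ(Z, ⊤)) y = x := by
    intro x hx
    have hx' : g (X.isoSpec.inv x) = IsLocalRing.closedPoint R := by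
      rw [hgx]; exact PrimeSpectrum.ext hx
    obtain ⟨o, ho⟩ : g (X.isoSpec.inv x) ∈ Set.range (ιClosed R) := by rw [range_ιClosed, hx']; rfl
    obtain ⟨x₀, hx₀, -⟩ :=
      Scheme.Pullback.exists_preimage_pullback (f := g) (g := ιClosed R) _ o ho.symm
    obtain ⟨i, hi, hiW⟩ := Set.mem_iUnion₂.1 (ht (Set.mem_univ x₀))
    refine ⟨Z.isoSpec.hom (Sigma.ι (fun i : {x // x ∈ t} => ((W i.1).toScheme)) ⟨i, hi⟩ ⟨σ₀ x₀, hiW⟩), ?_⟩
    refine (hzx _).trans ?_
    rw [← Scheme.Hom.comp_apply (Sigma.ι _ _) j, Sigma.ι_desc]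
    show X.isoSpec.hom (r (σ₀ x₀)) = x
    rw [← Scheme.Hom.comp_apply σ₀, hσ₀, hx₀, ← Scheme.Hom.comp_apply, Iso.inv_hom_id]
    rfl
  -- some point of the closed fibre
  obtain ⟨x₀⟩ : Nonempty ↥X₀ := by
    by_contra hne
    obtain ⟨x⟩ := hX
    have h1 : (Set.univ : Set X) = ∅ := eq_empty_of_isClosed g isClosed_univ fun z _ hz => hne <| by
      obtain ⟨o, ho⟩ : g z ∈ Set.range (ιClosed R) := by rw [range_ιClosed, hz]; rfl
      obtain ⟨x₀, -, -⟩ := Scheme.Pullback.exists_preimage_pullback (f := g) (g := ιClosed R) z o ho.symm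
      exact ⟨x₀⟩
    exact (h1 ▸ Set.mem_univ x : x ∈ (∅ : Set X))
  obtain ⟨Q, hQ⟩ := hsurj (X.isoSpec.hom (ι₀ x₀)) (congrArg PrimeSpectrum.asIdeal (by
    show PrimeSpectrum.comap φ.hom (X.isoSpec.hom (ι₀ x₀)) = IsLocalRing.closedPoint R
    rw [← hgx, ← Scheme.Hom.comp_apply, ← Scheme.Hom.comp_apply, Iso.hom_inv_id_assoc]
    exact hclosed x₀))
  obtain ⟨sec, -⟩ := EtFound.exists_section_integral (R := R) Γ(X, ⊤) Γ(Z, ⊤) hsurj Q (by
    rw [show Q.asIdeal.comap (algebraMap Γ(X, ⊤) Γ(Z, ⊤)) = (X.isoSpec.hom (ι₀ x₀)).asIdeal from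
      congrArg PrimeSpectrum.asIdeal hQ]
    exact congrArg PrimeSpectrum.asIdeal (show PrimeSpectrum.comap φ.hom (X.isoSpec.hom (ι₀ x₀)) =
      IsLocalRing.closedPoint R by
        rw [← hgx, ← Scheme.Hom.comp_apply, ← Scheme.Hom.comp_apply, Iso.hom_inv_id_assoc]
        exact hclosed x₀))
  let τ : X ⟶ Z := X.isoSpec.hom ≫ Spec.map (CommRingCat.ofHom sec.toRingHom) ≫ Z.isoSpec.inv
  have hτ : τ ≫ j ≫ r = 𝟙 X := by
    have h1 : Spec.map (CommRingCat.ofHom sec.toRingHom) ≫ Spec.map ψ = 𝟙 _ := by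
      rw [← Spec.map_comp, ← Spec.map_id]
      congr 1
      exact CommRingCat.hom_ext (RingHom.ext sec.commutes)
    rw [hψ] at h1
    rw [← cancel_mono X.isoSpec.hom]
    simp only [τ, e, Category.assoc] at h1 ⊢
    rw [h1]
    exact (Category.comp_id _).trans (Category.id_comp _).symm
  refine ⟨τ ≫ j, by rw [Category.assoc, hτ], ?_⟩
  -- agreement on the closed fibre
  let t₀ : X₀ ⟶ pullback r ι₀ :=
    pullback.lift (ι₀ ≫ τ ≫ j) (𝟙 _) (by simp only [Category.assoc, hτ, Category.comp_id, Category.id_comp])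
  suffices h : t₀ = s₀ by
    have := congrArg (fun m => m ≫ pullback.fst r ι₀) h
    simpa [t₀, s₀] using this
  refine section_ext r₀ (pullback.lift_snd _ _ _) hs₀ fun x => ?_
  refine (pullback.fst r ι₀).isClosedEmbedding.injective ?_
  rw [← Scheme.Hom.comp_apply, ← Scheme.Hom.comp_apply, pullback.lift_fst, pullback.lift_fst]
  have hτ' : (ι₀ ≫ τ ≫ j) ≫ r = ι₀ := by
    simp only [Category.assoc, hτ, Category.comp_id]
  obtain ⟨x', hx'⟩ := hgood ((ι₀ ≫ τ ≫ j) x) (by
    rw [← Scheme.Hom.comp_apply _ r, hτ']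
    exact hclosed x) (hj _)
  have : ι₀ x' = ι₀ x := by
    have h1 := congrArg r hx'
    exact ((congrArg (fun m : _ ⟶ X => m x') hσ₀).symm.trans h1).trans
      (congrArg (fun m : _ ⟶ X => m x) hτ')
  rw [← hx', (pullback.fst g (ιClosed R)).isClosedEmbedding.injective this]

/-- **Effective descent of étale separated schemes along integral surjections.** -/
theorem exists_iso_of_integral {X S : Scheme.{u}} (g : X ⟶ S) [IsIntegralHom g] [Surjective g]
    (D : Desc.SchDD g) [IsSeparated D.obj.hom] [Etale D.obj.hom] :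
    ∃ U : Over S, IsSeparated U.hom ∧ Etale U.hom ∧ Nonempty ((Desc.toDD g).obj U ≅ D) := by
  refine exists_iso_of_strictlyHenselian (fun X₁ Y₁ h₁ h₂ f' sq => ?_) D
    fun R _ _ _ {X' p p' g'} sq d hd => ?_
  · have : IsIntegralHom f' := MorphismProperty.of_isPullback sq.flip ‹IsIntegralHom g›
    have : Surjective f' := MorphismProperty.of_isPullback sq.flip ‹Surjective g›
    exact f'.isClosedMap.isQuotientMap f'.continuous f'.surjective
  · have : IsIntegralHom g' := MorphismProperty.of_isPullback sq ‹IsIntegralHom g›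
    have : Surjective g' := MorphismProperty.of_isPullback sq ‹Surjective g›
    exact exists_sec_of_forall_extension (pullDD sq.w D)
      (fun c₀ => exists_extension_of_integral g' _ c₀.σ c₀.w) d hd

end Groth.Agent.EtEff48
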