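import Mathlib

/-!
# Local rings of rings of invariants: decomposition groups and completions
-/

set_option autoImplicit false

universe u

open scoped Pointwise

namespace Groth.Agent.EtEff48.InvLocal

variable {R : Type u} [CommRing R]

section Key

variable (K : Type u) [Group K] [Finite K] [MulSemiringAction K R]

theorem fixed (a : FixedPoints.subring R K) (k : K) : k • (a : R) = a := a.2 k

theorem isInvariant : Algebra.IsInvariant (FixedPoints.subring R K) R K :=
  ⟨fun b hb => ⟨⟨b, hb⟩, rfl⟩⟩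

theorem smulComm : SMulCommClass K (FixedPoints.subring R K) R :=
  ⟨fun k a r => by
    show k • ((a : R) * r) = (a : R) * (k • r)
    rw [smul_mul', fixed K a k]⟩

variable [IsNoetherianRing (FixedPoints.subring R K)] [Module.Finite (FixedPoints.subring R K) R]

theorem eq_of_le (q Q : Ideal R) [Q.IsPrime] (h : Q ≤ q)
    (hc : q.comap (FixedPoints.subring R K).subtype ≤ Q.comap (FixedPoints.subring R K).subtype) : Q = q := by
  refine le_antisymm h fun x hx => by_contra fun hxQ => ?_
  have hlt := Ideal.comap_lt_comap_of_integral_mem_sdiff (R := FixedPoints.subring R K) h ⟨hx, hxQ⟩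
    (IsIntegral.of_finite _ x)
  exact not_le_of_gt hlt hc

variable (q : Ideal R) [q.IsPrime]

theorem exists_pow_smul_mem_map :
    ∃ (c : ℕ) (s : R), s ∉ q ∧ ∀ z ∈ q ^ c,
      s * z ∈ (q.comap (FixedPoints.subring R K).subtype).map (FixedPoints.subring R K).subtype := by
  let P := q.comap (FixedPoints.subring R K).subtype
  let PR := P.map (FixedPoints.subring R K).subtype
  have key : ∀ x ∈ q, ∃ (m : ℕ) (s : R), s ∉ q ∧ s * x ^ m ∈ PR := by
    intro x hx
    by_contra! hne
    let M : Submonoid R := q.primeCompl ⊔ Submonoid.powers x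
    have hdisj : Disjoint (PR : Set R) M := Set.disjoint_left.2 fun z hz hzM => by
      obtain ⟨s, hs, y, ⟨m, rfl⟩, rfl⟩ := Submonoid.mem_sup.1 hzM
      exact hne m s hs hz
    obtain ⟨Q, hQ, hle, hQd⟩ := Ideal.exists_le_prime_disjoint PR M hdisj
    have hQq : Q ≤ q := fun z hz => by_contra fun hzq =>
      Set.disjoint_left.1 hQd hz (Submonoid.mem_sup_left (show z ∈ q.primeCompl from hzq))
    have := eq_of_le K q Q hQq fun a ha => hle (Ideal.mem_map_of_mem _ ha)
    subst this
    exact Set.disjoint_left.1 hQd hx (Submonoid.mem_sup_right ⟨1, pow_one x⟩)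
  have : IsNoetherianRing R := isNoetherianRing_iff.2
    (isNoetherian_of_tower (FixedPoints.subring R K) inferInstance)
  classical
  obtain ⟨S, hS⟩ := (IsNoetherian.noetherian q : q.FG)
  choose m s hs hmem using fun x : S => key x.1 (hS ▸ Ideal.subset_span x.2)
  have hJ : q ≤ (PR.colon {∏ x : S, s x}).radical := by
    conv_lhs => rw [← hS]
    refine Ideal.span_le.2 fun x hx => ⟨m ⟨x, hx⟩, ?_⟩
    refine Submodule.mem_colon_singleton.2 ?_
    rw [smul_eq_mul, Finset.prod_eq_mul_prod_sdiff_singleton_of_mem (Finset.mem_univ (⟨x, hx⟩ : S)), ← mul_assoc,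
      mul_comm _ (s _)]
    exact Ideal.mul_mem_right _ _ (hmem ⟨x, hx⟩)
  obtain ⟨c, hc⟩ := Ideal.exists_pow_le_of_le_radical_of_fg hJ (IsNoetherian.noetherian q)
  refine ⟨c, ∏ x : S, s x, fun h => ?_, fun z hz => ?_⟩
  · obtain ⟨x, -, hx⟩ := Ideal.IsPrime.prod_mem_iff.1 h
    exact hs x hx
  · rw [mul_comm]
    exact Submodule.mem_colon_singleton.1 (hc hz)

/-- An invariant element lying in a high power of `q` near `q` lies in a given power of the contraction. -/
theorem exists_mul_mem_pow (n : ℕ) :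
    ∃ N : ℕ, ∀ (y : FixedPoints.subring R K) (s : R), s ∉ q → s * (y : R) ∈ q ^ N →
      ∃ t : FixedPoints.subring R K, t ∉ q.comap (FixedPoints.subring R K).subtype ∧
        t * y ∈ (q.comap (FixedPoints.subring R K).subtype) ^ n := by
  let P := q.comap (FixedPoints.subring R K).subtype
  let PR := P.map (FixedPoints.subring R K).subtype
  let l : FixedPoints.subring R K →ₗ[FixedPoints.subring R K] R := Algebra.linearMap _ R
  obtain ⟨k, hk⟩ := Ideal.exists_pow_inf_eq_pow_smul P (LinearMap.range l)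
  obtain ⟨c, s₀, hs₀, hc⟩ := exists_pow_smul_mem_map K q
  refine ⟨c * (n + k), fun y s hs hy => ?_⟩
  let 𝔄 : Ideal R := (PR ^ (n + k)).colon {(y : R)}
  have hnq : s₀ ^ (n + k) * s ∈ 𝔄 := by
    refine Submodule.mem_colon_singleton.2 ?_
    have h1 : ∀ z ∈ (q ^ c) ^ (n + k), s₀ ^ (n + k) * z ∈ PR ^ (n + k) := fun z hz => by
      have h2 : Ideal.span {s₀} ^ (n + k) * (q ^ c) ^ (n + k) ≤ PR ^ (n + k) := by
        rw [← mul_pow]
        refine pow_le_pow_left' (Ideal.mul_le.2 fun a ha b hb => ?_) _
        obtain ⟨a, rfl⟩ := Ideal.mem_span_singleton'.1 ha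
        rw [mul_assoc]
        exact Ideal.mul_mem_left _ _ (hc b hb)
      exact h2 (Ideal.mul_mem_mul (Ideal.pow_mem_pow (Ideal.mem_span_singleton_self s₀) _) hz)
    rw [smul_eq_mul, mul_assoc]
    exact h1 _ (by rwa [← pow_mul])
  have hstab : ∀ g : K, ∀ r ∈ 𝔄, g • r ∈ 𝔄 := fun g r hr => by
    refine Submodule.mem_colon_singleton.2 ?_
    have h1 := Submodule.mem_colon_singleton.1 hr
    have h2 : g • (r * (y : R)) ∈ g • (PR ^ (n + k)) := Ideal.smul_mem_pointwise_smul_iff.2 h1
    rw [smul_mul', fixed K y g] at h2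
    refine (show g • (PR ^ (n + k)) ≤ PR ^ (n + k) from ?_) h2
    rw [Ideal.pointwise_smul_def, Ideal.map_pow]
    refine pow_le_pow_left' ?_ _
    rw [Ideal.map_map]
    refine Ideal.map_le_iff_le_comap.2 fun a ha => Ideal.mem_comap.2 ?_
    show g • (a : R) ∈ PR
    rw [fixed K a g]
    exact Ideal.mem_map_of_mem _ ha
  obtain ⟨t, htP, ht⟩ : ∃ t, t ∉ P ∧ (FixedPoints.subring R K).subtype t ∈ 𝔄 := by
    by_contra! hall
    have hdisj : Disjoint (𝔄 : Set R) (P.primeCompl.map (FixedPoints.subring R K).subtype) :=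
      Set.disjoint_left.2 fun z hz hzM => by
        obtain ⟨t, ht, rfl⟩ := hzM
        exact hall t ht hz
    obtain ⟨Q, hQ, hle, hQd⟩ := Ideal.exists_le_prime_disjoint 𝔄 _ hdisj
    have hQc : Q.comap (FixedPoints.subring R K).subtype = P := by
      refine le_antisymm (fun a ha => by_contra fun haP => Set.disjoint_left.1 hQd ha ⟨a, haP, rfl⟩) fun a ha => ?_
      have h1 : (FixedPoints.subring R K).subtype a ^ (n + k) ∈ 𝔄 := Submodule.mem_colon_singleton.2 (by
        rw [smul_eq_mul]
        exact Ideal.mul_mem_right _ _ (Ideal.pow_mem_pow (Ideal.mem_map_of_mem _ ha) _))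
      exact hQ.mem_of_pow_mem _ (hle h1)
    have := isInvariant (R := R) K
    have := smulComm (R := R) K
    obtain ⟨g, rfl⟩ := Algebra.IsInvariant.exists_smul_of_under_eq (FixedPoints.subring R K) R K q Q hQc.symm
    have hmem := hle (hstab g _ hnq)
    have hmem' := (Ideal.smul_mem_pointwise_smul_iff (a := g)).1 hmem
    rcases (inferInstance : q.IsPrime).mem_or_mem hmem' with h | h
    · exact hs₀ ((inferInstance : q.IsPrime).mem_of_pow_mem _ h)
    · exact hs h
  refine ⟨t, htP, ?_⟩
  have h1 : l (t * y) ∈ (P ^ (n + k) • ⊤ : Submodule (FixedPoints.subring R K) R) := by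
    rw [Ideal.smul_top_eq_map]
    show l (t * y) ∈ (P ^ (n + k)).map (algebraMap (FixedPoints.subring R K) R)
    rw [Ideal.map_pow]
    exact Submodule.mem_colon_singleton.1 ht
  have h2 : l (t * y) ∈ P ^ n • LinearMap.range l := by
    have h3 : l (t * y) ∈ (P ^ (n + k) • ⊤ : Submodule (FixedPoints.subring R K) R) ⊓ LinearMap.range l :=
      ⟨h1, LinearMap.mem_range_self l _⟩
    rw [hk (n + k) (Nat.le_add_left k n), Nat.add_sub_cancel] at h3
    exact Submodule.smul_mono le_rfl inf_le_right h3
  rw [LinearMap.range_eq_map, ← Submodule.map_smul''] at h2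
  obtain ⟨w, hw, hwe⟩ := h2
  have hinj : Function.Injective l := fun a b h => Subtype.ext h
  rw [← hinj hwe]
  simpa [Ideal.smul_eq_mul] using hw

end Key

section Approx

variable {G : Type u} [Group G] [Finite G] [MulSemiringAction G R]

variable (H : Subgroup G) (q : Ideal R) [q.IsPrime]

theorem smul_out_eq (x : FixedPoints.subring R H) {g g' : G} (h : (g : G ⧸ H) = g') :
    g • (x : R) = g' • (x : R) := by
  have hh : (g⁻¹ * g') • (x : R) = x := fixed H x ⟨_, QuotientGroup.eq.1 h⟩
  rw [mul_smul] at hh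
  calc g • (x : R) = g • g⁻¹ • g' • (x : R) := by rw [hh]
    _ = g' • (x : R) := smul_inv_smul g _

/-- The trace from the invariants of `H` to those of `G`. -/
theorem exists_trace (x : FixedPoints.subring R H) :
    ∃ b ∈ FixedPoints.subring R G, b - (x : R) ∈ Ideal.span (Set.range fun g : {g : G // g ∉ H} => g.1 • (x : R)) := by
  classical
  have := Fintype.ofFinite (G ⧸ H)
  refine ⟨∑ c : G ⧸ H, c.out • (x : R), fun g => ?_, ?_⟩
  · rw [Finset.smul_sum]
    refine Finset.sum_bij' (fun c _ => g • c) (fun c _ => g⁻¹ • c) (by simp) (by simp) (by simp) (by simp)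
      fun c _ => ?_
    rw [smul_smul]
    refine smul_out_eq H x ?_
    rw [QuotientGroup.out_eq']
    conv_rhs => rw [← QuotientGroup.out_eq' c]
    rfl
  · have h1 : ((1 : G) : G ⧸ H).out • (x : R) = x :=
      (smul_out_eq H x (g' := 1) (QuotientGroup.out_eq' _)).trans (one_smul G _)
    rw [← Finset.add_sum_erase _ _ (Finset.mem_univ ((1 : G) : G ⧸ H)), h1, add_sub_cancel_left]
    refine Ideal.sum_mem _ fun c hc => Ideal.subset_span ⟨⟨c.out, fun hm => ?_⟩, rfl⟩
    refine Finset.ne_of_mem_erase hc ?_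
    rw [← QuotientGroup.out_eq' c]
    exact QuotientGroup.eq.2 (by simpa using inv_mem hm)

variable [IsNoetherianRing (FixedPoints.subring R G)] [Module.Finite (FixedPoints.subring R G) R]

variable (hD : MulAction.stabilizer G q ≤ H)

include hD in
theorem exists_killer (N : ℕ) :
    ∃ e : FixedPoints.subring R H, (e : R) ∉ q ∧ ∀ g : G, g ∉ H → g • (e : R) ∈ q ^ N := by
  classical
  have hne : ∀ g : G, g ∉ H → ∃ a : FixedPoints.subring R H, (a : R) ∉ q ∧ g • (a : R) ∈ q := by
    intro g hg
    by_contra! hall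
    have hle : (g⁻¹ • q).comap (FixedPoints.subring R H).subtype ≤ q.comap (FixedPoints.subring R H).subtype :=
      fun a ha => by_contra fun haq => hall a haq (Ideal.mem_inv_pointwise_smul_iff.1 ha)
    have := isInvariant (R := R) H
    have := smulComm (R := R) H
    have hcb : (g⁻¹ • q).comap (FixedPoints.subring R H).subtype = q.comap (FixedPoints.subring R H).subtype := by
      refine le_antisymm hle fun a ha => ?_
      by_contra hna
      have : (g⁻¹ • q).IsPrime := inferInstance
      -- contractions to the invariants of `G` agree, so the two contractions are equal by incomparability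
      have hint : IsIntegral (FixedPoints.subring R G) (a : R) := IsIntegral.of_finite _ _
      obtain ⟨pol, hmonic, hpol⟩ := hint
      let ι : FixedPoints.subring R G →+* FixedPoints.subring R H :=
        Subring.inclusion (fun r hr g => hr g.1)
      have hlt := Ideal.comap_lt_comap_of_root_mem_sdiff (f := ι)
        (I := (g⁻¹ • q).comap (FixedPoints.subring R H).subtype) hle
        (r := a) ⟨ha, hna⟩ (p := pol) (hmonic.map _).ne_zero ?_
      · refine not_le_of_gt hlt fun b hb => ?_
        show ((ι b : FixedPoints.subring R H) : R) ∈ g⁻¹ • q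
        rw [Ideal.mem_inv_pointwise_smul_iff]
        have e : g • (b : R) = b := b.2 g
        exact e.symm ▸ hb
      · have h0 : Polynomial.eval₂ ι a pol = 0 := by
          refine Subtype.ext ?_
          rw [← Subring.subtype_apply, Polynomial.hom_eval₂]
          exact hpol
        rw [h0]
        exact zero_mem _
    obtain ⟨h, hh⟩ := Algebra.IsInvariant.exists_smul_of_under_eq (FixedPoints.subring R H) R H q (g⁻¹ • q) hcb.symm
    have hs : g * (h : G) ∈ MulAction.stabilizer G q := by
      rw [MulAction.mem_stabilizer_iff, mul_smul]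
      exact (congrArg (g • ·) hh.symm).trans (smul_inv_smul g q)
    exact hg (by simpa using mul_mem (hD hs) (inv_mem h.2))
  choose! a ha₁ ha₂ using hne
  have := Fintype.ofFinite G
  let S := Finset.univ.filter fun g : G => g ∉ H
  refine ⟨∏ g ∈ S, a g ^ N, fun h => ?_, fun g hg => ?_⟩
  · rw [← Subring.subtype_apply, map_prod] at h
    obtain ⟨g, hgS, hgm⟩ := Ideal.IsPrime.prod_mem_iff.1 h
    rw [map_pow] at hgm
    exact ha₁ g (Finset.mem_filter.1 hgS).2 (Ideal.IsPrime.mem_of_pow_mem ‹_› _ hgm)
  · rw [← Subring.subtype_apply, map_prod, ← MulSemiringAction.toRingHom_apply, map_prod,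
      Finset.prod_eq_mul_prod_sdiff_singleton_of_mem (Finset.mem_filter.2 ⟨Finset.mem_univ g, hg⟩), map_pow, map_pow]
    exact Ideal.mul_mem_right _ _ (Ideal.pow_mem_pow (ha₂ g hg) _)

include hD in
theorem exists_approx (N : ℕ) (x : FixedPoints.subring R H) :
    ∃ (b e : FixedPoints.subring R H), (b : R) ∈ FixedPoints.subring R G ∧ (b : R) - x * e ∈ q ^ N ∧
      ∃ c : FixedPoints.subring R H, (c : R) ∈ FixedPoints.subring R G ∧ (c : R) - e ∈ q ^ N ∧ (e : R) ∉ q := by
  obtain ⟨e, he, hek⟩ := exists_killer H q hD N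
  have key : ∀ y : FixedPoints.subring R H, (∀ g : G, g ∉ H → g • (y : R) ∈ q ^ N) →
      ∃ b : FixedPoints.subring R H, (b : R) ∈ FixedPoints.subring R G ∧ (b : R) - y ∈ q ^ N := fun y hy => by
    obtain ⟨b, hb, hb'⟩ := exists_trace H y
    refine ⟨⟨b, fun h => hb h.1⟩, hb, Ideal.span_le.2 ?_ hb'⟩
    rintro _ ⟨g, rfl⟩
    exact hy g.1 g.2
  obtain ⟨b, hb, hb'⟩ := key (x * e) fun g hg => by
    show g • ((x : R) * (e : R)) ∈ _
    rw [smul_mul']
    exact Ideal.mul_mem_left _ _ (hek g hg)
  obtain ⟨c, hc, hc'⟩ := key e hek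
  exact ⟨b, e, hb, hb', c, hc, hc', he⟩

end Approx

end Groth.Agent.EtEff48.InvLocal
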