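import Mathlib
import Groth.Prelude.Def_SGA1
import Groth.Agent.VarDim.Basic
import Groth.Agent.RegLoc6.Basic

/-!
# Kummer algebras over regular local rings
-/

set_option autoImplicit false
set_option backward.isDefEq.respectTransparency false
set_option backward.isDefEq.respectTransparency.types false

universe u

open IsLocalRing

namespace Groth.Agent.EtEff48.Kummer

theorem add_pow_of_sq {B : Type*} [CommRing B] (y e : B) (h : e * e = 0) :
    ∀ n : ℕ, (y + e) ^ n = y ^ n + (n : B) * y ^ (n - 1) * e
  | 0 => by simp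
  | 1 => by simp
  | n + 2 => by
    rw [pow_succ, add_pow_of_sq y e h (n + 1)]
    push_cast
    linear_combination ((n : B) + 1) * y ^ n * h

theorem awayMap_algebraMap {A B : Type u} [CommRing A] [CommRing B] [Algebra A B] (g a : A) :
    algebraMap A (Localization.Away (algebraMap A B g)) a =
      Localization.awayMap (algebraMap A B) g (algebraMap A (Localization.Away g) a) := by
  rw [IsScalarTower.algebraMap_apply A B (Localization.Away (algebraMap A B g))]
  exact (IsLocalization.map_eq _ a).symm

variable (A : Type u) [CommRing A] {r : ℕ} (f : Fin r → A) (n : Fin r → ℕ)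

local notation "K" => SGA1.kummerAlg A f n

/-- The class of a variable. -/
noncomputable def T (i : Fin r) : SGA1.kummerAlg A f n := Ideal.Quotient.mk _ (MvPolynomial.X i)

theorem T_pow (i : Fin r) : T A f n i ^ n i = algebraMap A (SGA1.kummerAlg A f n) (f i) := by
  rw [T, ← map_pow]
  refine Ideal.Quotient.eq.2 ?_
  exact Ideal.subset_span ⟨i, by rw [MvPolynomial.algebraMap_eq]⟩

theorem adjoin_T : Algebra.adjoin A (Set.range (T A f n)) = ⊤ := by
  rw [eq_top_iff]
  intro z hz
  clear hz
  obtain ⟨p, rfl⟩ := Ideal.Quotient.mk_surjective z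
  induction p using MvPolynomial.induction_on with
  | C a => exact Subalgebra.algebraMap_mem _ a
  | add p q hp hq => rw [map_add]; exact add_mem hp hq
  | mul_X p i hp => rw [map_mul]; exact mul_mem hp (Algebra.subset_adjoin ⟨i, rfl⟩)

theorem finite (hn : ∀ i, 1 ≤ n i) : Module.Finite A (SGA1.kummerAlg A f n) := by
  refine ⟨?_⟩
  rw [← Algebra.top_toSubmodule, ← adjoin_T A f n]
  refine fg_adjoin_of_finite (Set.finite_range _) ?_
  rintro _ ⟨i, rfl⟩
  exact IsIntegral.of_pow (hn i) (T_pow A f n i ▸ isIntegral_algebraMap)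

variable {A f n}

/-- Maps out of the Kummer algebra. -/
theorem exists_algHom {B : Type*} [CommRing B] [Algebra A B] (x : Fin r → B) (h : ∀ i, x i ^ n i = algebraMap A B (f i)) :
    ∃ φ : SGA1.kummerAlg A f n →ₐ[A] B, ∀ i, φ (T A f n i) = x i := by
  refine ⟨Ideal.Quotient.liftₐ _ (MvPolynomial.aeval x) fun p hp => ?_, fun i => ?_⟩
  · induction hp using Submodule.span_induction with
    | mem p hp =>
      obtain ⟨i, rfl⟩ := hp
      simp [h i]
    | zero => exact map_zero _
    | add p q _ _ hp hq => rw [map_add, hp, hq, add_zero]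
    | smul c p _ hp => rw [smul_eq_mul, map_mul, hp, mul_zero]
  · simp [T]

theorem algHom_ext {B : Type*} [CommRing B] [Algebra A B] {φ ψ : SGA1.kummerAlg A f n →ₐ[A] B}
    (h : ∀ i, φ (T A f n i) = ψ (T A f n i)) : φ = ψ :=
  AlgHom.ext_of_adjoin_eq_top (adjoin_T A f n) fun _ ⟨i, hi⟩ => hi ▸ h i

variable [IsRegularLocalRing A] (hm : ∀ i, f i ∈ maximalIdeal A)
  (hf : LinearIndependent (ResidueField A) (fun i => (maximalIdeal A).toCotangent ⟨f i, hm i⟩))
  (hn : ∀ i, 1 ≤ n i)

include hf in
theorem exists_extension :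
    ∃ g : Fin ((maximalIdeal A).spanFinrank - r) → maximalIdeal A, r ≤ (maximalIdeal A).spanFinrank ∧
      maximalIdeal A = Ideal.span (Set.range f ∪ Set.range fun j => (g j : A)) := by
  let V := CotangentSpace A
  let W : Submodule (ResidueField A) V :=
    Submodule.span (ResidueField A) (Set.range fun i => (maximalIdeal A).toCotangent ⟨f i, hm i⟩)
  have hW : Module.finrank (ResidueField A) W = r := by
    rw [finrank_span_eq_card hf, Fintype.card_fin]
  have hd : Module.finrank (ResidueField A) V = (maximalIdeal A).spanFinrank :=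
    (spanFinrank_maximalIdeal_eq_finrank_cotangentSpace A).symm
  have hQ : Module.finrank (ResidueField A) (V ⧸ W) = (maximalIdeal A).spanFinrank - r := by
    have := Submodule.finrank_quotient_add_finrank W
    omega
  let b := Module.finBasisOfFinrankEq (ResidueField A) (V ⧸ W) hQ
  choose v hv using fun j => Submodule.Quotient.mk_surjective W (b j)
  choose g hg using fun j => (maximalIdeal A).toCotangent_surjective (v j)
  refine ⟨g, ?_, ?_⟩
  · have := W.finrank_le
    omega
  let s : Set (maximalIdeal A) := Set.range (fun i => (⟨f i, hm i⟩ : maximalIdeal A)) ∪ Set.range g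
  have hs : Submodule.span (ResidueField A) ((maximalIdeal A).toCotangent '' s) = ⊤ := by
    rw [Set.image_union, ← Set.range_comp, ← Set.range_comp, Submodule.span_union, eq_top_iff]
    intro x _
    obtain ⟨c, hc⟩ := (Submodule.mem_span_range_iff_exists_fun _).1
      (b.span_eq.ge (Submodule.mem_top : Submodule.Quotient.mk (p := W) x ∈ ⊤))
    have hx : x - ∑ j, c j • v j ∈ W := by
      rw [← Submodule.Quotient.eq]
      refine hc.symm.trans ?_
      rw [show (Submodule.Quotient.mk (∑ j, c j • v j) : V ⧸ W) = W.mkQ (∑ j, c j • v j) from rfl, map_sum]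
      simp only [map_smul, Submodule.mkQ_apply, hv]
    rw [← sub_add_cancel x (∑ j, c j • v j)]
    refine Submodule.add_mem_sup hx (Submodule.sum_mem _ fun j _ => Submodule.smul_mem _ _ ?_)
    exact Submodule.subset_span ⟨j, hg j⟩
  rw [CotangentSpace.span_image_eq_top_iff] at hs
  have := congrArg (Submodule.map (maximalIdeal A).subtype) hs
  rw [Submodule.map_top, Submodule.range_subtype, Submodule.map_span, Set.image_union, ← Set.range_comp,
    ← Set.range_comp] at this
  exact this.symm

include hm hn in
/-- The unique maximal ideal. -/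
theorem eq_of_isMaximal (M : Ideal (SGA1.kummerAlg A f n)) (hM : M.IsMaximal) :
    M = (maximalIdeal A).map (algebraMap A (SGA1.kummerAlg A f n)) ⊔ Ideal.span (Set.range (T A f n)) := by
  have := finite A f n hn
  have : Algebra.IsIntegral A (SGA1.kummerAlg A f n) := Algebra.IsIntegral.of_finite A _
  have hMA : M.comap (algebraMap A (SGA1.kummerAlg A f n)) = maximalIdeal A :=
    IsLocalRing.eq_maximalIdeal (Ideal.isMaximal_comap_of_isIntegral_of_isMaximal M)
  refine le_antisymm (fun z hz => ?_) (sup_le (Ideal.map_le_iff_le_comap.2 hMA.ge) (Ideal.span_le.2 ?_))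
  · -- every element is a scalar modulo the variables
    have key : ∀ w ∈ Algebra.adjoin A (Set.range (T A f n)), ∃ a : A,
        w - algebraMap A _ a ∈ Ideal.span (Set.range (T A f n)) := by
      intro w hw
      induction hw using Algebra.adjoin_induction with
      | mem x hx => exact ⟨0, by rw [map_zero, sub_zero]; exact Ideal.subset_span hx⟩
      | algebraMap a => exact ⟨a, by rw [sub_self]; exact zero_mem _⟩
      | add x y _ _ hx hy =>
        obtain ⟨a, ha⟩ := hx
        obtain ⟨b, hb⟩ := hy
        exact ⟨a + b, by rw [map_add, add_sub_add_comm]; exact add_mem ha hb⟩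
      | mul x y _ _ hx hy =>
        obtain ⟨a, ha⟩ := hx
        obtain ⟨b, hb⟩ := hy
        refine ⟨a * b, ?_⟩
        rw [map_mul, show x * y - algebraMap A _ a * algebraMap A _ b =
          (x - algebraMap A _ a) * y + algebraMap A _ a * (y - algebraMap A _ b) by ring]
        exact add_mem (Ideal.mul_mem_right _ _ ha) (Ideal.mul_mem_left _ _ hb)
    obtain ⟨a, ha⟩ := key z (adjoin_T A f n ▸ Algebra.mem_top)
    have hTM : Ideal.span (Set.range (T A f n)) ≤ M := by
      rw [Ideal.span_le]
      rintro _ ⟨i, rfl⟩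
      exact hM.isPrime.mem_of_pow_mem (n i) (by rw [T_pow]; exact hMA.ge (hm i))
    have haM : a ∈ maximalIdeal A := by
      rw [← hMA, Ideal.mem_comap]
      simpa using sub_mem hz (hTM ha)
    exact Submodule.mem_sup.2 ⟨_, Ideal.mem_map_of_mem _ haM, _, ha, by ring⟩
  · rintro _ ⟨i, rfl⟩
    exact hM.isPrime.mem_of_pow_mem (n i) (by rw [T_pow]; exact hMA.ge (hm i))

include hm hn in
theorem injective_algebraMap : Function.Injective (algebraMap A (SGA1.kummerAlg A f n)) := by
  have := RegLoc6.isDomain_of_isRegularLocalRing A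
  let L := AlgebraicClosure (FractionRing A)
  have hinj : Function.Injective (algebraMap A L) := by
    rw [IsScalarTower.algebraMap_eq A (FractionRing A) L]
    exact (algebraMap (FractionRing A) L).injective.comp (IsFractionRing.injective A _)
  choose x hx using fun i => IsAlgClosed.exists_pow_nat_eq (algebraMap A L (f i)) (hn i)
  obtain ⟨φ, -⟩ := exists_algHom x hx
  intro a b h
  exact hinj (by rw [← φ.commutes a, ← φ.commutes b, h])

include hm hf hn in
theorem isRegularLocalRing : IsRegularLocalRing (SGA1.kummerAlg A f n) := by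
  classical
  have := finite A f n hn
  have : Algebra.IsIntegral A (SGA1.kummerAlg A f n) := Algebra.IsIntegral.of_finite A _
  have hinj := injective_algebraMap hm hn
  have : FaithfulSMul A (SGA1.kummerAlg A f n) := (faithfulSMul_iff_algebraMap_injective _ _).2 hinj
  have : Nontrivial (SGA1.kummerAlg A f n) := hinj.nontrivial
  have hloc : IsLocalRing (SGA1.kummerAlg A f n) := by
    obtain ⟨M, hM⟩ := Ideal.exists_maximal (SGA1.kummerAlg A f n)
    exact IsLocalRing.of_unique_max_ideal ⟨M, hM, fun M' hM' =>
      (eq_of_isMaximal hm hn M' hM').trans (eq_of_isMaximal hm hn M hM).symm⟩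
  have : IsNoetherianRing (SGA1.kummerAlg A f n) := IsNoetherianRing.of_finite A _
  obtain ⟨g, hr, hg⟩ := exists_extension hm hf
  let s : Finset (SGA1.kummerAlg A f n) := Finset.univ.image (T A f n) ∪
    Finset.univ.image fun j => algebraMap A _ (g j : A)
  have hspan : maximalIdeal (SGA1.kummerAlg A f n) = Ideal.span (s : Set (SGA1.kummerAlg A f n)) := by
    rw [eq_of_isMaximal hm hn _ (maximalIdeal.isMaximal _), hg, Ideal.map_span, Set.image_union, ← Set.range_comp,
      ← Set.range_comp, Ideal.span_union]
    simp only [s, Finset.coe_union, Finset.coe_image, Finset.coe_univ, Set.image_univ, Ideal.span_union]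
    refine le_antisymm (sup_le (sup_le ?_ le_sup_right) le_sup_left) (sup_le le_sup_right (le_sup_of_le_left le_sup_right))
    rw [Ideal.span_le]
    rintro _ ⟨i, rfl⟩
    rw [Function.comp_apply, ← T_pow A f n i]
    exact Ideal.pow_mem_of_mem _ (Submodule.mem_sup_left (Ideal.subset_span (Set.mem_range_self i))) _ (hn i)
  refine IsRegularLocalRing.of_spanFinrank_maximalIdeal_le _ ?_
  rw [VarDim.ringKrullDim_eq_of_isIntegral (R := A), ← IsRegularLocalRing.spanFinrank_maximalIdeal (R := A)]
  refine Nat.cast_le.2 ?_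
  rw [hspan]
  refine (Submodule.spanFinrank_span_le_ncard_of_finite s.finite_toSet).trans ?_
  rw [Set.ncard_coe_finset]
  refine (Finset.card_union_le _ _).trans ?_
  refine (add_le_add Finset.card_image_le Finset.card_image_le).trans ?_
  simp
  omega

omit [IsRegularLocalRing A] in
theorem etale_away {K₀ : Type u} [CommRing K₀] [Algebra A K₀] [Algebra.FinitePresentation A K₀]
    (T : Fin r → K₀) (T_pow : ∀ i, T i ^ n i = algebraMap A K₀ (f i))
    (exists_algHom : ∀ {B : Type u} [CommRing B] [Algebra A B] (x : Fin r → B),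
      (∀ i, x i ^ n i = algebraMap A B (f i)) → ∃ φ : K₀ →ₐ[A] B, ∀ i, φ (T i) = x i)
    (algHom_ext : ∀ {B : Type u} [CommRing B] [Algebra A B] {φ ψ : K₀ →ₐ[A] B},
      (∀ i, φ (T i) = ψ (T i)) → φ = ψ)
    (hn : ∀ i, 1 ≤ n i) (hu : ∀ i, IsUnit ((n i : ℕ) : A)) :
    letI := (Localization.awayMap (algebraMap A K₀) (∏ i, f i)).toAlgebra
    Algebra.Etale (Localization.Away (∏ i, f i)) (Localization.Away (algebraMap A K₀ (∏ i, f i))) := by
  let g := ∏ i, f i
  let A₁ := Localization.Away g
  let K₁ := Localization.Away (algebraMap A K₀ g)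
  letI : Algebra A₁ K₁ := (Localization.awayMap (algebraMap A K₀) g).toAlgebra
  have : IsScalarTower A A₁ K₁ := IsScalarTower.of_algebraMap_eq (awayMap_algebraMap g)
  have : Algebra.FinitePresentation K₀ K₁ := IsLocalization.Away.finitePresentation (algebraMap A K₀ g)
  have : Algebra.FinitePresentation A K₁ := Algebra.FinitePresentation.trans A K₀ K₁
  have hfp₁ : Algebra.FinitePresentation A₁ K₁ :=
    Algebra.FinitePresentation.of_restrict_scalars_finitePresentation A A₁ K₁
  have hformal : Algebra.FormallyEtale A₁ K₁ := by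
    rw [Algebra.FormallyEtale.iff_comp_bijective]
    intro B _ _ I hI
    letI : Algebra A B := ((algebraMap A₁ B).comp (algebraMap A A₁)).toAlgebra
    have : IsScalarTower A A₁ B := IsScalarTower.of_algebraMap_eq fun _ => rfl
    have hgB : IsUnit (algebraMap A B g) := by
      rw [IsScalarTower.algebraMap_apply A A₁ B]
      exact (IsLocalization.Away.algebraMap_isUnit g).map _
    have hfB : ∀ i, IsUnit (algebraMap A B (f i)) := fun i =>
      isUnit_of_dvd_unit (map_dvd _ (Finset.dvd_prod_of_mem f (Finset.mem_univ i))) hgB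
    have hnB : ∀ i, IsUnit ((n i : ℕ) : B) := fun i => by
      simpa using (hu i).map (algebraMap A B)
    have hsq : ∀ x ∈ I, ∀ y ∈ I, x * y = 0 := fun x hx y hy => by
      have := Ideal.mul_mem_mul hx hy
      rwa [← sq, hI, Ideal.mem_bot] at this
    -- maps out of the localization
    have hext : ∀ {C : Type u} [CommRing C] [Algebra A₁ C] (φ ψ : K₁ →ₐ[A₁] C),
        (∀ i, φ (algebraMap K₀ K₁ (T i)) = ψ (algebraMap K₀ K₁ (T i))) → φ = ψ := by
      intro C _ _ φ ψ h
      letI : Algebra A C := ((algebraMap A₁ C).comp (algebraMap A A₁)).toAlgebra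
      have : IsScalarTower A A₁ C := IsScalarTower.of_algebraMap_eq fun _ => rfl
      have he : (φ.restrictScalars A).comp (IsScalarTower.toAlgHom A K₀ K₁) =
          (ψ.restrictScalars A).comp (IsScalarTower.toAlgHom A K₀ K₁) := algHom_ext h
      have he' : φ.toRingHom = ψ.toRingHom := IsLocalization.ringHom_ext (Submonoid.powers (algebraMap A K₀ g))
        (RingHom.ext fun z => AlgHom.congr_fun he z)
      exact AlgHom.ext fun z => RingHom.congr_fun he' z
    have hroot : ∀ (i : Fin r) (x y : B), x - y ∈ I → x ^ n i = algebraMap A B (f i) →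
        y ^ n i = algebraMap A B (f i) → x = y := by
      intro i x y hxy hx hy
      have hy' : IsUnit y := by
        refine isUnit_of_dvd_unit ?_ (hfB i)
        rw [← hy]
        exact dvd_pow_self y (Nat.one_le_iff_ne_zero.1 (hn i))
      have key := add_pow_of_sq y (x - y) (hsq _ hxy _ hxy) (n i)
      rw [add_sub_cancel, hx, hy] at key
      have h2 : ((n i : ℕ) : B) * y ^ (n i - 1) * (x - y) = 0 := by linear_combination -key
      exact sub_eq_zero.1 (((hnB i).mul (hy'.pow _)).mul_right_eq_zero.1 h2)
    refine ⟨fun φ ψ h => ?_, fun ψ => ?_⟩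
    · refine hext φ ψ fun i => hroot i _ _ ?_ ?_ ?_
      · exact Ideal.Quotient.eq.1 (AlgHom.congr_fun h (algebraMap K₀ K₁ (T i)))
      · rw [← map_pow, ← map_pow, T_pow, ← IsScalarTower.algebraMap_apply, IsScalarTower.algebraMap_apply A A₁ K₁,
          AlgHom.commutes, ← IsScalarTower.algebraMap_apply]
      · rw [← map_pow, ← map_pow, T_pow, ← IsScalarTower.algebraMap_apply, IsScalarTower.algebraMap_apply A A₁ K₁,
          AlgHom.commutes, ← IsScalarTower.algebraMap_apply]
    · choose y hy using fun i => Ideal.Quotient.mk_surjective (ψ (algebraMap K₀ K₁ (T i)))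
      have hyn : ∀ i, y i ^ n i - algebraMap A B (f i) ∈ I := fun i => by
        rw [← Ideal.Quotient.eq, map_pow, hy, ← map_pow, ← map_pow, T_pow, ← IsScalarTower.algebraMap_apply,
          IsScalarTower.algebraMap_apply A A₁ K₁, AlgHom.commutes, IsScalarTower.algebraMap_apply A A₁ B]
        rfl
      have hyu : ∀ i, IsUnit (y i ^ (n i - 1)) := fun i => by
        refine (IsUnit.pow _ ?_)
        have h1 : IsUnit (y i ^ n i) := by
          rw [← add_sub_cancel (algebraMap A B (f i)) (y i ^ n i)]
          exact IsNilpotent.isUnit_add_left_of_commute ⟨2, by rw [sq]; exact hsq _ (hyn i) _ (hyn i)⟩ (hfB i)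
            (Commute.all _ _)
        exact (isUnit_pow_iff (Nat.one_le_iff_ne_zero.1 (hn i))).1 h1
      let ε : Fin r → B := fun i => ↑((hnB i).mul (hyu i)).unit⁻¹ * (algebraMap A B (f i) - y i ^ n i)
      have hεI : ∀ i, ε i ∈ I := fun i => Ideal.mul_mem_left _ _ (by rw [← neg_sub]; exact neg_mem (hyn i))
      have hx : ∀ i, (y i + ε i) ^ n i = algebraMap A B (f i) := fun i => by
        rw [add_pow_of_sq (y i) (ε i) (hsq _ (hεI i) _ (hεI i)) (n i)]
        simp only [ε]
        rw [← mul_assoc, IsUnit.mul_val_inv, one_mul, add_sub_cancel]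
      obtain ⟨φ₀, hφ₀⟩ := exists_algHom (fun i => y i + ε i) hx
      have hunit : ∀ z : Submonoid.powers (algebraMap A K₀ g), IsUnit (φ₀.toRingHom z) := by
        rintro ⟨_, k, rfl⟩
        simp only [map_pow, AlgHom.toRingHom_eq_coe, RingHom.coe_coe, AlgHom.commutes]
        exact hgB.pow k
      let φ₁ : K₁ →+* B := IsLocalization.lift hunit
      have hcomm : φ₁.comp (algebraMap A₁ K₁) = algebraMap A₁ B := by
        refine IsLocalization.ringHom_ext (Submonoid.powers g) (RingHom.ext fun a => ?_)
        show φ₁ (algebraMap A₁ K₁ (algebraMap A A₁ a)) = algebraMap A₁ B (algebraMap A A₁ a)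
        rw [← IsScalarTower.algebraMap_apply, IsScalarTower.algebraMap_apply A K₀ K₁, IsLocalization.lift_eq]
        exact φ₀.commutes a
      refine ⟨⟨φ₁, RingHom.congr_fun hcomm⟩, hext _ _ fun i => ?_⟩
      show Ideal.Quotient.mk I (φ₁ (algebraMap K₀ K₁ (T i))) = _
      rw [IsLocalization.lift_eq, ← hy i, Ideal.Quotient.eq]
      show φ₀ (T i) - y i ∈ I
      rw [hφ₀, add_sub_cancel_left]
      exact hεI i
  exact ⟨hformal, hfp₁⟩

omit [IsRegularLocalRing A] in
include hn in
theorem etale_localization (hu : ∀ i, IsUnit ((n i : ℕ) : A)) :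
    letI := (Localization.awayMap (algebraMap A (SGA1.kummerAlg A f n)) (∏ i, f i)).toAlgebra
    Algebra.Etale (Localization.Away (∏ i, f i))
      (Localization.Away (algebraMap A (SGA1.kummerAlg A f n) (∏ i, f i))) :=
  have : Algebra.FinitePresentation A (SGA1.kummerAlg A f n) :=
    Algebra.FinitePresentation.quotient (Submodule.fg_span (Set.finite_range _))
  etale_away (T A f n) (T_pow A f n) (fun x h => exists_algHom x h) (fun h => algHom_ext h) hn hu

end Groth.Agent.EtEff48.Kummer
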