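import Groth.Agent.EtEff48.Spread
import Groth.Agent.EtEff48.Canon
import Groth.Agent.EtFound.IntegralCore
import Groth.Agent.Hensel.StrictSchemes
import Groth.Agent.MorLib.IndQA
import Groth.Agent.DescLib.IndQAEff
import Groth.Agent.AlgSpLib.Descends2

/-!
# Reduction of effective descent to strictly henselian local bases
-/

set_option autoImplicit false
set_option backward.isDefEq.respectTransparency false
set_option backward.isDefEq.respectTransparency.types false

universe u

open CategoryTheory CategoryTheory.Limits AlgebraicGeometry MorphismProperty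

namespace Groth.Agent.EtEff48

variable {X S : Scheme.{u}} {g : X ⟶ S} {D : Desc.SchDD g}

/-- Effective descent of étale separated schemes along fpqc morphisms, without finiteness on the
scheme. -/
theorem exists_iso_of_fpqc (g : X ⟶ S) [Flat g] [Surjective g] [QuasiCompact g] (D : Desc.SchDD g)
    [IsSeparated D.obj.hom] [Etale D.obj.hom] :
    ∃ U : Over S, IsSeparated U.hom ∧ Etale U.hom ∧ Nonempty ((Desc.toDD g).obj U ≅ D) := by
  obtain ⟨U, ⟨e⟩⟩ := (DescLib.isEffective_ofSchDD_iff g D).1
    (DescLib.IndQA.isEffective_of_indQA (fun _ : PUnit.{u + 1} => g)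
    (by rw [Presieve.ofArrows_pUnit]; exact g.singleton_mem_fpqcPrecoverage)
    _ fun _ => haveI : LocallyQuasiFinite D.obj.hom :=
        AlgSpLib.locallyQuasiFinite_of_formallyUnramified _
      MorLib.IQA.indQA_of_locallyQuasiFinite D.obj.hom)
  exact ⟨U, descended_prop g e (@IsSeparated : MorphismProperty Scheme.{u}) inferInstance,
    descended_prop g e (@Etale : MorphismProperty Scheme.{u}) inferInstance, ⟨e⟩⟩

/-- The range of a pulled back section contains the points lying over its range. -/
theorem Sec.mem_range_pull {X' S' : Scheme.{u}} {g' : X' ⟶ S'} {p : S' ⟶ S} {p' : X' ⟶ X}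
    (w : p' ≫ g = g' ≫ p) {V V' : Scheme.{u}} {s : V ⟶ S} (c : Sec D s) {s' : V' ⟶ S'}
    {m : V' ⟶ V} (H : IsPullback m s' s p) (d' : (pullDD w D).obj.left)
    (hd : pullback.fst D.obj.hom p' d' ∈ Set.range c.σ) :
    d' ∈ Set.range (c.pull s' m H.w w).σ := by
  obtain ⟨q, hq⟩ := hd
  obtain ⟨z, hz₁, hz₂⟩ := Scheme.Pullback.exists_preimage_pullback
    (f := c.σ) (g := pullback.fst D.obj.hom p') q d' hq
  let a := pullback.fst c.σ (pullback.fst D.obj.hom p')
  let b := pullback.snd c.σ (pullback.fst D.obj.hom p')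
  let x' := b ≫ pullback.snd D.obj.hom p'
  have hab : a ≫ c.σ = b ≫ pullback.fst D.obj.hom p' := pullback.condition
  have hx : x' ≫ p' = a ≫ pullback.fst g s := by
    rw [← c.w, reassoc_of% hab, pullback.condition]
    simp [x']
  let t := H.lift (a ≫ pullback.snd g s) (x' ≫ g')
    (((Category.assoc _ _ _).trans (congrArg (a ≫ ·) pullback.condition.symm)).trans
      (((Category.assoc _ _ _).symm.trans (congrArg (· ≫ g) hx.symm)).trans
        (((Category.assoc _ _ _).trans (congrArg (x' ≫ ·) w)).trans (Category.assoc _ _ _).symm)))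
  let k : _ ⟶ pullback g' s' := pullback.lift x' t (H.lift_snd _ _ _).symm
  refine ⟨k z, ?_⟩
  rw [← Scheme.Hom.comp_apply, ← hz₂]
  have e : k ≫ (c.pull s' m H.w w).σ = b := by
    apply pullback.hom_ext
    · refine (Category.assoc _ _ _).trans ((congrArg (k ≫ ·) (pullback.lift_fst _ _ _)).trans ?_)
      rw [c.app_nat, ← hab, c.comp_σ a]
      exact c.app_congr _ _ (by simp [k, hx]) (by simp [k, t])
    · refine (Category.assoc _ _ _).trans ((congrArg (k ≫ ·) (pullback.lift_snd _ _ _)).trans ?_)
      exact pullback.lift_fst _ _ _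
  rw [e]
  rfl

/-- The map to the base from the strict henselization at a point. -/
noncomputable abbrev henzMap (A : Type u) [CommRing A] (K : Type u) [CommRing K] [Algebra A K] :
    Spec (CommRingCat.of (Hensel.Henz A K)) ⟶ Spec (CommRingCat.of A) :=
  Spec.map (CommRingCat.ofHom (algebraMap A (Hensel.Henz A K)))

theorem universallyOpen_sigmaDesc_cover {ι : Type u} {U : ι → Scheme.{u}} (f : ∀ i, U i ⟶ X)
    [∀ i, IsOpenImmersion (f i)] : UniversallyOpen (Sigma.desc f) := by
  refine IsZariskiLocalAtSource.of_openCover (P := @UniversallyOpen) (sigmaOpenCover U) fun i => ?_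
  rw [sigmaOpenCover_f, Sigma.ι_desc]
  infer_instance

/-- **Reduction to strictly henselian local rings.** Over an affine base, a descent datum along a
quasi-compact universally submersive morphism has enough sections if it does so over every strict
henselization. -/
theorem hasLifts_of_henz {A : Type u} [CommRing A] {g : X ⟶ Spec (CommRingCat.of A)}
    (hg : SGA1.UnivSubmersive g) [QuasiCompact g] {D : Desc.SchDD g} [Etale D.obj.hom]
    (H : ∀ (d : D.obj.left) (K : Type u) [Field K] [IsSepClosed K] [Algebra A K],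
      RingHom.ker (algebraMap A K) = (g (D.obj.hom d)).asIdeal →
      ∃ c : Sec D (henzMap A K), d ∈ Set.range c.σ) : HasLifts D := by
  have : CompactSpace X := QuasiCompact.compactSpace_of_compactSpace g
  let 𝒰 := X.affineCover.finiteSubcover
  let ι : Type u := ULift.{u} (Fin (Nat.card 𝒰.I₀))
  let e : ι ≃ 𝒰.I₀ := Equiv.ulift.trans (Finite.equivFin _).symm
  let U : ι → Scheme.{u} := fun i => 𝒰.X (e i)
  have : ∀ i, IsAffine (U i) := fun i => inferInstanceAs (IsAffine (X.affineCover.X _))
  let π : ∐ U ⟶ X := Sigma.desc fun i => 𝒰.f (e i)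
  have : Surjective π := ⟨fun x => by
    obtain ⟨y, hy⟩ := 𝒰.covers x
    let i := e.symm (𝒰.idx x)
    have hi : 𝒰.idx x = e i := (e.apply_symm_apply _).symm
    revert y
    rw [hi]
    intro y hy
    refine ⟨Sigma.ι U i y, ?_⟩
    rw [← Scheme.Hom.comp_apply, Sigma.ι_desc]
    exact hy⟩
  have : UniversallyOpen π := universallyOpen_sigmaDesc_cover _
  have hπ : SGA1.UnivSubmersive (π ≫ g) := fun X₁ Y₁ h₁ h₂ f' sq => by
    let q := pullback.snd g h₂
    have hq : Topology.IsQuotientMap q.base :=
      hg _ _ _ (IsPullback.of_hasPullback g h₂).flip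
    let l : X₁ ⟶ pullback g h₂ :=
      pullback.lift (h₁ ≫ π) f' (by rw [Category.assoc, sq.w])
    have hl : IsPullback l h₁ (pullback.fst g h₂) π := by
      refine IsPullback.of_right (h₁₂ := q) (h₂₂ := g) (v₁₃ := h₂) ?_ (pullback.lift_fst _ _ _)
        (IsPullback.of_hasPullback g h₂).flip
      rw [pullback.lift_snd]
      exact sq
    have : UniversallyOpen l := MorphismProperty.of_isPullback hl.flip ‹UniversallyOpen π›
    have : Surjective l := MorphismProperty.of_isPullback hl.flip ‹Surjective π›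
    have h2 : Topology.IsQuotientMap (q.base ∘ l.base) :=
      hq.comp (l.isOpenMap.isQuotientMap l.continuous l.surjective)
    have e : f' = l ≫ q := (pullback.lift_snd _ _ _).symm
    show Topology.IsQuotientMap f'.base
    rw [e, Scheme.Hom.comp_base, TopCat.coe_comp]
    exact h2
  have w : π ≫ g = (π ≫ g) ≫ 𝟙 _ := (Category.comp_id _).symm
  refine hasLifts_of_refinement hπ w fun d₁ => ?_
  let d := pullback.fst D.obj.hom π d₁
  let p : PrimeSpectrum A := g (D.obj.hom d)
  let K := SeparableClosure p.asIdeal.ResidueField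
  have hker : RingHom.ker (algebraMap A K) = p.asIdeal := by
    ext a
    rw [RingHom.mem_ker, IsScalarTower.algebraMap_apply A p.asIdeal.ResidueField K, map_eq_zero,
      Ideal.algebraMap_residueField_eq_zero]
  obtain ⟨C₀, hC₀⟩ := H d K hker
  let C₁ := C₀.pull (henzMap A K) (𝟙 _) (by rw [Category.id_comp, Category.comp_id]) w
  have hC₁ : d₁ ∈ Set.range C₁.σ :=
    Sec.mem_range_pull w C₀ (IsPullback.of_horiz_isIso
      ⟨by rw [Category.id_comp, Category.comp_id]⟩) d₁ hC₀
  obtain ⟨N, c', hc'⟩ := exists_sec_nbhd (A := A) (K := K) (pullDD w D) C₁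
  refine ⟨_, Spec.map (CommRingCat.ofHom (algebraMap A N.N.B)), ?_, c', ?_⟩
  · rw [HasRingHomProperty.Spec_iff (P := @Etale)]
    exact RingHom.etale_algebraMap.2 inferInstance
  · rw [← hc'] at hC₁
    obtain ⟨q, hq⟩ := hC₁
    let k : pullback (π ≫ g) (henzMap A K) ⟶
        pullback (π ≫ g) (Spec.map (CommRingCat.ofHom (algebraMap A N.N.B))) :=
      pullback.lift (pullback.fst _ _)
        (pullback.snd _ _ ≫ Spec.map (CommRingCat.ofHom (Hensel.Henz.ofB N.N).toRingHom))
        ((pullback.condition (f := π ≫ g) (g := henzMap A K)).trans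
          ((congrArg (pullback.snd (π ≫ g) (henzMap A K) ≫ ·)
            (Over.w ((nbhdCone A K).π.app (Opposite.op N))).symm).trans (Category.assoc _ _ _).symm))
    exact ⟨k q, (Scheme.Hom.comp_apply k c'.σ q).symm.trans hq⟩

/-- The form of the reduction with sections over the strictly henselian local base itself. -/
theorem hasLifts_of_strictlyHenselian {A : Type u} [CommRing A] {g : X ⟶ Spec (CommRingCat.of A)}
    (hg : SGA1.UnivSubmersive g) [QuasiCompact g] {D : Desc.SchDD g} [Etale D.obj.hom]
    (H : ∀ (R : Type u) [CommRing R] [HenselianLocalRing R] [IsSepClosed (IsLocalRing.ResidueField R)]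
      (φ : A →+* R)
      (d : (pullDD (IsPullback.of_hasPullback g (Spec.map (CommRingCat.ofHom φ))).w D).obj.left),
      pullback.snd g (Spec.map (CommRingCat.ofHom φ))
          ((pullDD (IsPullback.of_hasPullback g (Spec.map (CommRingCat.ofHom φ))).w D).obj.hom d) =
        IsLocalRing.closedPoint R →
      ∃ c : Sec (pullDD (IsPullback.of_hasPullback g (Spec.map (CommRingCat.ofHom φ))).w D)
        (𝟙 (Spec (CommRingCat.of R))), d ∈ Set.range c.σ) : HasLifts D := by
  refine hasLifts_of_henz hg fun d K _ _ _ hker => ?_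
  let R := Hensel.Henz A K
  have := EtFound.henselianLocalRing_henz' A K
  have := EtFound.isSepClosed_residue_henz' A K
  let s := henzMap A K
  have hcl : s (IsLocalRing.closedPoint R) = g (D.obj.hom d) := by
    refine PrimeSpectrum.ext ?_
    rw [← hker]
    ext a
    show algebraMap A R a ∈ IsLocalRing.maximalIdeal R ↔ _
    rw [EtFound.maximalIdeal_henz', RingHom.mem_ker, RingHom.mem_ker, AlgHom.commutes]
  obtain ⟨x, hx₁, hx₂⟩ := Scheme.Pullback.exists_preimage_pullback
    (f := g) (g := s) (D.obj.hom d) (IsLocalRing.closedPoint R) hcl.symm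
  obtain ⟨d', hd₁, hd₂⟩ := Scheme.Pullback.exists_preimage_pullback
    (f := D.obj.hom) (g := pullback.fst g s) d x hx₁.symm
  obtain ⟨c, hc⟩ := H R (algebraMap A R) d' (by
    show pullback.snd g s (pullback.snd D.obj.hom (pullback.fst g s) d') = _
    rw [hd₂, hx₂])
  refine ⟨(c.push (IsPullback.of_hasPullback g s)).res (𝟙 _) (by rw [Category.id_comp]; exact
    (Category.id_comp _)), ?_⟩
  have h1 := Sec.range_push c (IsPullback.of_hasPullback g s) ⟨d', hc, hd₁⟩
  obtain ⟨q, hq⟩ := h1
  let k : pullback g (𝟙 _ ≫ s) ⟶ pullback g s :=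
    pullback.lift (pullback.fst _ _) (pullback.snd _ _) (by rw [pullback.condition, Category.id_comp])
  refine ⟨k q, ?_⟩
  rw [← hq, ← Scheme.Hom.comp_apply]
  refine congrArg (fun m : _ ⟶ D.obj.left => m q) ?_
  refine (Sec.app_nat _ _ _ _ _).trans ((Sec.app_congr _ _ (pullback.condition (f := g) (g := 𝟙 _ ≫ s)) ?_ ?_).trans ?_)
  · exact pullback.lift_fst _ _ _
  · exact pullback.lift_snd _ _ _
  · rw [Sec.app, pullback.lift_fst_snd]; exact Category.id_comp _

/-- Over a separably closed field the sections through any point exist. -/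
theorem exists_sec_of_field {k : Type u} [Field k] [IsSepClosed k]
    {g : X ⟶ Spec (CommRingCat.of k)} [Surjective g] [QuasiCompact g] (D : Desc.SchDD g)
    [IsSeparated D.obj.hom] [Etale D.obj.hom] (d : D.obj.left) :
    ∃ c : Sec D (𝟙 (Spec (CommRingCat.of k))), d ∈ Set.range c.σ := by
  have : Flat g := inferInstance
  obtain ⟨U, _, _, ⟨e⟩⟩ := exists_iso_of_fpqc g D
  obtain ⟨c, _⟩ := exists_sec_of_iso e
  obtain ⟨q, hq⟩ := c.σ.surjective d
  let u := pullback.snd g U.hom q
  have : IsSepClosed (IsLocalRing.ResidueField k) :=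
    Hensel.isSepClosed_of_ringEquiv (RingEquiv.ofBijective (IsLocalRing.residue k)
      ⟨RingHom.injective _, IsLocalRing.residue_surjective⟩)
  obtain ⟨s, hs, hsu⟩ := (Hensel.strictlyHenselian_iff_exists_section k).1 ⟨inferInstance, this⟩
    U.left U.hom ‹_› u (Subsingleton.elim _ _)
  refine ⟨c.res s hs, ?_⟩
  obtain ⟨z, hz₁, hz₂⟩ := Scheme.Pullback.exists_preimage_pullback
    (f := pullback.snd g U.hom) (g := s) q (IsLocalRing.closedPoint k) hsu.symm
  let l := pullback.fst (pullback.snd g U.hom) s
  let k' : pullback (pullback.snd g U.hom) s ⟶ pullback g (𝟙 (Spec (CommRingCat.of k))) :=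
    pullback.lift (l ≫ pullback.fst g U.hom) (pullback.snd _ _)
      (by rw [Category.assoc, pullback.condition, ← Category.assoc, pullback.condition,
        Category.assoc, hs])
  refine ⟨k' z, ?_⟩
  rw [← hq, ← hz₁, ← Scheme.Hom.comp_apply, ← Scheme.Hom.comp_apply]
  refine congrArg (fun m : _ ⟶ D.obj.left => m z) ?_
  refine (c.app_nat _ _ _ _).trans ((c.app_congr _ ?_ ?_ ?_).trans (c.comp_σ l).symm)
  · simp [pullback.condition]
  · simp [k']
  · simp [k', l, pullback.condition]

/-- Over a local base, a universally closed morphism: a closed set missing the closed fibre is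
empty. -/
theorem eq_empty_of_isClosed {R : Type u} [CommRing R] [IsLocalRing R] {Z : Scheme.{u}}
    (f : Z ⟶ Spec (CommRingCat.of R)) [UniversallyClosed f] {T : Set Z} (hT : IsClosed T)
    (h : ∀ z ∈ T, f z ≠ IsLocalRing.closedPoint R) : T = ∅ := by
  by_contra hne
  obtain ⟨z, hz⟩ := Set.nonempty_iff_ne_empty.2 hne
  have hcl : IsClosed (f '' T) := f.isClosedMap T hT
  obtain ⟨z', hz', e⟩ :=
    (IsLocalRing.specializes_closedPoint (f z)).mem_closed hcl ⟨z, hz, rfl⟩
  exact h z' hz' e

section extend

variable {R : Type u} [CommRing R] [IsLocalRing R] {g : X ⟶ Spec (CommRingCat.of R)}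
  [UniversallyClosed g] (D : Desc.SchDD g)

/-- The inclusion of the closed point. -/
noncomputable abbrev ιClosed (R : Type u) [CommRing R] [IsLocalRing R] :
    Spec (CommRingCat.of (IsLocalRing.ResidueField R)) ⟶ Spec (CommRingCat.of R) :=
  Spec.map (CommRingCat.ofHom (IsLocalRing.residue R))

theorem range_ιClosed : Set.range (ιClosed R) = {IsLocalRing.closedPoint R} := by
  ext p
  show p ∈ Set.range (PrimeSpectrum.comap (IsLocalRing.residue R)) ↔ _
  rw [range_comap_of_surjective _ _ IsLocalRing.residue_surjective]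
  rw [PrimeSpectrum.mem_zeroLocus, SetLike.coe_subset_coe, IsLocalRing.ker_residue,
    Set.mem_singleton_iff]
  constructor
  · exact fun h => PrimeSpectrum.ext
      ((IsLocalRing.maximalIdeal.isMaximal R).eq_of_le p.isPrime.ne_top h).symm
  · rintro rfl
    exact le_refl (IsLocalRing.maximalIdeal R)

variable [Etale D.obj.hom]

/-- A section over `X` extending a section over the closed fibre is a section of the datum. -/
theorem exists_sec_of_extension (c₀ : Sec D (ιClosed R)) (σ : X ⟶ D.obj.left)
    (hσ : σ ≫ D.obj.hom = 𝟙 X) (h₀ : pullback.fst g (ιClosed R) ≫ σ = c₀.σ) :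
    ∃ c : Sec D (𝟙 (Spec (CommRingCat.of R))), Set.range c₀.σ ⊆ Set.range c.σ := by
  let x₀ := pullback.fst g g
  let x₁ := pullback.snd g g
  let a := tr D x₀ x₁ pullback.condition (x₀ ≫ σ) (by rw [Category.assoc, hσ, Category.comp_id])
  let b := x₁ ≫ σ
  have hr : a ≫ D.obj.hom = b ≫ D.obj.hom := by
    rw [tr_hom, Category.assoc, hσ, Category.comp_id]
  let E : Set ↥(pullback g g) :=
    (pullback.lift a b hr).base ⁻¹' Set.range (pullback.diagonal D.obj.hom).base
  have hE : IsOpen E :=
    ((pullback.diagonal D.obj.hom).isOpenEmbedding.isOpen_range).preimage (Scheme.Hom.continuous _)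
  let f2 := x₀ ≫ g
  have : UniversallyClosed f2 := inferInstance
  have hE' : Eᶜ = ∅ := eq_empty_of_isClosed f2 hE.isClosed_compl fun z hz e => hz <| by
    obtain ⟨o, ho⟩ : f2 z ∈ Set.range (ιClosed R) := by rw [range_ιClosed, e]; rfl
    obtain ⟨z', hz', -⟩ := Scheme.Pullback.exists_preimage_pullback (f := f2) (g := ιClosed R) z o ho.symm
    let l := pullback.fst f2 (ιClosed R)
    let τ := pullback.snd f2 (ιClosed R)
    have k₀ : (l ≫ x₀) ≫ g = τ ≫ ιClosed R := by
      rw [Category.assoc]; exact pullback.condition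
    have k₁ : (l ≫ x₁) ≫ g = τ ≫ ιClosed R := by
      rw [← k₀, Category.assoc, Category.assoc]
      exact congrArg (l ≫ ·) pullback.condition.symm
    have ev : ∀ (x : _ ⟶ X) (h : x ≫ g = τ ≫ ιClosed R), x ≫ σ = c₀.app x τ h := fun x h => by
      rw [Sec.app, ← h₀, ← Category.assoc, pullback.lift_fst]
    have heq : l ≫ a = l ≫ b := by
      rw [show l ≫ b = c₀.app (l ≫ x₁) τ k₁ from (Category.assoc _ _ _).symm.trans (ev _ k₁), tr_nat,
        ← c₀.tr_app _ _ τ k₀ k₁ (k₀.trans k₁.symm) (c₀.app_hom _ _ _)]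
      exact tr_congr _ _ _ _ rfl rfl ((Category.assoc _ _ _).symm.trans (ev _ k₀))
    show pullback.lift a b hr z ∈ Set.range (pullback.diagonal D.obj.hom)
    rw [← hz', ← Scheme.Hom.comp_apply,
      show l ≫ pullback.lift a b hr = (l ≫ a) ≫ pullback.diagonal D.obj.hom from
        pullback.hom_ext (by simp) (by simp [heq]), Scheme.Hom.comp_apply]
    exact ⟨_, rfl⟩
  have hsub : Set.range (pullback.lift a b hr) ⊆ Set.range (pullback.diagonal D.obj.hom) := by
    rintro _ ⟨z, rfl⟩
    exact (Set.compl_empty_iff.1 hE' ▸ Set.mem_univ z : z ∈ E)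
  have hab : a = b := by
    have hfac := IsOpenImmersion.lift_fac _ _ hsub
    have ha := congrArg (fun m => m ≫ pullback.fst D.obj.hom D.obj.hom) hfac
    have hb := congrArg (fun m => m ≫ pullback.snd D.obj.hom D.obj.hom) hfac
    simp only [Category.assoc, pullback.diagonal_fst, pullback.diagonal_snd, Category.comp_id,
      pullback.lift_fst, pullback.lift_snd] at ha hb
    exact ha.symm.trans hb
  refine ⟨⟨pullback.fst g (𝟙 _) ≫ σ, by rw [Category.assoc, hσ, Category.comp_id],
    fun {T} z₀ z₁ t e₀ e₁ => ?_⟩, ?_⟩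
  · simp only [pullback.lift_fst_assoc]
    let l := pullback.lift z₀ z₁ (e₀.trans e₁.symm)
    have hl₀ : l ≫ x₀ = z₀ := pullback.lift_fst _ _ _
    have hl₁ : l ≫ x₁ = z₁ := pullback.lift_snd _ _ _
    have := congrArg (l ≫ ·) hab
    simp only [a, b, tr_nat, reassoc_of% hl₁] at this
    rw [← this]
    exact tr_congr _ _ _ _ hl₀.symm hl₁.symm ((reassoc_of% hl₀) σ).symm
  · rintro _ ⟨q, rfl⟩
    refine ⟨pullback.lift (pullback.fst g (ιClosed R)) (pullback.fst g (ιClosed R) ≫ g)
      (Category.comp_id _).symm q, ?_⟩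
    rw [← Scheme.Hom.comp_apply, pullback.lift_fst_assoc, h₀]

end extend

end Groth.Agent.EtEff48
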