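import Groth.Agent.EtEff48.Local

/-!
# Effective descent from extension of sections over strictly henselian local bases
-/

set_option autoImplicit false
set_option backward.isDefEq.respectTransparency false
set_option backward.isDefEq.respectTransparency.types false

universe u

open CategoryTheory CategoryTheory.Limits AlgebraicGeometry MorphismProperty

namespace Groth.Agent.EtEff48

variable {X S : Scheme.{u}}

section closed

variable {R : Type u} [CommRing R] [IsLocalRing R] [IsSepClosed (IsLocalRing.ResidueField R)]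
  {g : X ⟶ Spec (CommRingCat.of R)} [Surjective g] [QuasiCompact g] (D : Desc.SchDD g)
  [IsSeparated D.obj.hom] [Etale D.obj.hom]

/-- Sections over the closed point pass through every point of the closed fibre. -/
theorem exists_sec_ιClosed (d : D.obj.left) (hd : g (D.obj.hom d) = IsLocalRing.closedPoint R) :
    ∃ c : Sec D (ιClosed R), d ∈ Set.range c.σ := by
  let w := (IsPullback.of_hasPullback g (ιClosed R)).w
  obtain ⟨o, ho⟩ : g (D.obj.hom d) ∈ Set.range (ιClosed R) := by rw [range_ιClosed, hd]; rfl
  obtain ⟨x, hx₁, -⟩ := Scheme.Pullback.exists_preimage_pullback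
    (f := g) (g := ιClosed R) (D.obj.hom d) o ho.symm
  obtain ⟨d', hd₁, -⟩ := Scheme.Pullback.exists_preimage_pullback
    (f := D.obj.hom) (g := pullback.fst g (ιClosed R)) d x hx₁.symm
  obtain ⟨c, hc⟩ := exists_sec_of_field (pullDD w D) d'
  obtain ⟨q, hq⟩ := Sec.range_push c (IsPullback.of_hasPullback g (ιClosed R)) ⟨d', hc, hd₁⟩
  refine ⟨(c.push (IsPullback.of_hasPullback g (ιClosed R))).res (𝟙 _) (by rw [Category.id_comp, Category.id_comp]), ?_⟩
  let k : pullback g (𝟙 _ ≫ ιClosed R) ⟶ pullback g (ιClosed R) :=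
    pullback.lift (pullback.fst _ _) (pullback.snd _ _) (by rw [pullback.condition, Category.id_comp])
  refine ⟨k q, ?_⟩
  rw [← hq, ← Scheme.Hom.comp_apply]
  refine congrArg (fun m : _ ⟶ D.obj.left => m q) ?_
  refine (Sec.app_nat _ _ _ _ _).trans
    ((Sec.app_congr _ _ (pullback.condition (f := g) (g := 𝟙 _ ≫ ιClosed R)) ?_ ?_).trans ?_)
  · exact pullback.lift_fst _ _ _
  · exact (congrArg (k ≫ ·) (Category.comp_id _)).trans (pullback.lift_snd _ _ _)
  · rw [Sec.app, pullback.lift_fst_snd]; exact Category.id_comp _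

/-- For a universally closed morphism, extension of closed fibre sections gives sections. -/
theorem exists_sec_of_forall_extension [UniversallyClosed g]
    (hext : ∀ c₀ : Sec D (ιClosed R), ∃ σ : X ⟶ D.obj.left,
      σ ≫ D.obj.hom = 𝟙 X ∧ pullback.fst g (ιClosed R) ≫ σ = c₀.σ)
    (d : D.obj.left) (hd : g (D.obj.hom d) = IsLocalRing.closedPoint R) :
    ∃ c : Sec D (𝟙 (Spec (CommRingCat.of R))), d ∈ Set.range c.σ := by
  obtain ⟨c₀, hc₀⟩ := exists_sec_ιClosed D d hd
  obtain ⟨σ, h₁, h₂⟩ := hext c₀
  obtain ⟨c, hc⟩ := exists_sec_of_extension D c₀ σ h₁ h₂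
  exact ⟨c, hc hc₀⟩

end closed

/-- Descent data along `g` have enough sections if this is so over affine opens of the base. -/
theorem hasLifts_of_affineCover {g : X ⟶ S} {D : Desc.SchDD g}
    (h : ∀ i, HasLifts (pullDD (IsPullback.of_hasPullback g (S.affineCover.f i)).w D)) : HasLifts D :=
  hasLifts_of_etale_cover (fun i => IsPullback.of_hasPullback g (S.affineCover.f i))
    (fun x => ⟨_, S.affineCover.covers x⟩) h

/-- **Effective descent, driver.** A descent datum along a quasi-compact universally submersive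
morphism with étale separated scheme is effective as soon as sections over strictly henselian local
rings exist. -/
theorem exists_iso_of_strictlyHenselian {g : X ⟶ S} (hg : SGA1.UnivSubmersive g) [QuasiCompact g]
    (D : Desc.SchDD g) [IsSeparated D.obj.hom] [Etale D.obj.hom]
    (H : ∀ (R : Type u) [CommRing R] [HenselianLocalRing R]
      [IsSepClosed (IsLocalRing.ResidueField R)] {X' : Scheme.{u}} {p : Spec (CommRingCat.of R) ⟶ S}
      {p' : X' ⟶ X} {g' : X' ⟶ Spec (CommRingCat.of R)} (sq : IsPullback p' g' g p)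
      (d : (pullDD sq.w D).obj.left),
      g' ((pullDD sq.w D).obj.hom d) = IsLocalRing.closedPoint R →
      ∃ c : Sec (pullDD sq.w D) (𝟙 (Spec (CommRingCat.of R))), d ∈ Set.range c.σ) :
    ∃ U : Over S, IsSeparated U.hom ∧ Etale U.hom ∧ Nonempty ((Desc.toDD g).obj U ≅ D) := by
  suffices key : ∀ (A : Type u) [CommRing A] (f : Spec (CommRingCat.of A) ⟶ S) [IsOpenImmersion f],
      HasLifts (pullDD (IsPullback.of_hasPullback g f).w D) from
    exists_of_hasLifts hg D (hasLifts_of_affineCover fun i => key _ (S.affineCover.f i))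
  intro A _ f _
  have sq₁ := IsPullback.of_hasPullback g f
  refine hasLifts_of_henz (SGA1Q.univSubmersive_of_isPullback hg sq₁.flip)
    fun d₁ K _ _ _ hker => ?_
  let R := Hensel.Henz A K
  have := EtFound.henselianLocalRing_henz' A K
  have := EtFound.isSepClosed_residue_henz' A K
  let s := henzMap A K
  let p : Spec (CommRingCat.of R) ⟶ S := s ≫ f
  let d := pullback.fst D.obj.hom (pullback.fst g (f)) d₁
  have hcl : g (D.obj.hom d) = p (IsLocalRing.closedPoint R) := by
    have e : pullback.fst D.obj.hom (pullback.fst g f) ≫ D.obj.hom ≫ g =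
        pullback.snd D.obj.hom (pullback.fst g f) ≫ pullback.snd g f ≫ f := by
      rw [pullback.condition_assoc, pullback.condition]
    refine (congrArg (fun m : _ ⟶ S => m d₁) e).trans ?_
    refine congrArg (fun z : Spec (CommRingCat.of A) => f z) ?_
    refine PrimeSpectrum.ext ?_
    refine hker.symm.trans ?_
    ext a
    show _ ↔ algebraMap A R a ∈ IsLocalRing.maximalIdeal R
    rw [EtFound.maximalIdeal_henz', RingHom.mem_ker, RingHom.mem_ker, AlgHom.commutes]
  obtain ⟨x, hx₁, hx₂⟩ := Scheme.Pullback.exists_preimage_pullback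
    (f := g) (g := p) (D.obj.hom d) (IsLocalRing.closedPoint R) hcl
  obtain ⟨d', hd₁, hd₂⟩ := Scheme.Pullback.exists_preimage_pullback
    (f := D.obj.hom) (g := pullback.fst g p) d x hx₁.symm
  obtain ⟨c, hc⟩ := H R (IsPullback.of_hasPullback g p) d' (by
    show pullback.snd g p (pullback.snd D.obj.hom (pullback.fst g p) d') = _
    rw [hd₂, hx₂])
  have hsq : IsPullback (𝟙 _) s (𝟙 _ ≫ p) (f) := by
    refine IsPullback.of_isLimit' ⟨by simp [p]⟩ (PullbackCone.IsLimit.mk _ (fun t => t.fst)
      (fun t => Category.comp_id _) (fun t => ?_) fun t m hm _ => ?_)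
    · rw [← cancel_mono f, Category.assoc]
      refine Eq.trans ?_ t.condition
      simp [p]
    · exact (Category.comp_id _).symm.trans hm
  have sq := IsPullback.of_hasPullback g p
  exact ⟨(c.push sq).pull s (𝟙 _) hsq.w sq₁.w, Sec.mem_range_pull sq₁.w (c.push sq) hsq d₁
    (Sec.range_push c sq ⟨d', hc, hd₁⟩)⟩

end Groth.Agent.EtEff48
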