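import Groth.Agent.EtMVLib.OpenSeq
import Groth.Agent.EtMVLib.HpullApply
import Groth.Agent.EtMVLib.ExtTools
import Groth.Agent.EtMVLib.BigPull
import Groth.Agent.EtFound.PullStalk

/-!
# Coherence of the composition of inverse images
-/

set_option autoImplicit false
set_option backward.isDefEq.respectTransparency.types false

universe u

open CategoryTheory CategoryTheory.Limits CategoryTheory.Abelian AlgebraicGeometry Opposite

namespace Groth.Agent.EtEff48.HFun

variable {X Y Z : Scheme.{u}}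

/-- unit on sections -/
noncomputable abbrev up (f : X ⟶ Y) (F : EtCoh.Ab Y) (V : Y.Etale) (x : F.obj.obj (op V)) :
    ((EtCoh.pull f).obj F).obj.obj (op ((EtCoh.bc f).obj V)) :=
  ((EtCoh.pullPushAdj f).unit.app F).hom.app (op V) x

theorem up_nat (f : X ⟶ Y) {F G : EtCoh.Ab Y} (φ : F ⟶ G) (V : Y.Etale) (x : F.obj.obj (op V)) :
    ((EtCoh.pull f).map φ).hom.app (op ((EtCoh.bc f).obj V)) (up f F V x) = up f G V (φ.hom.app (op V) x) :=
  (ConcreteCategory.congr_hom (congrArg (fun α : F ⟶ (EtCoh.push f).obj ((EtCoh.pull f).obj G) => α.hom.app (op V))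
    ((EtCoh.pullPushAdj f).unit.naturality φ)) x).symm

theorem up_map (f : X ⟶ Y) (F : EtCoh.Ab Y) {V W : Y.Etale} (m : V ⟶ W) (x : F.obj.obj (op W)) :
    up f F V (F.obj.map m.op x) =
      ((EtCoh.pull f).obj F).obj.map ((EtCoh.bc f).map m).op (up f F W x) :=
  NatTrans.naturality_apply ((EtCoh.pullPushAdj f).unit.app F).hom m.op x

theorem hom_ext (f : X ⟶ Y) {F : EtCoh.Ab Y} {K : EtCoh.Ab X} {φ ψ : (EtCoh.pull f).obj F ⟶ K}
    (h : ∀ V x, φ.hom.app (op ((EtCoh.bc f).obj V)) (up f F V x) =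
      ψ.hom.app (op ((EtCoh.bc f).obj V)) (up f F V x)) : φ = ψ := by
  apply ((EtCoh.pullPushAdj f).homEquiv _ _).injective
  rw [Adjunction.homEquiv_unit, Adjunction.homEquiv_unit]
  refine Sheaf.hom_ext (NatTrans.ext (funext fun V => ConcreteCategory.hom_ext _ _ fun x => ?_))
  exact h V.unop x

theorem app_eq_map {C : Type*} [Category* C] {P Q : Cᵒᵖ ⥤ AddCommGrpCat.{u + 1}} (α : P ⟶ Q) {A B : C}
    (i : A ⟶ B) (m : B ⟶ A) (z : P.obj (op A)) (h : i ≫ m = 𝟙 A) :
    α.app (op A) z = Q.map i.op (α.app (op B) (P.map m.op z)) := by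
  refine Eq.trans ?_ (NatTrans.naturality_apply α i.op _)
  refine congrArg (α.app (op A)) ?_
  rw [← ConcreteCategory.comp_apply, ← Functor.map_comp, ← op_comp, h, op_id, CategoryTheory.Functor.map_id,
    ConcreteCategory.id_apply]

/-- comparison of iterated and composite base change -/
noncomputable def cmp (k : X ⟶ Y) (t : Y ⟶ Z) (c : X ⟶ Z) (w : k ≫ t = c) (V : Z.Etale) :
    (EtCoh.bc k).obj ((EtCoh.bc t).obj V) ⟶ (EtCoh.bc c).obj V :=
  MorphismProperty.Over.homMk
    (pullback.lift (pullback.fst ((EtCoh.bc t).obj V).hom k ≫ pullback.fst V.hom t)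
      (pullback.snd ((EtCoh.bc t).obj V).hom k)
      ((Category.assoc _ _ _).trans ((congrArg (_ ≫ ·) (pullback.condition (f := V.hom) (g := t))).trans
        ((Category.assoc _ _ _).symm.trans ((congrArg (· ≫ t)
          (pullback.condition (f := ((EtCoh.bc t).obj V).hom) (g := k))).trans
          ((Category.assoc _ _ _).trans (congrArg (_ ≫ ·) w)))))))
    (pullback.lift_snd _ _ _) trivial

theorem cmp_fst (k : X ⟶ Y) (t : Y ⟶ Z) (c : X ⟶ Z) (w : k ≫ t = c) (V : Z.Etale) :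
    (cmp k t c w V).left ≫ pullback.fst V.hom c =
      pullback.fst ((EtCoh.bc t).obj V).hom k ≫ pullback.fst V.hom t :=
  pullback.lift_fst _ _ _

theorem cmp_snd (k : X ⟶ Y) (t : Y ⟶ Z) (c : X ⟶ Z) (w : k ≫ t = c) (V : Z.Etale) :
    (cmp k t c w V).left ≫ pullback.snd V.hom c = pullback.snd ((EtCoh.bc t).obj V).hom k :=
  pullback.lift_snd _ _ _

theorem bc_map_fst (f : X ⟶ Y) {U V : Y.Etale} (g : V ⟶ U) :
    ((EtCoh.bc f).map g).left ≫ pullback.fst U.hom f = pullback.fst V.hom f ≫ g.left :=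
  (EtCoh.isPullback_bc_map f g).w

/-- iterated and composite inverse image -/
noncomputable abbrev θ (k : X ⟶ Y) (t : Y ⟶ Z) (c : X ⟶ Z) (w : k ≫ t = c) :
    EtCoh.pull t ⋙ EtCoh.pull k ≅ EtCoh.pull c :=
  (EtCore.pullComp k t).symm ≪≫ EtCore.pullCongr w

theorem θ_up (k : X ⟶ Y) (t : Y ⟶ Z) (c : X ⟶ Z) (w : k ≫ t = c) (F : EtCoh.Ab Z) (V : Z.Etale)
    (x : F.obj.obj (op V)) :
    ((θ k t c w).hom.app F).hom.app (op ((EtCoh.bc k).obj ((EtCoh.bc t).obj V)))
        (up k ((EtCoh.pull t).obj F) _ (up t F V x)) =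
      ((EtCoh.pull c).obj F).obj.map (cmp k t c w V).op (up c F V x) := by
  subst w
  let m := (MorphismProperty.Over.pullbackComp (P := EtCoh.etaleMP) (Q := ⊤) k t).hom.app V
  have hm₁ : m.left ≫ pullback.fst ((EtCoh.bc t).obj V).hom k ≫ pullback.fst V.hom t =
      pullback.fst V.hom (k ≫ t) := MorphismProperty.Over.pullbackComp_left_fst_fst k t V
  have hm₂ : m.left ≫ pullback.snd ((EtCoh.bc t).obj V).hom k = pullback.snd V.hom (k ≫ t) :=
    MorphismProperty.Over.w m
  have hid : cmp k t (k ≫ t) rfl V ≫ m = 𝟙 _ := by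
    refine MorphismProperty.Over.Hom.ext ?_
    refine pullback.hom_ext (pullback.hom_ext ?_ ?_) ?_
    · exact (((Category.assoc _ _ _).trans (Category.assoc _ _ _)).trans
        ((congrArg ((cmp k t _ rfl V).left ≫ ·) hm₁).trans (cmp_fst k t _ rfl V))).trans
        (congrArg (· ≫ _) (Category.id_comp _)).symm
    · have hc : pullback.fst ((EtCoh.bc t).obj V).hom k ≫ pullback.snd V.hom t =
          pullback.snd ((EtCoh.bc t).obj V).hom k ≫ k := pullback.condition
      refine ((Category.assoc _ _ _).trans (congrArg (_ ≫ ·) hc)).trans ?_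
      refine Eq.trans ?_ ((Category.assoc _ _ _).trans (congrArg (_ ≫ ·) hc)).symm
      refine (Category.assoc _ _ _).symm.trans (Eq.trans ?_ (Category.assoc _ _ _))
      refine congrArg (· ≫ k) ?_
      exact ((Category.assoc _ _ _).trans ((congrArg ((cmp k t _ rfl V).left ≫ ·) hm₂).trans
        (cmp_snd k t _ rfl V))).trans (Category.id_comp _).symm
    · exact ((Category.assoc _ _ _).trans ((congrArg ((cmp k t _ rfl V).left ≫ ·) hm₂).trans
        (cmp_snd k t _ rfl V))).trans (Category.id_comp _).symm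
  have h : (EtCoh.pullPushAdj (k ≫ t)).unit.app F ≫
      (EtCoh.push (k ≫ t)).map ((EtCore.pullComp k t).hom.app F) =
    ((EtCoh.pullPushAdj t).unit.app F ≫ (EtCoh.push t).map ((EtCoh.pullPushAdj k).unit.app _)) ≫
      (EtCoh.pushComp t k).hom.app _ := by
    refine (Adjunction.unit_leftAdjointUniq_hom_app (EtCoh.pullPushAdj (k ≫ t))
      (((EtCoh.pullPushAdj t).comp (EtCoh.pullPushAdj k)).ofNatIsoRight (EtCoh.pushComp t k)) F).trans ?_
    rw [Adjunction.ofNatIsoRight_unit]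
    simp
  have h2 := congrArg (· ≫ (EtCoh.push (k ≫ t)).map ((EtCore.pullComp k t).inv.app F)) h
  simp only [Category.assoc] at h2
  rw [← Functor.map_comp, Iso.hom_inv_id_app, CategoryTheory.Functor.map_id] at h2
  erw [Category.comp_id] at h2
  have h3 : up (k ≫ t) F V x =
      ((EtCore.pullComp k t).inv.app F).hom.app (op ((EtCoh.bc (k ≫ t)).obj V))
        (((EtCoh.pull k).obj ((EtCoh.pull t).obj F)).obj.map m.op
          (up k ((EtCoh.pull t).obj F) _ (up t F V x))) :=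
    ConcreteCategory.congr_hom (congrArg (fun α : F ⟶ (EtCoh.push (k ≫ t)).obj ((EtCoh.pull (k ≫ t)).obj F) =>
      α.hom.app (op V)) h2) x
  have e : (θ k t (k ≫ t) rfl).hom.app F = (EtCore.pullComp k t).inv.app F := by
    simp [θ, EtCore.pullCongr]
  rw [e, h3]
  exact app_eq_map _ _ _ _ hid

theorem θ_assoc {T₀ T₁ T₂ T₃ : Scheme.{u}} (h : T₀ ⟶ T₁) (g : T₁ ⟶ T₂) (a : T₂ ⟶ T₃) (k : T₀ ⟶ T₂)
    (b : T₁ ⟶ T₃) (c : T₀ ⟶ T₃) (wk : h ≫ g = k) (wb : g ≫ a = b) (wc : h ≫ b = c) (wc' : k ≫ a = c)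
    (F : EtCoh.Ab T₃) :
    (EtCoh.pull h).map ((θ g a b wb).hom.app F) ≫ (θ h b c wc).hom.app F =
      (θ h g k wk).hom.app ((EtCoh.pull a).obj F) ≫ (θ k a c wc').hom.app F := by
  let C := (EtCoh.pull h).obj ((EtCoh.pull g).obj ((EtCoh.pull a).obj F)) ⟶ (EtCoh.pull c).obj F
  suffices H : ∀ φ ψ : C, (∀ V x,
      φ.hom.app (op ((EtCoh.bc h).obj ((EtCoh.bc g).obj ((EtCoh.bc a).obj V)))) (up h _ _ (up g _ _ (up a F V x))) =
      ψ.hom.app (op ((EtCoh.bc h).obj ((EtCoh.bc g).obj ((EtCoh.bc a).obj V)))) (up h _ _ (up g _ _ (up a F V x)))) →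
      φ = ψ by
    refine H _ _ fun V x => ?_
    change ((θ h b c wc).hom.app F).hom.app _ (((EtCoh.pull h).map ((θ g a b wb).hom.app F)).hom.app _
      (up h _ _ (up g _ _ (up a F V x)))) = ((θ k a c wc').hom.app F).hom.app _
        (((θ h g k wk).hom.app ((EtCoh.pull a).obj F)).hom.app _ (up h _ _ (up g _ _ (up a F V x))))
    refine ((congrArg (((θ h b c wc).hom.app F).hom.app _)
      ((up_nat h ((θ g a b wb).hom.app F) _ _).trans
        ((congrArg (up h _ _) (θ_up g a b wb F V x)).trans (up_map h _ _ _)))).trans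
      (NatTrans.naturality_apply ((θ h b c wc).hom.app F).hom ((EtCoh.bc h).map (cmp g a b wb V)).op _)).trans ?_
    refine Eq.trans ?_ ((congrArg (((θ k a c wc').hom.app F).hom.app _)
      (θ_up h g k wk ((EtCoh.pull a).obj F) ((EtCoh.bc a).obj V) (up a F V x))).trans
      (NatTrans.naturality_apply ((θ k a c wc').hom.app F).hom (cmp h g k wk ((EtCoh.bc a).obj V)).op _)).symm
    refine (congrArg (((EtCoh.pull c).obj F).obj.map ((EtCoh.bc h).map (cmp g a b wb V)).op)
      (θ_up h b c wc F V x)).trans ?_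
    refine Eq.trans ?_ (congrArg (((EtCoh.pull c).obj F).obj.map (cmp h g k wk ((EtCoh.bc a).obj V)).op)
      (θ_up k a c wc' F V x)).symm
    rw [← ConcreteCategory.comp_apply, ← ConcreteCategory.comp_apply, ← Functor.map_comp, ← Functor.map_comp,
      ← op_comp, ← op_comp]
    refine congrArg (fun m => (((EtCoh.pull c).obj F).obj.map (Quiver.Hom.op m)) (up c F V x)) ?_
    refine MorphismProperty.Over.Hom.ext (pullback.hom_ext ?_ ?_)
    · refine ((Category.assoc _ _ _).trans (congrArg (_ ≫ ·) (cmp_fst h b c wc V))).trans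
        (Eq.trans ?_ ((Category.assoc _ _ _).trans (congrArg (_ ≫ ·) (cmp_fst k a c wc' V))).symm)
      refine ((Category.assoc _ _ _).symm.trans ((congrArg (· ≫ _) (bc_map_fst h (cmp g a b wb V))).trans
        ((Category.assoc _ _ _).trans (congrArg (_ ≫ ·) (cmp_fst g a b wb V))))).trans ?_
      refine Eq.trans ?_ ((Category.assoc _ _ _).symm.trans ((congrArg (· ≫ _)
        (cmp_fst h g k wk ((EtCoh.bc a).obj V))).trans (Category.assoc _ _ _))).symm
      rfl
    · refine ((Category.assoc _ _ _).trans (congrArg (_ ≫ ·) (cmp_snd h b c wc V))).trans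
        (Eq.trans ?_ ((Category.assoc _ _ _).trans (congrArg (_ ≫ ·) (cmp_snd k a c wc' V))).symm)
      refine (MorphismProperty.Over.w ((EtCoh.bc h).map (cmp g a b wb V))).trans ?_
      exact (cmp_snd h g k wk _).symm
  intro φ ψ hyp
  apply ((EtCoh.pullPushAdj h).homEquiv _ _).injective
  refine hom_ext g fun W y => ?_
  revert W y
  suffices H2 : ((EtCoh.pullPushAdj g).homEquiv _ _ ((EtCoh.pullPushAdj h).homEquiv _ _ φ)) =
      ((EtCoh.pullPushAdj g).homEquiv _ _ ((EtCoh.pullPushAdj h).homEquiv _ _ ψ)) from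
    fun W y => by rw [(((EtCoh.pullPushAdj g).homEquiv _ _).injective H2)]
  refine hom_ext a fun V x => ?_
  rw [Adjunction.homEquiv_unit, Adjunction.homEquiv_unit, Adjunction.homEquiv_unit, Adjunction.homEquiv_unit]
  exact hyp V x

instance pullPFL (f : X ⟶ Y) : PreservesFiniteLimits (EtCoh.pull f) :=
  EtFound.pull_preservesFiniteLimits f

theorem pullConst_θ (k : X ⟶ Y) (t : Y ⟶ Z) (c : X ⟶ Z) (w : k ≫ t = c) :
    (EtCore.pullConst k ℤ).inv ≫ (EtCoh.pull k).map (EtCore.pullConst t ℤ).inv ≫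
      (θ k t c w).hom.app (EtCoh.const Z ℤ) = (EtCore.pullConst c ℤ).inv :=
  EtMVLib.pullConst_comp t c k w

end Groth.Agent.EtEff48.HFun
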