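import Groth.Agent.EtEff48.Integral
import Groth.Agent.Eg2Split.Basic
import Groth.Agent.DescLib.SubtrSubm

/-!
# Effective descent of étale schemes along quasi-finite universally subtrusive morphisms
-/

set_option autoImplicit false
set_option backward.isDefEq.respectTransparency false
set_option backward.isDefEq.respectTransparency.types false

universe u

open CategoryTheory CategoryTheory.Limits AlgebraicGeometry MorphismProperty

namespace Groth.Agent.EtEff48

/-- A quasi-compact scheme has a finite affine Zariski cover by one affine scheme. -/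
theorem exists_affine_openCover (X : Scheme.{u}) [CompactSpace X] :
    ∃ (X' : Scheme.{u}) (π : X' ⟶ X), IsAffine X' ∧ Surjective π ∧ Etale π ∧
      LocallyQuasiFinite π := by
  let 𝒰 := X.affineCover.finiteSubcover
  let ι : Type u := ULift.{u} (Fin (Nat.card 𝒰.I₀))
  let e : ι ≃ 𝒰.I₀ := Equiv.ulift.trans (Finite.equivFin _).symm
  let U : ι → Scheme.{u} := fun i => 𝒰.X (e i)
  have : ∀ i, IsAffine (U i) := fun i => inferInstanceAs (IsAffine (X.affineCover.X _))
  let π : ∐ U ⟶ X := Sigma.desc fun i => 𝒰.f (e i)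
  refine ⟨∐ U, π, inferInstance, ⟨fun x => ?_⟩, ?_, ?_⟩
  · obtain ⟨y, hy⟩ := 𝒰.covers x
    let i := e.symm (𝒰.idx x)
    have hi : 𝒰.idx x = e i := (e.apply_symm_apply _).symm
    revert y
    rw [hi]
    intro y hy
    refine ⟨Sigma.ι U i y, ?_⟩
    rw [← Scheme.Hom.comp_apply, Sigma.ι_desc]
    exact hy
  · refine IsZariskiLocalAtSource.of_openCover (P := @Etale) (sigmaOpenCover U) fun i => ?_
    rw [sigmaOpenCover_f, Sigma.ι_desc]
    infer_instance
  · refine IsZariskiLocalAtSource.of_openCover (P := @LocallyQuasiFinite) (sigmaOpenCover U)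
      fun i => ?_
    rw [sigmaOpenCover_f, Sigma.ι_desc]
    infer_instance

section

variable {R : Type u} [CommRing R] [HenselianLocalRing R]
  [IsSepClosed (IsLocalRing.ResidueField R)] {X : Scheme.{u}}
  {g : X ⟶ Spec (CommRingCat.of R)} [QuasiCompact g] [LocallyOfFiniteType g] [LocallyQuasiFinite g]

/-- Over a strictly henselian local base the sections of a datum along a quasi-finite subtrusive
morphism pass through the points of the closed fibre. -/
theorem exists_sec_of_lqf (hg : Subtr.IsSSubtrusive g) (D : Desc.SchDD g)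
    [IsSeparated D.obj.hom] [Etale D.obj.hom] (d : D.obj.left)
    (hd : g (D.obj.hom d) = IsLocalRing.closedPoint R) :
    ∃ c : Sec D (𝟙 (Spec (CommRingCat.of R))), d ∈ Set.range c.σ := by
  have : CompactSpace X := QuasiCompact.compactSpace_of_compactSpace g
  obtain ⟨X', π, _, _, _, _⟩ := exists_affine_openCover X
  obtain ⟨U, hUc, hUf, hU⟩ := Eg2Split.exists_finite_clopen (f := π ≫ g)
  let h : (U : Scheme.{u}) ⟶ Spec (CommRingCat.of R) := (U.ι ≫ π) ≫ g
  have : IsFinite h := by rwa [show h = U.ι ≫ π ≫ g from Category.assoc _ _ _]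
  have : Surjective h := ⟨fun s => by
    obtain ⟨x, x', hxx, hx, hx'⟩ := hg (IsLocalRing.specializes_closedPoint s)
    obtain ⟨z, rfl⟩ := π.surjective x
    obtain ⟨z', hzz, hz'⟩ := Flat.generalizingMap π hxx
    refine ⟨⟨z', (hzz.mem_open U.isOpen (hU z hx))⟩, ?_⟩
    show g (π z') = s
    rw [hz', hx']⟩
  have hsub : SGA1.UnivSubmersive h := fun X₁ Y₁ h₁ h₂ f' sq => by
    have : IsFinite f' := MorphismProperty.of_isPullback sq.flip ‹IsFinite h›
    have : Surjective f' := MorphismProperty.of_isPullback sq.flip ‹Surjective h›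
    exact f'.isClosedMap.isQuotientMap f'.continuous f'.surjective
  have w : (U.ι ≫ π) ≫ g = h ≫ 𝟙 _ := (Category.comp_id _).symm
  obtain ⟨V, s, hs, C, hC⟩ := exists_sec_mem_of_refinement hsub w
    (fun {V} s => ∃ e : V = Spec (CommRingCat.of R), s = eqToHom e) d fun d' hd' => by
      obtain ⟨c, hc⟩ := exists_sec_of_forall_extension (pullDD w D)
        (fun c₀ => exists_extension_of_integral h _ c₀.σ c₀.w) d' (hd'.trans hd)
      exact ⟨_, 𝟙 _, ⟨rfl, rfl⟩, c, hc⟩
  obtain ⟨rfl, rfl⟩ := hs
  exact ⟨C, hC⟩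

end

/-- **Effective descent of étale separated schemes along quasi-finite universally subtrusive
morphisms.** -/
theorem exists_iso_of_lqf {X S : Scheme.{u}} (g : X ⟶ S) [QuasiCompact g] [LocallyOfFiniteType g]
    [LocallyQuasiFinite g] (hg : Subtr.UnivSSubtrusive g)
    (D : Desc.SchDD g) [IsSeparated D.obj.hom] [Etale D.obj.hom] :
    ∃ U : Over S, IsSeparated U.hom ∧ Etale U.hom ∧ Nonempty ((Desc.toDD g).obj U ≅ D) := by
  refine exists_iso_of_strictlyHenselian (DescLib.univSubmersive_of_univSSubtrusive g hg) D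
    fun R _ _ _ {X' p p' g'} sq d hd => ?_
  have : QuasiCompact g' := MorphismProperty.of_isPullback sq ‹QuasiCompact g›
  have : LocallyOfFiniteType g' := MorphismProperty.of_isPullback sq ‹LocallyOfFiniteType g›
  have : LocallyQuasiFinite g' := MorphismProperty.of_isPullback sq ‹LocallyQuasiFinite g›
  exact exists_sec_of_lqf (hg _ _ g' sq.flip) (pullDD sq.w D) d hd

end Groth.Agent.EtEff48
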