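import Groth.Agent.FlatFun4.StalkDesc
import Groth.Agent.QCoh.Qcqs
import Groth.Agent.QCoh.Tilde
import Groth.Agent.QCoh.Pullback
import Groth.Agent.EtEff48.QF

/-!
# Quasi-coherence descends along flat surjective quasi-compact morphisms

For `f` affine over an affine base the unit `M ⟶ f_* f^* M` and that of its cokernel are injective,
so `M` is the kernel of a morphism of quasi-coherent modules.
-/

set_option autoImplicit false
set_option backward.isDefEq.respectTransparency false
set_option backward.isDefEq.respectTransparency.types false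

universe u

open CategoryTheory CategoryTheory.Limits AlgebraicGeometry

namespace Groth.Agent.EtEff48

variable {X Y : Scheme.{u}} (f : X ⟶ Y) [Flat f] [Surjective f]

theorem mono_unit (M : Y.Modules) :
    Mono ((Scheme.Modules.pullbackPushforwardAdjunction f).unit.app M) := by
  let adj := Scheme.Modules.pullbackPushforwardAdjunction f
  let ι := kernel.ι (adj.unit.app M)
  refine Abelian.mono_of_kernel_ι_eq_zero _ ?_
  refine FlatFun4.eq_zero_of_family ι (fun _ : Unit => f) (fun y => ?_) fun _ => ?_
  · obtain ⟨x, hx⟩ := f.surjective y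
    exact ⟨(), x, hx⟩
  · have h : (Scheme.Modules.pullback f).map ι ≫ (Scheme.Modules.pullback f).map (adj.unit.app M) = 0 := by
      rw [← Functor.map_comp, kernel.condition, Functor.map_zero]
    have h' := congrArg (· ≫ adj.counit.app _) h
    simp only [Category.assoc, zero_comp] at h'
    erw [adj.left_triangle_components, Category.comp_id] at h'
    exact h'

theorem isQCoh_of_pullback_affineHom [QuasiCompact f] [QuasiSeparated f] {M : Y.Modules}
    (h : Coh.IsQCoh ((Scheme.Modules.pullback f).obj M)) : Coh.IsQCoh M := by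
  let adj := Scheme.Modules.pullbackPushforwardAdjunction f
  let η := adj.unit.app M
  have := mono_unit f M
  have hQ : Coh.IsQCoh ((Scheme.Modules.pushforward f).obj ((Scheme.Modules.pullback f).obj M)) :=
    QCoh.isQCoh_pushforward f h
  have hC : Coh.IsQCoh ((Scheme.Modules.pullback f).obj (cokernel η)) := by
    have : PreservesColimitsOfSize.{0, 0} (Scheme.Modules.pullback f) := adj.leftAdjoint_preservesColimits
    have : (Scheme.Modules.pullback f).Additive := adj.left_adjoint_additive
    exact (QCoh.isQCoh_iff_iso (PreservesCokernel.iso (Scheme.Modules.pullback f) η)).2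
      (QCoh.isQCoh_cokernel h (QCoh.isQCoh_pullback f hQ) _)
  let η' := adj.unit.app (cokernel η)
  have := mono_unit f (cokernel η)
  have hk : Coh.IsQCoh (kernel (cokernel.π η ≫ η')) :=
    QCoh.isQCoh_kernel hQ (QCoh.isQCoh_pushforward f hC) _
  refine (QCoh.isQCoh_iff_iso ?_).1 hk
  exact kernelCompMono (cokernel.π η) η' ≪≫ ((Abelian.monoIsKernelOfCokernel _
    (cokernelIsCokernel η)).conePointUniqueUpToIso (kernelIsKernel (cokernel.π η))).symm

theorem isQCoh_of_pullback [QuasiCompact f] {M : Y.Modules}
    (h : Coh.IsQCoh ((Scheme.Modules.pullback f).obj M)) : Coh.IsQCoh M := by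
  refine QCoh.isQCoh_of_isOpenCover (fun V : Y.affineOpens => V.1) (iSup_affineOpens_eq_top Y) fun V => ?_

  have : IsAffine V.1.toScheme := V.2
  let q := pullback.snd f V.1.ι
  have : CompactSpace (pullback f V.1.ι : Scheme.{u}) := QuasiCompact.compactSpace_of_compactSpace q
  obtain ⟨X', π, hX', hπ, hπe, -⟩ := exists_affine_openCover (pullback f V.1.ι)
  let f' := π ≫ q
  have : IsAffineHom f' := isAffineHom_of_isAffine f'
  have : QuasiSeparated f' := inferInstance
  refine (QCoh.isQCoh_iff_iso ((Scheme.Modules.restrictFunctorIsoPullback V.1.ι).app M).symm).1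
    (isQCoh_of_pullback_affineHom f' ?_)
  have e : f' ≫ V.1.ι = (π ≫ pullback.fst f V.1.ι) ≫ f := by
    simp [f', q, pullback.condition]
  refine (QCoh.isQCoh_iff_iso ((Scheme.Modules.pullbackComp f' V.1.ι).app M ≪≫
    (Scheme.Modules.pullbackCongr e).app M ≪≫
    ((Scheme.Modules.pullbackComp (π ≫ pullback.fst f V.1.ι) f).app M).symm)).2 ?_
  exact QCoh.isQCoh_pullback _ h

end Groth.Agent.EtEff48
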