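import Groth.Agent.EtEff48.EtQuotOpen
import Groth.Agent.SGA1Q.Properties
import Groth.Agent.SGA1Q.Desc
import Groth.Agent.FpqcDescLib.Basic
import Groth.Agent.S2925

/-!
# Quotients of étale separated schemes by finite groups are étale
-/

set_option autoImplicit false
set_option backward.isDefEq.respectTransparency false
set_option backward.isDefEq.respectTransparency.types false

universe u

open CategoryTheory Limits AlgebraicGeometry

namespace Groth.Agent.EtEff48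

variable {X Y : Scheme.{u}} {G : Type u} [Group G] (ρ : G →* Aut X) (f : X ⟶ Y)
  (hρ : ∀ g : G, (ρ g).hom ≫ f = f)

/-- The graph of the action of `g`. -/
noncomputable abbrev gamma (g : G) : X ⟶ pullback f f := pullback.lift (𝟙 X) (ρ g).hom (by rw [Category.id_comp, hρ])

theorem gamma_isOpenImmersion [Etale f] (g : G) : IsOpenImmersion (gamma ρ f hρ g) := by
  have h1 : gamma ρ f hρ g ≫ pullback.fst f f = 𝟙 X := pullback.lift_fst _ _ _
  have : Mono (gamma ρ f hρ g) := mono_of_mono_fac h1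
  have : Etale (gamma ρ f hρ g ≫ pullback.fst f f) := by rw [h1]; infer_instance
  have : Etale (gamma ρ f hρ g) := Etale.of_comp _ (pullback.fst f f)
  exact IsOpenImmersion.of_flat_of_mono _

theorem gamma_isClosed [IsSeparated f] (g : G) : IsClosed (Set.range (gamma ρ f hρ g)) := by
  have h1 : gamma ρ f hρ g ≫ pullback.fst f f = 𝟙 X := pullback.lift_fst _ _ _
  have : IsClosedImmersion (gamma ρ f hρ g ≫ pullback.fst f f) := by rw [h1]; infer_instance
  have := IsClosedImmersion.of_comp (gamma ρ f hρ g) (pullback.fst f f)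
  exact (gamma ρ f hρ g).isClosedEmbedding.isClosed_range

variable [Etale f]

/-- The union of the graphs. -/
noncomputable def graphs : (pullback f f).Opens :=
  ⨆ g : G, haveI := gamma_isOpenImmersion ρ f hρ g; (gamma ρ f hρ g).opensRange

theorem mem_graphs {z : ↥(pullback f f)} : z ∈ graphs ρ f hρ ↔ ∃ g, z ∈ Set.range (gamma ρ f hρ g) := by
  rw [graphs, TopologicalSpace.Opens.mem_iSup]
  rfl

/-- Pairs of points in the graph of `g` agree up to `g` near the point. -/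
theorem exists_nhd {T : Scheme.{u}} (a b : T ⟶ X) (h : a ≫ f = b ≫ f) (g : G) (z : T)
    (hz : pullback.lift a b h z ∈ Set.range (gamma ρ f hρ g)) :
    ∃ O : T.Opens, z ∈ O ∧ O.ι ≫ b = O.ι ≫ a ≫ (ρ g).hom := by
  have := gamma_isOpenImmersion ρ f hρ g
  let O : T.Opens := pullback.lift a b h ⁻¹ᵁ (gamma ρ f hρ g).opensRange
  have hO : Set.range (O.ι ≫ pullback.lift a b h) ⊆ Set.range (gamma ρ f hρ g) := by
    rintro _ ⟨x, rfl⟩
    exact x.2
  let l := IsOpenImmersion.lift (gamma ρ f hρ g) (O.ι ≫ pullback.lift a b h) hO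
  have hl : l ≫ gamma ρ f hρ g = O.ι ≫ pullback.lift a b h := IsOpenImmersion.lift_fac _ _ _
  have h1 : l = O.ι ≫ a := by simpa using congrArg (· ≫ pullback.fst f f) hl
  refine ⟨O, hz, ?_⟩
  have h2 := congrArg (· ≫ pullback.snd f f) hl
  simp only [Category.assoc, pullback.lift_snd] at h2
  rw [← h2, h1, Category.assoc]

/-- Local agreement up to `g` puts the pair in the graph. -/
theorem mem_range_of_nhd {T : Scheme.{u}} (a b : T ⟶ X) (h : a ≫ f = b ≫ f) (g : G) (O : T.Opens) (z : T)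
    (hz : z ∈ O) (hO : O.ι ≫ b = O.ι ≫ a ≫ (ρ g).hom) :
    pullback.lift a b h z ∈ Set.range (gamma ρ f hρ g) := by
  have e : O.ι ≫ pullback.lift a b h = (O.ι ≫ a) ≫ gamma ρ f hρ g := by
    apply pullback.hom_ext <;> simp [hO]
  refine ⟨(O.ι ≫ a) ⟨z, hz⟩, ?_⟩
  rw [← Scheme.Hom.comp_apply, ← e, Scheme.Hom.comp_apply]
  rfl

theorem isClopenEqv_graphs [Finite G] [IsSeparated f] : IsClopenEqv f (graphs ρ f hρ) where
  closed := by
    have e : (graphs ρ f hρ : Set ↥(pullback f f)) = ⋃ g, Set.range (gamma ρ f hρ g) := by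
      ext z; simp [mem_graphs ρ f hρ]
    rw [e]
    exact isClosed_iUnion_of_finite fun g => gamma_isClosed ρ f hρ g
  refl := by
    rintro _ ⟨x, rfl⟩
    refine (mem_graphs ρ f hρ).2 ⟨1, x, ?_⟩
    have e : gamma ρ f hρ 1 = pullback.diagonal f := by
      apply pullback.hom_ext <;> simp <;> rfl
    rw [e]
  symm := by
    rintro T a b h hab _ ⟨z, rfl⟩
    obtain ⟨g, hg⟩ := (mem_graphs ρ f hρ).1 (hab ⟨z, rfl⟩)
    obtain ⟨O, hz, hO⟩ := exists_nhd ρ f hρ a b h g z hg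
    refine (mem_graphs ρ f hρ).2 ⟨g⁻¹, mem_range_of_nhd ρ f hρ b a h.symm g⁻¹ O z hz ?_⟩
    have e : (ρ g).hom ≫ (ρ g⁻¹).hom = 𝟙 X := by
      rw [map_inv]; exact (ρ g).hom_inv_id
    rw [reassoc_of% hO, e, Category.comp_id]
  trans := by
    rintro T a b c h h' hab hbc _ ⟨z, rfl⟩
    obtain ⟨g, hg⟩ := (mem_graphs ρ f hρ).1 (hab ⟨z, rfl⟩)
    obtain ⟨k, hk⟩ := (mem_graphs ρ f hρ).1 (hbc ⟨z, rfl⟩)
    obtain ⟨O, hz, hO⟩ := exists_nhd ρ f hρ a b h g z hg
    obtain ⟨O', hz', hO'⟩ := exists_nhd ρ f hρ b c h' k z hk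
    refine (mem_graphs ρ f hρ).2 ⟨k * g,
      mem_range_of_nhd ρ f hρ a c (h.trans h') (k * g) (O ⊓ O') z ⟨hz, hz'⟩ ?_⟩
    have h1 : (O ⊓ O').ι ≫ b = (O ⊓ O').ι ≫ a ≫ (ρ g).hom := by
      rw [← T.homOfLE_ι (inf_le_left : O ⊓ O' ≤ O), Category.assoc, Category.assoc, hO]
    have h2 : (O ⊓ O').ι ≫ c = (O ⊓ O').ι ≫ b ≫ (ρ k).hom := by
      rw [← T.homOfLE_ι (inf_le_right : O ⊓ O' ≤ O'), Category.assoc, Category.assoc, hO']
    rw [h2, reassoc_of% h1, map_mul]
    rfl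

include hρ in
/-- The quotient by a finite group of an étale separated scheme is étale, with étale quotient map. -/
theorem etale_of_isQuot [Finite G] [IsSeparated f] [IsLocallyNoetherian Y] {X' : Scheme.{u}} (p : X ⟶ X')
    (hp : SGA1.IsQuot ρ p) (q : X' ⟶ Y) (hq : p ≫ q = f) :
    Etale p ∧ Etale q := by
  obtain ⟨U, qU, π, -, hqU, hπs, hπe, hπq, sq⟩ :=
    exists_quotient_of_isClopenEqv f (graphs ρ f hρ) (isClopenEqv_graphs ρ f hρ)
  have hπinv : ∀ g, (ρ g).hom ≫ π = π := fun g => by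
    have hsub : Set.range (gamma ρ f hρ g) ⊆ Set.range (graphs ρ f hρ).ι := by
      rw [Scheme.Opens.range_ι]; exact fun z hz => (mem_graphs ρ f hρ).2 ⟨g, hz⟩
    have h := congrArg (IsOpenImmersion.lift (graphs ρ f hρ).ι (gamma ρ f hρ g) hsub ≫ ·) sq.w
    simp only [Category.assoc, IsOpenImmersion.lift_fac_assoc, pullback.lift_fst_assoc, pullback.lift_snd_assoc] at h
    exact h.symm.trans (Category.id_comp _)
  obtain ⟨φ, hφ, -⟩ := S2925.result ρ p hp U π hπinv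
  have : Epi p := SGA1Q.epi_of_surjective_of_injective p (SGA1Q.surjective hp) hp.injective
  have hpinv : ((graphs ρ f hρ).ι ≫ pullback.fst f f) ≫ p = ((graphs ρ f hρ).ι ≫ pullback.snd f f) ≫ p := by
    refine Scheme.Cover.hom_ext (Scheme.openCoverOfIsOpenCover _ (fun g : G =>
      (graphs ρ f hρ).ι ⁻¹ᵁ (haveI := gamma_isOpenImmersion ρ f hρ g; (gamma ρ f hρ g).opensRange)) ?_) _ _ fun g => ?_
    · refine TopologicalSpace.IsOpenCover.mk (top_le_iff.1 fun z _ => ?_)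
      obtain ⟨g, hg⟩ := (mem_graphs ρ f hρ).1 z.2
      exact TopologicalSpace.Opens.mem_iSup.2 ⟨g, hg⟩
    · have := gamma_isOpenImmersion ρ f hρ g
      change ((graphs ρ f hρ).ι ⁻¹ᵁ (gamma ρ f hρ g).opensRange).ι ≫ _ =
        ((graphs ρ f hρ).ι ⁻¹ᵁ (gamma ρ f hρ g).opensRange).ι ≫ _
      set i := ((graphs ρ f hρ).ι ⁻¹ᵁ (gamma ρ f hρ g).opensRange).ι ≫ (graphs ρ f hρ).ι
      have hi : Set.range i ⊆ Set.range (gamma ρ f hρ g) := by
        rintro _ ⟨x, rfl⟩; exact x.2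
      have hl : IsOpenImmersion.lift (gamma ρ f hρ g) i hi ≫ gamma ρ f hρ g = i := IsOpenImmersion.lift_fac _ _ _
      simp only [← Category.assoc]
      rw [show ((graphs ρ f hρ).ι ⁻¹ᵁ (gamma ρ f hρ g).opensRange).ι ≫ (graphs ρ f hρ).ι = i from rfl, ← hl]
      simp only [Category.assoc, pullback.lift_fst_assoc, pullback.lift_snd_assoc, Category.id_comp, hp.inv]
  have : EffectiveEpi π :=
    (FpqcDescLib.isCovering_of_lfp π).effectiveEpi
  obtain ⟨ψ, hψ⟩ : ∃ ψ, π ≫ ψ = p := by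
    refine ⟨EffectiveEpi.desc π p fun {Z} g₁ g₂ h => ?_, EffectiveEpi.fac _ _ _⟩
    rw [← sq.lift_fst g₁ g₂ h, Category.assoc, hpinv]
    simp only [← Category.assoc]
    rw [show (sq.lift g₁ g₂ h ≫ (graphs ρ f hρ).ι) ≫ pullback.snd f f = g₂ from (Category.assoc _ _ _).trans (sq.lift_snd g₁ g₂ h)]
  have h1 : φ ≫ ψ = 𝟙 X' := (cancel_epi p).1 (by rw [← Category.assoc, hφ, hψ, Category.comp_id])
  have h2 : ψ ≫ φ = 𝟙 U := (cancel_epi π).1 (by rw [← Category.assoc, hψ, hφ, Category.comp_id])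
  have : IsIso ψ := ⟨φ, h2, h1⟩
  have : IsIso φ := ⟨ψ, h1, h2⟩
  refine ⟨hψ ▸ inferInstance, ?_⟩
  have e : q = φ ≫ qU := (cancel_epi p).1 (by rw [hq, ← Category.assoc, hφ, hπq])
  rw [e]; infer_instance

end Groth.Agent.EtEff48
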