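import Groth.Agent.EtRam46.Compositum
import Groth.Agent.EtRam46.Galois
import Groth.Agent.EtRam46.Root

/-!
# Fields generated by roots of order prime to the residue characteristic are tame
-/

set_option linter.style.haveILetI false
set_option autoImplicit false
set_option backward.isDefEq.respectTransparency false
set_option backward.isDefEq.respectTransparency.types false

universe u

open IsLocalRing Polynomial

namespace Groth.Agent.EtEff48.RootGenTame

open Groth.Agent.EtRam46

variable {B : Type u} [CommRing B] [IsDomain B] [IsDiscreteValuationRing B]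
variable {K : Type u} [Field K] [Algebra B K] [IsFractionRing B K]
variable {Ω : Type u} [Field Ω] [Algebra K Ω]

theorem tameExt_simple {z : Ω} {e : ℕ} (he : (e : ResidueField B) ≠ 0) {ϖ : B} (hϖ : Irreducible ϖ)
    (u : Bˣ) (d : ℕ) (hz : z ^ e = algebraMap K Ω (algebraMap B K ((u : B) * ϖ ^ d))) :
    FiniteDimensional K (IntermediateField.adjoin K ({z} : Set Ω)) ∧
      TameExt B K (IntermediateField.adjoin K ({z} : Set Ω)) := by
  have he0 : e ≠ 0 := fun h => he (by simp [h])
  haveI hfd : FiniteDimensional K (IntermediateField.adjoin K ({z} : Set Ω)) :=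
    IntermediateField.adjoin.finiteDimensional
      (IsIntegral.of_pow (Nat.pos_of_ne_zero he0) (hz ▸ isIntegral_algebraMap))
  refine ⟨hfd, fun W hW => ?_⟩
  haveI := isDVR_of_finite K hW
  set F := IntermediateField.adjoin K ({z} : Set Ω)
  set i := (algebraMap K F).comp (algebraMap B K) with hi
  let z' : F := ⟨z, IntermediateField.subset_adjoin K _ rfl⟩
  have hz' : z' ^ e = i ((u : B) * ϖ ^ d) := Subtype.ext hz
  have hF : Subfield.closure (Set.range i ∪ {z'}) = ⊤ := by
    rw [eq_top_iff, ← closure_top_adjoin (M := K) z]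
    refine Subfield.closure_le.2 ?_
    rintro y (⟨c, rfl⟩ | hy)
    · exact mem_closure_fraction (C := B) (algebraMap K F)
        (fun b => Subfield.subset_closure (Or.inl ⟨b, rfl⟩)) c
    · exact Subfield.subset_closure (Or.inr hy)
  obtain ⟨hs, hidx⟩ := Groth.Agent.EtRam46.root hW
    ((algebraMap K F).injective.comp (IsFractionRing.injective B K)) hF he hϖ u d hz'
  exact ⟨hs, _, hidx, natCast_ne_zero_of_dvd (Nat.div_dvd_of_dvd (Nat.gcd_dvd_left e d)) he⟩

theorem tameExt_sup {ι : Type*} {z : ι → Ω} {e : ι → ℕ} (he : ∀ j, (e j : ResidueField B) ≠ 0)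
    {ϖ : B} (hϖ : Irreducible ϖ) (u : ι → Bˣ) (d : ι → ℕ)
    (hz : ∀ j, z j ^ e j = algebraMap K Ω (algebraMap B K ((u j : B) * ϖ ^ d j))) (s : Finset ι) :
    FiniteDimensional K ↥(s.sup fun j => IntermediateField.adjoin K ({z j} : Set Ω)) ∧
      TameExt B K ↥(s.sup fun j => IntermediateField.adjoin K ({z j} : Set Ω)) := by
  classical
  induction s using Finset.induction_on with
  | empty => rw [Finset.sup_empty]; exact ⟨inferInstance, tameExt_bot⟩
  | insert j s _ ih =>
    rw [Finset.sup_insert]
    obtain ⟨h1, h2⟩ := tameExt_simple (he j) hϖ (u j) (d j) (hz j)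
    haveI := h1
    haveI := ih.1
    exact ⟨inferInstance, TameExt.sup _ _ h2 ih.2⟩

/-- A field generated over `B` by roots `z_j` with `z_j^{e_j}` a unit times a power of a uniformizer and
`e_j` invertible in the residue field is tamely ramified over `B`. -/
theorem isTamelyRamified_of_roots {L : Type u} [Field L] (g : B →+* L) (hg : Function.Injective g)
    {ι : Type*} [Fintype ι] (z : ι → L) (hgen : Subfield.closure (Set.range g ∪ Set.range z) = ⊤)
    (e : ι → ℕ) (he : ∀ j, (e j : ResidueField B) ≠ 0) {ϖ : B} (hϖ : Irreducible ϖ)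
    (u : ι → Bˣ) (d : ι → ℕ) (hz : ∀ j, z j ^ e j = g ((u j : B) * ϖ ^ d j)) :
    EtRam.IsTamelyRamified B g := by
  classical
  letI : Algebra (FractionRing B) L := (IsFractionRing.lift hg).toAlgebra
  have hgK : (algebraMap (FractionRing B) L).comp (algebraMap B (FractionRing B)) = g :=
    RingHom.ext fun b => IsFractionRing.lift_algebraMap hg b
  obtain ⟨h1, h2⟩ := tameExt_sup (K := FractionRing B) (Ω := L) (z := z) he hϖ u d
    (fun j => by rw [hz j, ← hgK]; rfl) Finset.univ
  haveI := h1
  set F := Finset.univ.sup fun j => IntermediateField.adjoin (FractionRing B) ({z j} : Set L) with hF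
  have htop : F = ⊤ := by
    rw [eq_top_iff]
    intro x _
    have : Subfield.closure (Set.range g ∪ Set.range z) ≤ F.toSubfield := by
      refine Subfield.closure_le.2 ?_
      rintro y (⟨b, rfl⟩ | ⟨j, rfl⟩)
      · rw [← hgK]; exact F.algebraMap_mem _
      · exact Finset.le_sup (f := fun j => IntermediateField.adjoin (FractionRing B) ({z j} : Set L))
          (Finset.mem_univ j) (IntermediateField.subset_adjoin _ _ rfl)
    exact this (hgen.ge (Subfield.mem_top x))
  haveI : FiniteDimensional (FractionRing B) L := by
    have := h1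
    rw [htop] at this
    exact IntermediateField.topEquiv.toLinearEquiv.finiteDimensional
  have key : TameExt B (FractionRing B) L := by
    let σ : L →ₐ[FractionRing B] F :=
      (((IntermediateField.equivOfEq htop).trans IntermediateField.topEquiv).symm).toAlgHom
    exact TameExt.of_algHom σ h2
  rw [← hgK]
  exact (isTamelyRamified_iff_tameExt B (FractionRing B) L).2 key

end Groth.Agent.EtEff48.RootGenTame
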