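import Groth.Prelude.Def_Desc
import Groth.Prelude.Def_SGA1
import Groth.Agent.SGA1Q.Subm
import Mathlib.AlgebraicGeometry.Morphisms.Etale
import Mathlib.AlgebraicGeometry.Morphisms.FlatMono
import Mathlib.AlgebraicGeometry.Limits

/-!
# Sections of a descent datum over schemes over the base

For a descent datum `D` relative to `g : X ⟶ S` and `s : V ⟶ S`, a *section* of `D` over `s` is a
morphism `X ×_S V ⟶ D` over `X` compatible with the gluing bijections.  If `D` is the canonical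
datum of an étale `U` these are the morphisms `V ⟶ U` over `S`; in general `D` is effective as soon
as it is covered by the sections over étale schemes.
-/

set_option autoImplicit false
set_option backward.isDefEq.respectTransparency false
set_option backward.isDefEq.respectTransparency.types false

universe u

open CategoryTheory CategoryTheory.Limits AlgebraicGeometry MorphismProperty

namespace Groth.Agent.EtEff48

variable {X S : Scheme.{u}}

/-- Two morphisms into a scheme unramified over `X`, equal over `X`, that agree after a surjection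
are equal. -/
theorem hom_ext_of_surjective {T' T Y : Scheme.{u}} (r : Y ⟶ X) [FormallyUnramified r]
    [LocallyOfFiniteType r] (h : T' ⟶ T) [Surjective h] {a b : T ⟶ Y} (hr : a ≫ r = b ≫ r)
    (e : h ≫ a = h ≫ b) : a = b := by
  have hsub : Set.range (pullback.lift a b hr) ⊆ Set.range (pullback.diagonal r) := by
    rintro _ ⟨t, rfl⟩
    obtain ⟨t', rfl⟩ := h.surjective t
    have : h ≫ pullback.lift a b hr = (h ≫ a) ≫ pullback.diagonal r :=
      pullback.hom_ext (by simp) (by simp [e])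
    rw [← Scheme.Hom.comp_apply, this, Scheme.Hom.comp_apply]
    exact ⟨_, rfl⟩
  have hfac := IsOpenImmersion.lift_fac _ _ hsub
  have ha := congrArg (fun m => m ≫ pullback.fst r r) hfac
  have hb := congrArg (fun m => m ≫ pullback.snd r r) hfac
  simp only [Category.assoc, pullback.diagonal_fst, pullback.diagonal_snd, Category.comp_id,
    pullback.lift_fst, pullback.lift_snd] at ha hb
  exact ha.symm.trans hb

section tr

variable {g : X ⟶ S} (D : Desc.SchDD g) {T : Scheme.{u}}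

/-- The transport of a point of `D` over `x₀` to the point over `x₁`. -/
def tr (x₀ x₁ : T ⟶ X) (h : x₀ ≫ g = x₁ ≫ g) (v : T ⟶ D.obj.left) (hv : v ≫ D.obj.hom = x₀) :
    T ⟶ D.obj.left :=
  (D.φ x₀ x₁ h ⟨v, hv⟩).1

variable {D}

theorem tr_hom {x₀ x₁ : T ⟶ X} (h : x₀ ≫ g = x₁ ≫ g) {v : T ⟶ D.obj.left}
    (hv : v ≫ D.obj.hom = x₀) : tr D x₀ x₁ h v hv ≫ D.obj.hom = x₁ :=
  (D.φ x₀ x₁ h ⟨v, hv⟩).2

theorem tr_congr {x₀ x₀' x₁ x₁' : T ⟶ X} (h : x₀ ≫ g = x₁ ≫ g) (h' : x₀' ≫ g = x₁' ≫ g)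
    {v v' : T ⟶ D.obj.left} (hv : v ≫ D.obj.hom = x₀) (hv' : v' ≫ D.obj.hom = x₀')
    (e₀ : x₀ = x₀') (e₁ : x₁ = x₁') (ev : v = v') :
    tr D x₀ x₁ h v hv = tr D x₀' x₁' h' v' hv' := by
  subst e₀ e₁ ev
  rfl

theorem tr_self {x : T ⟶ X} (h : x ≫ g = x ≫ g) {v : T ⟶ D.obj.left}
    (hv : v ≫ D.obj.hom = x) : tr D x x h v hv = v :=
  congrArg Subtype.val (D.φ_self x ⟨v, hv⟩)

theorem tr_comp {x₀ x₁ x₂ : T ⟶ X} (h₀₁ : x₀ ≫ g = x₁ ≫ g) (h₁₂ : x₁ ≫ g = x₂ ≫ g)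
    {v w : T ⟶ D.obj.left} (hv : v ≫ D.obj.hom = x₀) (hw : w ≫ D.obj.hom = x₁)
    (e : tr D x₀ x₁ h₀₁ v hv = w) :
    tr D x₁ x₂ h₁₂ w hw = tr D x₀ x₂ (h₀₁.trans h₁₂) v hv := by
  subst e
  exact congrArg Subtype.val (D.φ_comp x₀ x₁ x₂ h₀₁ h₁₂ ⟨v, hv⟩)

theorem tr_nat {T' : Scheme.{u}} (k : T' ⟶ T) {x₀ x₁ : T ⟶ X} (h : x₀ ≫ g = x₁ ≫ g)
    {v : T ⟶ D.obj.left} (hv : v ≫ D.obj.hom = x₀) :
    k ≫ tr D x₀ x₁ h v hv = tr D (k ≫ x₀) (k ≫ x₁) (by simp only [Category.assoc, h]) (k ≫ v)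
      (by rw [Category.assoc, hv]) :=
  (D.φ_natural k x₀ x₁ h _ ⟨v, hv⟩ ⟨k ≫ v, by rw [Category.assoc, hv]⟩ rfl).symm

end tr

section Sec

variable {g : X ⟶ S}

/-- A section of the descent datum `D` over `s : V ⟶ S`. -/
structure Sec (D : Desc.SchDD g) {V : Scheme.{u}} (s : V ⟶ S) where
  /-- the underlying morphism -/
  σ : pullback g s ⟶ D.obj.left
  w : σ ≫ D.obj.hom = pullback.fst g s
  compat : ∀ {T : Scheme.{u}} (x₀ x₁ : T ⟶ X) (t : T ⟶ V) (h₀ : x₀ ≫ g = t ≫ s)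
    (h₁ : x₁ ≫ g = t ≫ s),
    tr D x₀ x₁ (h₀.trans h₁.symm) (pullback.lift x₀ t h₀ ≫ σ)
      (by rw [Category.assoc, w, pullback.lift_fst]) = pullback.lift x₁ t h₁ ≫ σ

variable {D : Desc.SchDD g} {V : Scheme.{u}} {s : V ⟶ S}

/-- The value of a section at a point. -/
noncomputable def Sec.app (c : Sec D s) {T : Scheme.{u}} (x : T ⟶ X) (t : T ⟶ V)
    (h : x ≫ g = t ≫ s) : T ⟶ D.obj.left :=
  pullback.lift x t h ≫ c.σ

theorem Sec.app_hom (c : Sec D s) {T : Scheme.{u}} (x : T ⟶ X) (t : T ⟶ V) (h : x ≫ g = t ≫ s) :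
    c.app x t h ≫ D.obj.hom = x := by
  rw [Sec.app, Category.assoc, c.w, pullback.lift_fst]

theorem Sec.app_nat (c : Sec D s) {T T' : Scheme.{u}} (k : T' ⟶ T) (x : T ⟶ X) (t : T ⟶ V)
    (h : x ≫ g = t ≫ s) :
    k ≫ c.app x t h = c.app (k ≫ x) (k ≫ t) (by simp only [Category.assoc, h]) := by
  rw [Sec.app, Sec.app, ← Category.assoc]
  congr 1
  apply pullback.hom_ext <;> simp

theorem Sec.app_congr (c : Sec D s) {T : Scheme.{u}} {x x' : T ⟶ X} {t t' : T ⟶ V}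
    (h : x ≫ g = t ≫ s) (h' : x' ≫ g = t' ≫ s) (ex : x = x') (et : t = t') :
    c.app x t h = c.app x' t' h' := by
  subst ex et
  rfl

theorem Sec.comp_σ (c : Sec D s) {T : Scheme.{u}} (k : T ⟶ pullback g s) :
    k ≫ c.σ = c.app (k ≫ pullback.fst g s) (k ≫ pullback.snd g s)
      (by simp only [Category.assoc, pullback.condition]) := by
  rw [Sec.app]
  congr 1
  apply pullback.hom_ext <;> simp

theorem Sec.tr_app (c : Sec D s) {T : Scheme.{u}} (x₀ x₁ : T ⟶ X) (t : T ⟶ V)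
    (h₀ : x₀ ≫ g = t ≫ s) (h₁ : x₁ ≫ g = t ≫ s) (hh : x₀ ≫ g = x₁ ≫ g)
    (hv : c.app x₀ t h₀ ≫ D.obj.hom = x₀) :
    tr D x₀ x₁ hh (c.app x₀ t h₀) hv = c.app x₁ t h₁ :=
  c.compat x₀ x₁ t h₀ h₁

/-- A descent datum has enough sections if it is covered by the sections over étale schemes. -/
def HasLifts (D : Desc.SchDD g) : Prop :=
  ∀ d : D.obj.left, ∃ (V : Scheme.{u}) (s : V ⟶ S) (_ : Etale s) (c : Sec D s), d ∈ Set.range c.σ

/-- Restriction of a section. -/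
noncomputable def Sec.res (c : Sec D s) {V' : Scheme.{u}} (m : V' ⟶ V) {s' : V' ⟶ S}
    (hm : m ≫ s = s') : Sec D s' where
  σ := c.app (pullback.fst g s') (pullback.snd g s' ≫ m)
    (by rw [Category.assoc, hm, pullback.condition])
  w := c.app_hom _ _ _
  compat x₀ x₁ t h₀ h₁ := by
    have e : ∀ (x : _ ⟶ X) (h : x ≫ g = t ≫ s'), pullback.lift x t h ≫
        c.app (pullback.fst g s') (pullback.snd g s' ≫ m) (by rw [Category.assoc, hm, pullback.condition])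
        = c.app x (t ≫ m) (by rw [Category.assoc, hm, h]) := fun x h => by
      rw [c.app_nat]
      exact c.app_congr _ _ (pullback.lift_fst _ _ _) (by rw [← Category.assoc, pullback.lift_snd])
    rw [e x₁ h₁, tr_congr _ _ _ (c.app_hom x₀ (t ≫ m) (by rw [Category.assoc, hm, h₀])) rfl rfl
      (e x₀ h₀)]
    · exact c.tr_app _ _ _ _ _ _ _
    · exact h₀.trans h₁.symm

theorem Sec.res_app (c : Sec D s) {V' : Scheme.{u}} (m : V' ⟶ V) {s' : V' ⟶ S} (hm : m ≫ s = s')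
    {T : Scheme.{u}} (x : T ⟶ X) (t : T ⟶ V') (h : x ≫ g = t ≫ s') :
    (c.res m hm).app x t h = c.app x (t ≫ m) (by rw [Category.assoc, hm, h]) := by
  show pullback.lift x t h ≫ c.app _ _ _ = _
  rw [c.app_nat]
  exact c.app_congr _ _ (pullback.lift_fst _ _ _) (by rw [← Category.assoc, pullback.lift_snd])

end Sec

section Sigma

variable {g : X ⟶ S} {D : Desc.SchDD g} {ι : Type u} {V : ι → Scheme.{u}} {s : ∀ i, V i ⟶ S}

/-- Sections over the members of a family give a section over their disjoint union. -/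
theorem exists_sec_sigma (c : ∀ i, Sec D (s i)) :
    ∃ C : Sec D (Sigma.desc s), ∀ (i : ι) {T : Scheme.{u}} (x : T ⟶ X) (t : T ⟶ V i)
      (h : x ≫ g = t ≫ s i),
      C.app x (t ≫ Sigma.ι V i) (by rw [Category.assoc, Sigma.ι_desc, h]) = (c i).app x t h := by
  let 𝒲 := Scheme.Pullback.openCoverOfRight (sigmaOpenCover V) g (Sigma.desc s)
  let pX : ∀ i, 𝒲.X i ⟶ X := fun i => pullback.fst _ _
  let pV : ∀ i, 𝒲.X i ⟶ V i := fun i => pullback.snd _ _
  have hp : ∀ i, pX i ≫ g = pV i ≫ s i := fun i => by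
    have : pX i ≫ g = pV i ≫ (sigmaOpenCover V).f i ≫ Sigma.desc s := pullback.condition
    rwa [sigmaOpenCover_f, Sigma.ι_desc] at this
  have hfst : ∀ i, 𝒲.f i ≫ pullback.fst g (Sigma.desc s) = pX i := fun i => by simp [𝒲, pX]
  have hsnd : ∀ i, 𝒲.f i ≫ pullback.snd g (Sigma.desc s) = pV i ≫ Sigma.ι V i := fun i => by
    simp [𝒲, pV]
  let loc : ∀ i, 𝒲.X i ⟶ D.obj.left := fun i => (c i).app (pX i) (pV i) (hp i)
  have key : ∀ {T : Scheme.{u}} (i j : ι) (x : T ⟶ X) (t : T ⟶ V i) (t' : T ⟶ V j)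
      (h : x ≫ g = t ≫ s i) (h' : x ≫ g = t' ≫ s j) (_ : t ≫ Sigma.ι V i = t' ≫ Sigma.ι V j),
      (c i).app x t h = (c j).app x t' h' := by
    intro T i j x t t' h h' e
    by_cases hij : i = j
    · subst hij
      exact (c i).app_congr _ _ rfl ((cancel_mono (Sigma.ι V i)).1 e)
    · have := isEmpty_pullback_sigmaι_of_ne V hij
      have : IsEmpty T := Function.isEmpty (pullback.lift t t' e).base
      exact (isInitialOfIsEmpty).hom_ext _ _
  have hloc : ∀ i j, pullback.fst (𝒲.f i) (𝒲.f j) ≫ loc i = pullback.snd _ _ ≫ loc j := by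
    intro i j
    simp only [loc, Sec.app_nat]
    have ex : pullback.fst (𝒲.f i) (𝒲.f j) ≫ pX i = pullback.snd (𝒲.f i) (𝒲.f j) ≫ pX j := by
      rw [← hfst, ← hfst, pullback.condition_assoc]
    rw [(c j).app_congr (x' := pullback.fst (𝒲.f i) (𝒲.f j) ≫ pX i)
      (t' := pullback.snd (𝒲.f i) (𝒲.f j) ≫ pV j) _
      (by rw [ex, Category.assoc, Category.assoc, hp]) ex.symm rfl]
    apply key
    simp only [Category.assoc]
    rw [← hsnd, ← hsnd, pullback.condition_assoc]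
  let σ := 𝒲.glueMorphisms loc hloc
  have happ : ∀ (i : ι) {T : Scheme.{u}} (x : T ⟶ X) (t : T ⟶ V i) (h : x ≫ g = t ≫ s i)
      (h' : x ≫ g = (t ≫ Sigma.ι V i) ≫ Sigma.desc s),
      pullback.lift x (t ≫ Sigma.ι V i) h' ≫ σ = (c i).app x t h := by
    intro i T x t h h'
    let k : T ⟶ 𝒲.X i := pullback.lift x t (by rw [sigmaOpenCover_f, Sigma.ι_desc, h])
    have ek : pullback.lift x (t ≫ Sigma.ι V i) h' = k ≫ 𝒲.f i := by
      apply pullback.hom_ext <;> simp [k, 𝒲]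
    rw [ek, Category.assoc, 𝒲.ι_glueMorphisms loc hloc i, Sec.app_nat]
    exact (c i).app_congr _ _ (pullback.lift_fst _ _ _) (pullback.lift_snd _ _ _)
  have hw : σ ≫ D.obj.hom = pullback.fst g (Sigma.desc s) := 𝒲.hom_ext _ _ fun i => by
    rw [𝒲.ι_glueMorphisms_assoc loc hloc i, hfst]
    exact (c i).app_hom _ _ _
  refine ⟨⟨σ, hw, fun {T} x₀ x₁ t h₀ h₁ => ?_⟩, fun i T x t h => happ i x t h _⟩
  let 𝒯 := (sigmaOpenCover V).pullback₁ t
  refine Scheme.Cover.hom_ext 𝒯 _ _ fun i => ?_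
  let k : 𝒯.X i ⟶ T := 𝒯.f i
  let ti : 𝒯.X i ⟶ V i := pullback.snd _ _
  have hk : k ≫ t = ti ≫ Sigma.ι V i := pullback.condition
  have he : ∀ (x : T ⟶ X) (h : x ≫ g = t ≫ Sigma.desc s),
      k ≫ pullback.lift x t h ≫ σ = (c i).app (k ≫ x) ti
        (by rw [Category.assoc, h, ← Category.assoc, hk, Category.assoc, Sigma.ι_desc]) := by
    intro x h
    have hkx : (k ≫ x) ≫ g = ti ≫ s i := by
      rw [Category.assoc, h, ← Category.assoc, hk, Category.assoc, Sigma.ι_desc]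
    rw [← happ i (k ≫ x) ti hkx (by rw [hkx, Category.assoc, Sigma.ι_desc]), ← Category.assoc]
    congr 1
    apply pullback.hom_ext <;> simp [hk]
  have hkx : ∀ (x : T ⟶ X), x ≫ g = t ≫ Sigma.desc s → (k ≫ x) ≫ g = ti ≫ s i := by
    intro x h
    rw [Category.assoc, h, ← Category.assoc, hk, Category.assoc, Sigma.ι_desc]
  show k ≫ _ = k ≫ _
  rw [tr_nat, he x₁ h₁]
  have hh : (k ≫ x₀) ≫ g = (k ≫ x₁) ≫ g := (hkx x₀ h₀).trans (hkx x₁ h₁).symm
  rw [tr_congr _ hh _ ((c i).app_hom (k ≫ x₀) ti (hkx x₀ h₀)) rfl rfl (he x₀ h₀)]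
  exact (c i).tr_app _ _ _ _ _ _ _

end Sigma

end Groth.Agent.EtEff48
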