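import Groth.Agent.EtEff48.Uniq
import Groth.Agent.Hensel.Colim
import Groth.Agent.AlgSpDec.LimHomScheme

/-!
# Sections over a strict henselization spread out to an étale neighbourhood
-/

set_option autoImplicit false
set_option backward.isDefEq.respectTransparency false
set_option backward.isDefEq.respectTransparency.types false

universe u

open CategoryTheory CategoryTheory.Limits AlgebraicGeometry MorphismProperty Opposite

namespace Groth.Agent.EtEff48

section henz

variable (A K : Type u) [CommRing A] [CommRing K] [Algebra A K]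

/-- The system of affine étale neighbourhoods. -/
noncomputable def nbhdSys : (Hensel.NbhdCat A K)ᵒᵖ ⥤ Over (Spec (CommRingCat.of A)) where
  obj N := Over.mk (Spec.map (CommRingCat.ofHom (algebraMap A N.unop.N.B)))
  map {N M} f := Over.homMk (Spec.map (CommRingCat.ofHom f.unop.1.toRingHom)) (by
    show Spec.map _ ≫ Spec.map _ = Spec.map _
    rw [← Spec.map_comp]
    congr 1
    ext a
    exact f.unop.1.commutes a)
  map_id N := by
    ext : 1
    exact Spec.map_id _
  map_comp f f' := by
    ext : 1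
    show Spec.map _ = Spec.map _ ≫ Spec.map _
    rw [← Spec.map_comp]
    rfl

/-- The strict henselization as the limit of the neighbourhoods. -/
noncomputable def nbhdCone : Cone (nbhdSys A K) where
  pt := Over.mk (Spec.map (CommRingCat.ofHom (algebraMap A (Hensel.Henz A K))))
  π :=
    { app := fun N => Over.homMk (Spec.map (CommRingCat.ofHom (Hensel.Henz.ofB N.unop.N).toRingHom)) (by
        show Spec.map _ ≫ Spec.map _ = Spec.map _
        rw [← Spec.map_comp]
        congr 1
        ext a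
        exact (Hensel.Henz.ofB N.unop.N).commutes a)
      naturality := fun N M f => by
        ext : 1
        show 𝟙 _ ≫ Spec.map _ = Spec.map _ ≫ Spec.map _
        rw [Category.id_comp, ← Spec.map_comp]
        congr 1
        ext b
        exact congr($(Hensel.Henz.ofB_comp f.unop.1 f.unop.2) b).symm }

/-- `nbhdCone` is a limit. -/
noncomputable def nbhdConeIsLimit : IsLimit (nbhdCone A K) := by
  have : IsConnected (Hensel.NbhdCat A K) := IsFiltered.isConnected _
  have : IsConnected (Hensel.NbhdCat A K)ᵒᵖ := inferInstance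
  have h := isColimitOfPreserves (Under.forget _) (Hensel.isColimitNbhdCocone A K)
  exact isLimitOfReflects (Over.forget _) (isLimitOfPreserves Scheme.Spec h.op)

end henz

section spread

variable {A K : Type u} [CommRing A] [CommRing K] [Algebra A K] {X : Scheme.{u}}
  {g : X ⟶ Spec (CommRingCat.of A)}

/-- A section over the strict henselization comes from an étale neighbourhood. -/
theorem exists_sec_nbhd [IsAffine X] (D : Desc.SchDD g) [LocallyOfFinitePresentation D.obj.hom]
    (c : Sec D (Spec.map (CommRingCat.ofHom (algebraMap A (Hensel.Henz A K))))) :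
    ∃ (N : Hensel.NbhdCat A K) (c' : Sec D (Spec.map (CommRingCat.ofHom (algebraMap A N.N.B)))),
      c'.res (Spec.map (CommRingCat.ofHom (Hensel.Henz.ofB N.N).toRingHom))
        (Over.w ((nbhdCone A K).π.app (op N))) = c := by
  have : IsConnected (Hensel.NbhdCat A K) := IsFiltered.isConnected _
  let J := (Hensel.NbhdCat A K)ᵒᵖ
  let W₁ : J ⥤ Over X := nbhdSys A K ⋙ Over.pullback g
  let c₁ : Cone W₁ := (Over.pullback g).mapCone (nbhdCone A K)
  have hc₁ : IsLimit c₁ := isLimitOfPreserves (Over.pullback g) (nbhdConeIsLimit A K)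
  have hA₁ : ∀ j, IsAffine (W₁.obj j).left := fun j =>
    haveI : IsAffine ((nbhdSys A K).obj j).left := inferInstanceAs (IsAffine (Spec _))
    inferInstanceAs (IsAffine (pullback ((nbhdSys A K).obj j).hom g))
  let s := Spec.map (CommRingCat.ofHom (algebraMap A (Hensel.Henz A K)))
  let a : c₁.pt ⟶ D.obj := Over.homMk
    (c.app (pullback.snd s g) (pullback.fst s g) pullback.condition.symm) (c.app_hom _ _ _)
  obtain ⟨j₁, σ₁, hσ₁⟩ := AlgSpDec.exists_over_hom_stage W₁ hA₁ c₁ hc₁ a
  let s₁ := ((nbhdSys A K).obj j₁).hom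
  -- the compatibility condition
  let g₂ : pullback g g ⟶ Spec (CommRingCat.of A) := pullback.fst g g ≫ g
  let W₂ : J ⥤ Over X := nbhdSys A K ⋙ Over.pullback g₂ ⋙ Over.map (pullback.snd g g)
  let c₂ : Cone W₂ := (Over.map (pullback.snd g g)).mapCone
    ((Over.pullback g₂).mapCone (nbhdCone A K))
  have hc₂ : IsLimit c₂ := isLimitOfReflects (Over.forget X)
    (isLimitOfPreserves (Over.forget (pullback g g))
      (isLimitOfPreserves (Over.pullback g₂) (nbhdConeIsLimit A K)))
  have hA₂ : ∀ j, IsAffine (W₂.obj j).left := fun j =>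
    haveI : IsAffine ((nbhdSys A K).obj j).left := inferInstanceAs (IsAffine (Spec _))
    inferInstanceAs (IsAffine (pullback ((nbhdSys A K).obj j).hom g₂))
  let P := pullback s₁ g₂
  let x₀ : P ⟶ X := pullback.snd s₁ g₂ ≫ pullback.fst g g
  let x₁ : P ⟶ X := pullback.snd s₁ g₂ ≫ pullback.snd g g
  let t : P ⟶ ((nbhdSys A K).obj j₁).left := pullback.fst s₁ g₂
  have h₀ : t ≫ s₁ = x₀ ≫ g := by simp only [t, x₀, g₂, Category.assoc, pullback.condition]
  have h₁ : t ≫ s₁ = x₁ ≫ g := h₀.trans (by simp only [x₀, x₁, Category.assoc, pullback.condition])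
  have hv : (pullback.lift t x₀ h₀ ≫ σ₁.left) ≫ D.obj.hom = x₀ := by
    rw [Category.assoc, Over.w σ₁]; exact pullback.lift_snd _ _ _
  let u₀ : W₂.obj j₁ ⟶ D.obj := Over.homMk
    (tr D x₀ x₁ (h₀.symm.trans h₁) (pullback.lift t x₀ h₀ ≫ σ₁.left) hv) (tr_hom _ _)
  let u₁ : W₂.obj j₁ ⟶ D.obj := Over.homMk (pullback.lift t x₁ h₁ ≫ σ₁.left)
    ((Category.assoc _ _ _).trans
      ((congrArg (pullback.lift t x₁ h₁ ≫ ·) (Over.w σ₁)).trans (pullback.lift_snd _ _ _)))
  have hu : c₂.π.app j₁ ≫ u₀ = c₂.π.app j₁ ≫ u₁ := by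
    let m := (c₂.π.app j₁).left
    let y₀ : pullback s g₂ ⟶ X := pullback.snd s g₂ ≫ pullback.fst g g
    let y₁ : pullback s g₂ ⟶ X := pullback.snd s g₂ ≫ pullback.snd g g
    let τ : pullback s g₂ ⟶ Spec (CommRingCat.of (Hensel.Henz A K)) := pullback.fst s g₂
    have k₀ : y₀ ≫ g = τ ≫ s := by simp only [τ, y₀, g₂, Category.assoc, pullback.condition]
    have k₁ : y₁ ≫ g = τ ≫ s := by
      rw [← k₀]; simp only [y₀, y₁, Category.assoc, pullback.condition]
    have hmt : m ≫ t = τ ≫ ((nbhdCone A K).π.app j₁).left := pullback.lift_fst _ _ _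
    have hmx : m ≫ pullback.snd s₁ g₂ = pullback.snd s g₂ :=
      (pullback.lift_snd _ _ _).trans (by simp; rfl)
    have hx₀ : m ≫ x₀ = y₀ := by simp only [x₀, y₀, ← Category.assoc, hmx]
    have hx₁ : m ≫ x₁ = y₁ := by simp only [x₁, y₁, ← Category.assoc, hmx]
    have e : ∀ (y : pullback s g₂ ⟶ X) (x : P ⟶ X) (h : t ≫ s₁ = x ≫ g) (hy : m ≫ x = y)
        (hk : y ≫ g = τ ≫ s), m ≫ pullback.lift t x h ≫ σ₁.left = c.app y τ hk := by
      intro y x h hy hk
      have he := congrArg (fun q => pullback.lift τ y hk.symm ≫ q.left) hσ₁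
      have hl : pullback.lift τ y hk.symm ≫ (c₁.π.app j₁).left = m ≫ pullback.lift t x h := by
        refine pullback.hom_ext ?_ ?_
        · refine ((Category.assoc _ _ _).trans (congrArg (_ ≫ ·) (pullback.lift_fst _ _ _))).trans ?_
          refine (reassoc_of% (pullback.lift_fst τ y hk.symm : _ = τ)) _ |>.trans ?_
          rw [Category.assoc, pullback.lift_fst, hmt]
        · refine ((Category.assoc _ _ _).trans (congrArg (_ ≫ ·) (pullback.lift_snd _ _ _))).trans ?_
          rw [Category.assoc, pullback.lift_snd, hy]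
          refine (congrArg (pullback.lift τ y hk.symm ≫ ·) (Category.comp_id _)).trans ?_
          exact pullback.lift_snd _ _ _
      refine ((Category.assoc _ _ _).symm.trans (congrArg (· ≫ σ₁.left) hl.symm)).trans ?_
      refine (Category.assoc _ _ _).trans (he.trans ?_)
      refine (c.app_nat _ _ _ pullback.condition.symm).trans ?_
      exact c.app_congr _ _ (pullback.lift_snd _ _ _) (pullback.lift_fst _ _ _)
    refine Over.OverMorphism.ext ?_
    show m ≫ tr D x₀ x₁ _ _ _ = m ≫ pullback.lift t x₁ h₁ ≫ σ₁.left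
    rw [tr_nat, e y₁ x₁ h₁ hx₁ k₁,
      tr_congr _ (k₀.trans k₁.symm) _ (c.app_hom y₀ τ k₀) hx₀ hx₁ (e y₀ x₀ h₀ hx₀ k₀)]
    exact c.tr_app _ _ _ _ _ _ _
  obtain ⟨j, f, hf⟩ := AlgSpDec.exists_over_hom_eq_stage W₂ hA₂ c₂ hc₂ u₀ u₁ hu
  obtain ⟨N⟩ := j
  let q := Spec.map (CommRingCat.ofHom (algebraMap A N.N.B))
  let n : Spec (CommRingCat.of N.N.B) ⟶ ((nbhdSys A K).obj j₁).left := ((nbhdSys A K).map f).left
  have hn : n ≫ s₁ = q := Over.w ((nbhdSys A K).map f)
  let σ : pullback g q ⟶ D.obj.left :=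
    pullback.lift (pullback.snd g q ≫ n) (pullback.fst g q)
      (by rw [Category.assoc, hn, pullback.condition]) ≫ σ₁.left
  have hσw : σ ≫ D.obj.hom = pullback.fst g q := by
    rw [Category.assoc, Over.w σ₁]; exact pullback.lift_snd _ _ _
  have happ : ∀ {T : Scheme.{u}} (x : T ⟶ X) (τ : T ⟶ Spec (CommRingCat.of N.N.B))
      (h : x ≫ g = τ ≫ q), pullback.lift x τ h ≫ σ =
        pullback.lift (τ ≫ n) x (by rw [Category.assoc, hn, h]) ≫ σ₁.left := by
    intro T x τ h
    rw [← Category.assoc]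
    congr 1
    apply pullback.hom_ext <;> simp
  refine ⟨N, ⟨σ, hσw, fun {T} z₀ z₁ τ e₀ e₁ => ?_⟩, Sec.ext_app fun {T} x τ h => ?_⟩
  · let M := (W₂.map f).left
    let l : T ⟶ pullback q g₂ :=
      pullback.lift τ (pullback.lift z₀ z₁ (e₀.trans e₁.symm)) (by simp [g₂, e₀, q])
    have hl := congrArg (fun v => l ≫ v.left) hf
    have hlt : (l ≫ M) ≫ t = τ ≫ n := by
      refine ((Category.assoc _ _ _).trans (congrArg (l ≫ ·) (pullback.lift_fst _ _ _))).trans ?_
      exact (reassoc_of% (pullback.lift_fst τ _ _ : l ≫ pullback.fst q g₂ = τ)) _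
    have hls : (l ≫ M) ≫ pullback.snd s₁ g₂ = pullback.lift z₀ z₁ (e₀.trans e₁.symm) := by
      refine ((Category.assoc _ _ _).trans (congrArg (l ≫ ·) (pullback.lift_snd _ _ _))).trans ?_
      exact (congrArg (l ≫ ·) (Category.comp_id _)).trans (pullback.lift_snd _ _ _)
    have hlx₀ : (l ≫ M) ≫ x₀ = z₀ := by simp only [x₀, ← Category.assoc, hls, pullback.lift_fst]
    have hlx₁ : (l ≫ M) ≫ x₁ = z₁ := by simp only [x₁, ← Category.assoc, hls, pullback.lift_snd]
    have ev : ∀ (x : P ⟶ X) (h : t ≫ s₁ = x ≫ g) (z : T ⟶ X) (hz : z ≫ g = τ ≫ q)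
        (_ : (l ≫ M) ≫ x = z), (l ≫ M) ≫ pullback.lift t x h ≫ σ₁.left = pullback.lift z τ hz ≫ σ := by
      intro x h z hz e
      rw [happ, ← Category.assoc]
      congr 1
      apply pullback.hom_ext
      · rw [Category.assoc, pullback.lift_fst, pullback.lift_fst, hlt]
      · rw [Category.assoc, pullback.lift_snd, pullback.lift_snd, e]
    have hl' : (l ≫ M) ≫ u₀.left = (l ≫ M) ≫ u₁.left := by
      simpa only [Over.comp_left, ← Category.assoc] using hl
    refine Eq.trans ?_ (hl'.trans (ev x₁ h₁ z₁ e₁ hlx₁))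
    refine Eq.trans ?_ (tr_nat (l ≫ M) (h₀.symm.trans h₁) hv).symm
    exact tr_congr _ _ _ _ hlx₀.symm hlx₁.symm (ev x₀ h₀ z₀ e₀ hlx₀).symm
  · rw [Sec.res_app]
    refine (happ _ _ _).trans ?_
    have he := congrArg (fun v => pullback.lift τ x h.symm ≫ v.left) hσ₁
    refine Eq.trans ?_ (he.trans ?_)
    · refine (congrArg (· ≫ σ₁.left) ?_).trans (Category.assoc _ _ _)
      apply pullback.hom_ext
      · refine Eq.trans (pullback.lift_fst _ _ _) (Eq.symm ?_)
        refine ((Category.assoc _ _ _).trans (congrArg (_ ≫ ·) (pullback.lift_fst _ _ _))).trans ?_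
        refine (reassoc_of% (pullback.lift_fst τ x h.symm : _ = τ)) _ |>.trans ?_
        rw [Category.assoc]
        exact congrArg (fun m => τ ≫ m.left) ((nbhdCone A K).w f).symm
      · refine Eq.trans (pullback.lift_snd _ _ _) (Eq.symm ?_)
        refine ((Category.assoc _ _ _).trans (congrArg (_ ≫ ·) (pullback.lift_snd _ _ _))).trans ?_
        exact (congrArg (_ ≫ ·) (Category.comp_id _)).trans (pullback.lift_snd _ _ _)
    · refine (c.app_nat _ _ _ pullback.condition.symm).trans ?_
      exact c.app_congr _ _ (pullback.lift_snd _ _ _) (pullback.lift_fst _ _ _)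

end spread

end Groth.Agent.EtEff48
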