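import Groth.Agent.EtEff48.Change

/-!
# The universal property of an étale solution of a descent problem
-/

set_option autoImplicit false
set_option backward.isDefEq.respectTransparency false
set_option backward.isDefEq.respectTransparency.types false

universe u

open CategoryTheory CategoryTheory.Limits AlgebraicGeometry MorphismProperty

namespace Groth.Agent.EtEff48

variable {X S : Scheme.{u}} {g : X ⟶ S} {D : Desc.SchDD g}

/-- Sections are determined by their values. -/
theorem Sec.ext_app {V : Scheme.{u}} {s : V ⟶ S} {c c' : Sec D s}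
    (h : ∀ {T : Scheme.{u}} (x : T ⟶ X) (t : T ⟶ V) (hx : x ≫ g = t ≫ s),
      c.app x t hx = c'.app x t hx) : c = c' := by
  have h' : c.σ = c'.σ := by
    have := h (pullback.fst g s) (pullback.snd g s) pullback.condition
    simpa only [Sec.app, pullback.lift_fst_snd, Category.id_comp] using this
  cases c
  cases c'
  simp only at h'
  subst h'
  rfl

/-- A point over a point determines the value of a section. -/
theorem Sec.app_inj_of_iso {V : Scheme.{u}} {s : V ⟶ S} (c : Sec D s) [IsIso c.σ] {T : Scheme.{u}}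
    {x : T ⟶ X} {t t' : T ⟶ V} (h : x ≫ g = t ≫ s) (h' : x ≫ g = t' ≫ s)
    (e : c.app x t h = c.app x t' h') : t = t' := by
  have := congrArg (fun m => m ≫ pullback.snd g s) ((cancel_mono c.σ).1 e)
  simpa using this

theorem Sec.exists_app_of_iso {V : Scheme.{u}} {s : V ⟶ S} (c : Sec D s) [IsIso c.σ] {T : Scheme.{u}}
    {x : T ⟶ X} (v : T ⟶ D.obj.left) (hv : v ≫ D.obj.hom = x) :
    ∃ (t : T ⟶ V) (h : x ≫ g = t ≫ s), c.app x t h = v := by
  have hx : (v ≫ inv c.σ) ≫ pullback.fst g s = x := by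
    rw [← c.w, Category.assoc, IsIso.inv_hom_id_assoc, hv]
  refine ⟨(v ≫ inv c.σ) ≫ pullback.snd g s, ?_, ?_⟩
  · rw [← hx]; simp only [Category.assoc, pullback.condition]
  · rw [Sec.app, ← cancel_mono (inv c.σ), Category.assoc, IsIso.hom_inv_id, Category.comp_id]
    apply pullback.hom_ext
    · rw [pullback.lift_fst, hx]
    · rw [pullback.lift_snd]

/-- The morphisms from `T` to an étale solution are the sections over `T`. -/
theorem Sec.existsUnique_lift (hg : SGA1.UnivSubmersive g) {U : Scheme.{u}} {q : U ⟶ S} [Etale q]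
    (c : Sec D q) [IsIso c.σ] {T : Scheme.{u}} {s : T ⟶ S} (c' : Sec D s) :
    ∃! a : T ⟶ U, ∃ ha : a ≫ q = s, c.res a ha = c' := by
  obtain ⟨u₀, hu₀, eu₀⟩ := c.exists_app_of_iso c'.σ c'.w
  let e := pullback.snd g s
  have he : SGA1.UnivSubmersive e :=
    SGA1Q.univSubmersive_of_isPullback hg (IsPullback.of_hasPullback g s).flip
  obtain ⟨a, ha, hea⟩ := descend_to_etale e he q s u₀ (by rw [← hu₀, pullback.condition]) (by
    set k₀ := pullback.fst e e
    set k₁ := pullback.snd e e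
    have hk : k₀ ≫ e = k₁ ≫ e := pullback.condition
    let x₀ := k₀ ≫ pullback.fst g s
    let x₁ := k₁ ≫ pullback.fst g s
    let t := k₀ ≫ e
    have h₀ : x₀ ≫ g = t ≫ s := by simp only [x₀, t, e, Category.assoc, pullback.condition]
    have h₁ : x₁ ≫ g = t ≫ s := by
      simp only [x₁, t, hk]; simp only [e, Category.assoc, pullback.condition]
    have a₀ : x₀ ≫ g = (k₀ ≫ u₀) ≫ q := by simp only [x₀, Category.assoc, hu₀]
    have a₁ : x₁ ≫ g = (k₁ ≫ u₀) ≫ q := by simp only [x₁, Category.assoc, hu₀]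
    have b₁ : x₁ ≫ g = (k₀ ≫ u₀) ≫ q := h₁.trans (h₀.symm.trans a₀)
    refine c.app_inj_of_iso b₁ a₁ ?_
    have e₀ : c.app x₀ (k₀ ≫ u₀) a₀ = c'.app x₀ t h₀ := by
      rw [← c.app_nat k₀ _ _ hu₀, eu₀, c'.comp_σ k₀]
    have e₁ : c.app x₁ (k₁ ≫ u₀) a₁ = c'.app x₁ t h₁ := by
      rw [← c.app_nat k₁ _ _ hu₀, eu₀, c'.comp_σ k₁]
      exact c'.app_congr _ _ rfl hk.symm
    rw [e₁, ← c.tr_app x₀ x₁ (k₀ ≫ u₀) a₀ b₁ (h₀.trans h₁.symm) (c.app_hom _ _ _),
      ← c'.tr_app x₀ x₁ t h₀ h₁ (h₀.trans h₁.symm) (c'.app_hom _ _ _)]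
    exact tr_congr _ _ _ _ rfl rfl e₀)
  refine ⟨a, ⟨ha, Sec.ext_app fun x t hx => ?_⟩, fun b ⟨hb, hcb⟩ => ?_⟩
  · rw [c.res_app]
    let j := pullback.lift x t hx
    show c.app x (t ≫ a) _ = j ≫ c'.σ
    rw [← eu₀, c.app_nat]
    refine c.app_congr _ _ (pullback.lift_fst _ _ _).symm ?_
    rw [← hea, ← Category.assoc, pullback.lift_snd]
  · have : Surjective g := surjective_of_univSubmersive hg
    refine hom_ext_of_surjective q e (hb.trans ha.symm) (hea.symm ▸ ?_)
    have h1 := congrArg (fun C : Sec D s => C.app (pullback.fst g s) e pullback.condition) hcb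
    simp only [Sec.res_app] at h1
    have h2 : c'.app (pullback.fst g s) e pullback.condition = c'.σ := by
      rw [Sec.app, pullback.lift_fst_snd, Category.id_comp]
    exact c.app_inj_of_iso _ hu₀ (h1.trans (h2.trans eu₀.symm))

section pull

variable {X' S' : Scheme.{u}} {g' : X' ⟶ S'} {p : S' ⟶ S} {p' : X' ⟶ X}
  {w : p' ≫ g = g' ≫ p}

theorem Sec.pull_app {V V' : Scheme.{u}} {s : V ⟶ S} (c : Sec D s) (s' : V' ⟶ S') (m : V' ⟶ V)
    (hm : m ≫ s = s' ≫ p) {T : Scheme.{u}} (x : T ⟶ X') (t : T ⟶ V') (h : x ≫ g' = t ≫ s')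
    (h' : (x ≫ p') ≫ g = (t ≫ m) ≫ s) :
    (c.pull s' m hm w).app x t h ≫ pullback.fst D.obj.hom p' = c.app (x ≫ p') (t ≫ m) h' := by
  refine (Category.assoc _ _ _).trans ((congrArg (pullback.lift x t h ≫ ·)
    (pullback.lift_fst _ _ _)).trans ?_)
  rw [c.app_nat]
  exact c.app_congr _ _ (pullback.lift_fst_assoc _ _ _ _) (pullback.lift_snd_assoc _ _ _ _)

theorem Sec.push_app {V : Scheme.{u}} {s : V ⟶ S'} (c : Sec (pullDD w D) s)
    (H : IsPullback p' g' g p) {T : Scheme.{u}} (x : T ⟶ X) (t : T ⟶ V) (h : x ≫ g = t ≫ s ≫ p)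
    (x' : T ⟶ X') (hx : x' ≫ p' = x) (h' : x' ≫ g' = t ≫ s) :
    (c.push H).app x t h = c.app x' t h' ≫ pullback.fst D.obj.hom p' := by
  refine (Category.assoc _ _ _).symm.trans ?_
  congr 1
  rw [c.app_nat]
  exact c.app_congr _ _ (H.hom_ext (by simp [hx]) (by simp [h'])) (pullback.lift_snd _ _ _)

/-- Along a cartesian square the sections of the pulled back datum are those of the datum. -/
theorem Sec.pull_push {V : Scheme.{u}} {s : V ⟶ S'} (c : Sec D (s ≫ p))
    (H : IsPullback p' g' g p) :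
    (c.pull s (𝟙 V) (Category.id_comp _) w).push H = c := by
  refine Sec.ext_app fun x t h => ?_
  let x' := H.lift x (t ≫ s) (by rw [h, Category.assoc])
  rw [Sec.push_app _ H x t h x' (H.lift_fst _ _ _) (H.lift_snd _ _ _),
    Sec.pull_app c _ _ _ x' t _ (by rw [H.lift_fst, Category.comp_id]; exact h)]
  exact c.app_congr _ _ (H.lift_fst _ _ _) (Category.comp_id _)

theorem Sec.push_pull {V : Scheme.{u}} {s : V ⟶ S'} (c : Sec (pullDD w D) s)
    (H : IsPullback p' g' g p) :
    (c.push H).pull s (𝟙 V) (Category.id_comp _) w = c := by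
  refine Sec.ext_app fun x t h => pullback.hom_ext ?_ ((Sec.app_hom _ x t h).trans (c.app_hom x t h).symm)
  have h' : (x ≫ p') ≫ g = (t ≫ 𝟙 V) ≫ s ≫ p := by
    rw [Category.comp_id, Category.assoc, w, reassoc_of% h]
  rw [Sec.pull_app _ _ _ _ x t h h', Sec.push_app c H _ _ h' x rfl (by rw [Category.comp_id]; exact h)]
  exact congrArg (· ≫ _) (c.app_congr _ _ rfl (Category.comp_id _))

end pull

end Groth.Agent.EtEff48
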