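import Groth.Agent.EtEff48.Fpqc
import Groth.Agent.DescLib.DescEff

/-!
# Effective descent of étale schemes is Zariski local on the base
-/

set_option autoImplicit false
set_option backward.isDefEq.respectTransparency false
set_option backward.isDefEq.respectTransparency.types false

universe u

open CategoryTheory CategoryTheory.Limits AlgebraicGeometry MorphismProperty

namespace Groth.Agent.EtEff48

variable {X S : Scheme.{u}} {g : X ⟶ S}

section compat

variable {D : Desc.SchDD g}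

/-- Sections as compatible families of points. -/
noncomputable def Sec.toCompat {V : Scheme.{u}} {s : V ⟶ S} (c : Sec D s) :
    DescLib.Compat ((Desc.SchDDFam.ofSchDD.{0} g).obj D) s where
  pt _ t _ y h := ⟨c.app y t h, c.app_hom y t h⟩
  nat _ _ k t _ y h t' y' hk hy h' :=
    (c.app_congr h' (by simp only [Category.assoc, h]) hy.symm hk.symm).trans (c.app_nat k y t h).symm
  comp _ t _ _ y y' h h' := Subtype.ext (c.tr_app y y' t h h' (h.trans h'.symm) (c.app_hom y t h))

/-- Compatible families of points as sections. -/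
noncomputable def ofCompat {V : Scheme.{u}} {s : V ⟶ S}
    (c : DescLib.Compat ((Desc.SchDDFam.ofSchDD.{0} g).obj D) s) : Sec D s where
  σ := (c.pt (i := PUnit.unit) (pullback.snd g s) (pullback.fst g s) pullback.condition).1
  w := (c.pt (i := PUnit.unit) (pullback.snd g s) (pullback.fst g s) pullback.condition).2
  compat {T} x₀ x₁ t h₀ h₁ := by
    have e : ∀ (x : T ⟶ X) (h : x ≫ g = t ≫ s),
        pullback.lift x t h ≫
          (c.pt (i := PUnit.unit) (pullback.snd g s) (pullback.fst g s) pullback.condition).1 =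
          (c.pt (i := PUnit.unit) t x h).1 := fun x h =>
      (c.nat _ _ _ pullback.condition t x (pullback.lift_snd _ _ _) (pullback.lift_fst _ _ _) h).symm
    rw [e x₁ h₁, tr_congr _ (h₀.trans h₁.symm) _ (c.pt (i := PUnit.unit) t x₀ h₀).2 rfl rfl (e x₀ h₀)]
    exact congrArg Subtype.val (c.comp t x₀ x₁ h₀ h₁)

theorem ofCompat_app {V : Scheme.{u}} {s : V ⟶ S}
    (c : DescLib.Compat ((Desc.SchDDFam.ofSchDD.{0} g).obj D) s) {T : Scheme.{u}} (x : T ⟶ X)
    (t : T ⟶ V) (h : x ≫ g = t ≫ s) : (ofCompat c).app x t h = (c.pt (i := PUnit.unit) t x h).1 :=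
  (c.nat _ _ _ pullback.condition t x (pullback.lift_snd _ _ _) (pullback.lift_fst _ _ _) h).symm

theorem ofCompat_toCompat {V : Scheme.{u}} {s : V ⟶ S} (c : Sec D s) : ofCompat c.toCompat = c :=
  Sec.ext_app fun x t h => by rw [ofCompat_app]; rfl

theorem ofCompat_injective {V : Scheme.{u}} {s : V ⟶ S}
    {c c' : DescLib.Compat ((Desc.SchDDFam.ofSchDD.{0} g).obj D) s}
    (e : ofCompat c = ofCompat c') : c = c' :=
  DescLib.Compat.ext fun T t i y h => by
    have := congrArg (fun C : Sec D s => C.app y t h) e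
    simp only [ofCompat_app] at this
    exact this

theorem ofCompat_res {V V' : Scheme.{u}} {s : V ⟶ S}
    (c : DescLib.Compat ((Desc.SchDDFam.ofSchDD.{0} g).obj D) s) (m : V' ⟶ V) (s' : V' ⟶ S)
    (hm : m ≫ s = s') : ofCompat (c.res m s' hm) = (ofCompat c).res m hm :=
  Sec.ext_app fun x t h => by rw [ofCompat_app, Sec.res_app, ofCompat_app]; rfl

/-- An iso section of a pulled back datum represents the sections over the base change. -/
theorem Sec.existsUnique_lift_push {X' S' : Scheme.{u}} {g' : X' ⟶ S'} {p : S' ⟶ S} {p' : X' ⟶ X}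
    (hg' : SGA1.UnivSubmersive g') (H : IsPullback p' g' g p) {U : Over S'} [Etale U.hom]
    (c₁ : Sec (pullDD H.w D) U.hom) [IsIso c₁.σ] {T : Scheme.{u}} (x : T ⟶ S') (C : Sec D (x ≫ p)) :
    ∃! v : Desc.Lifts U x, (c₁.push H).res v.1 (by rw [reassoc_of% v.2]) = C := by
  obtain ⟨a, ⟨ha, ea⟩, hu⟩ :=
    Sec.existsUnique_lift hg' c₁ (C.pull x (𝟙 T) (Category.id_comp _) H.w)
  refine ⟨⟨a, ha⟩, ?_, fun v hv => Subtype.ext (hu v.1 ⟨v.2, ?_⟩)⟩
  · dsimp only
    rw [← Sec.push_res H.w c₁ a ha H, ea, Sec.pull_push]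
  · rw [← Sec.push_pull (c₁.res v.1 v.2) H, Sec.push_res H.w c₁ v.1 v.2 H, ← hv]

end compat

/-- **Zariski locality of effective descent for étale schemes.** -/
theorem exists_iso_of_open_cover (hg : SGA1.UnivSubmersive g) (D : Desc.SchDD g) {κ : Type u}
    (V : κ → S.Opens) (hV : ∀ x, ∃ a, x ∈ V a)
    (h : ∀ a, ∃ U : Over (V a : Scheme.{u}), Etale U.hom ∧
      Nonempty ((Desc.toDD (pullback.snd g (V a).ι)).obj U ≅
        pullDD (IsPullback.of_hasPullback g (V a).ι).w D)) :
    ∃ U : Over S, Etale U.hom ∧ Nonempty ((Desc.toDD g).obj U ≅ D) := by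
  choose Ua hUa ea using h
  have hsec := fun a => exists_sec_of_iso (ea a).some
  choose c₁ hc₁ using hsec
  have H := fun a => IsPullback.of_hasPullback g (V a).ι
  have hga := fun a => SGA1Q.univSubmersive_of_isPullback hg (H a).flip
  let D' := (Desc.SchDDFam.ofSchDD.{0} g).obj D
  obtain ⟨U, c₀, hu⟩ := DescLib.rep_of_local D' V hV fun a => by
    refine ⟨Ua a, ((c₁ a).push (H a)).toCompat, fun T x C => ?_⟩
    obtain ⟨v, hv, huniq⟩ := Sec.existsUnique_lift_push (hga a) (H a) (c₁ a) x (ofCompat C)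
    refine ⟨v, ofCompat_injective ?_, fun v' hv' => huniq v' ?_⟩
    · rw [ofCompat_res, ofCompat_toCompat]; exact hv
    · rw [← hv', ofCompat_res, ofCompat_toCompat]
  let c := ofCompat c₀
  have hrep : ∀ {T : Scheme.{u}} (s : T ⟶ S) (C : Sec D s),
      ∃! v : Desc.Lifts U s, c.res v.1 v.2 = C := fun {T} s C => by
    obtain ⟨v, hv, huniq⟩ := hu s C.toCompat
    refine ⟨v, ?_, fun v' hv' => huniq v' (ofCompat_injective ?_)⟩
    · show c.res v.1 v.2 = C
      rw [← ofCompat_res, hv, ofCompat_toCompat]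
    · rw [ofCompat_res, ofCompat_toCompat]; exact hv'
  -- the solution is étale
  have hα : ∀ a, ∃ α : (Ua a).left ⟶ U.left, α ≫ U.hom = (Ua a).hom ≫ (V a).ι ∧ IsOpenImmersion α ∧
      Set.range α = U.hom ⁻¹' (V a : Set S) := by
    intro a
    obtain ⟨⟨α, hα⟩, eα, -⟩ := hrep _ ((c₁ a).push (H a))
    let W := U.hom ⁻¹ᵁ V a
    let y : (W : Scheme.{u}) ⟶ V a := U.hom ∣_ V a
    have hy : y ≫ (V a).ι = W.ι ≫ U.hom := morphismRestrict_ι _ _
    obtain ⟨⟨β, hβ⟩, eβ, -⟩ :=
      Sec.existsUnique_lift_push (hga a) (H a) (c₁ a) y (c.res W.ι hy.symm)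
    dsimp only at eα eβ
    have hβα : β ≫ α = W.ι := by
      obtain ⟨v, -, huv⟩ := hrep (y ≫ (V a).ι) (c.res W.ι hy.symm)
      refine congrArg Subtype.val ((huv ⟨β ≫ α, ?_⟩ ?_).trans (huv ⟨W.ι, hy.symm⟩ rfl).symm)
      · rw [Category.assoc, hα, reassoc_of% hβ]
      · dsimp only
        rw [← Sec.res_res c α hα β (by rw [reassoc_of% hβ]), ← eβ]
        exact congrArg (fun C : Sec D ((Ua a).hom ≫ (V a).ι) =>
          C.res β (by rw [reassoc_of% hβ])) eα
    have hsub : Set.range α ⊆ Set.range W.ι := by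
      rintro _ ⟨u, rfl⟩
      rw [Scheme.Opens.range_ι]
      show U.hom (α u) ∈ V a
      rw [← Scheme.Hom.comp_apply, hα, Scheme.Hom.comp_apply]
      exact ((Ua a).hom u).2
    let α' := IsOpenImmersion.lift W.ι α hsub
    have hα' : α' ≫ W.ι = α := IsOpenImmersion.lift_fac _ _ _
    have h1 : β ≫ α' = 𝟙 _ := by rw [← cancel_mono W.ι, Category.assoc, hα', hβα, Category.id_comp]
    have h2 : α' ≫ β = 𝟙 _ := by
      obtain ⟨v, -, huv⟩ :=
        Sec.existsUnique_lift_push (hga a) (H a) (c₁ a) (Ua a).hom ((c₁ a).push (H a))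
      have hy' : α' ≫ y = (Ua a).hom := by
        rw [← cancel_mono (V a).ι, Category.assoc, hy, reassoc_of% hα', hα]
      refine congrArg Subtype.val ((huv ⟨α' ≫ β, ?_⟩ ?_).trans (huv ⟨𝟙 _, Category.id_comp _⟩ ?_).symm)
      · rw [Category.assoc, hβ, hy']
      · show ((c₁ a).push (H a)).res (α' ≫ β) _ = _
        rw [← Sec.res_res _ β (by rw [reassoc_of% hβ]) α' (by rw [reassoc_of% hy']), eβ, Sec.res_res]
        refine Eq.trans ?_ eα
        exact Sec.ext_app fun x t h => by
          rw [Sec.res_app, Sec.res_app]; exact c.app_congr _ _ rfl (by rw [hα'])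
      · exact Sec.ext_app fun x t h => by
          rw [Sec.res_app]; exact ((c₁ a).push (H a)).app_congr _ _ rfl (Category.comp_id _)
    have : IsIso α' := ⟨β, h2, h1⟩
    refine ⟨α, hα, hα' ▸ inferInstance, ?_⟩
    rw [← hα', Scheme.Hom.comp_base, TopCat.coe_comp, Set.range_comp,
      (Set.range_eq_univ.2 α'.surjective), Set.image_univ, Scheme.Opens.range_ι]
    rfl
  choose α hαw hαo hαr using hα
  have : Etale U.hom := by
    let 𝒰 : U.left.OpenCover :=
      Scheme.Cover.mkOfCovers κ (fun a => (Ua a).left) α (fun u => by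
        obtain ⟨a, ha⟩ := hV (U.hom u)
        obtain ⟨y, hy⟩ : u ∈ Set.range (α a) := by rw [hαr a]; exact ha
        exact ⟨a, y, hy⟩) fun a => hαo a
    refine IsZariskiLocalAtSource.of_openCover (P := @Etale) 𝒰 fun (a : κ) => ?_
    show Etale (α a ≫ U.hom)
    rw [hαw a]
    have := hUa a
    infer_instance
  -- the tautological section is an isomorphism
  let r := D.obj.hom
  have hr : 𝟙 D.obj.left ≫ r = r := Category.id_comp _
  let P : Sec D (r ≫ g) := ofCompat (DescLib.Compat.ofPoint (i := PUnit.unit) D'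
    (⟨𝟙 _, hr⟩ : Desc.Lifts D.obj r) (r ≫ g) rfl)
  have hP : ∀ {T : Scheme.{u}} (x : T ⟶ X) (t : T ⟶ D.obj.left) (h : x ≫ g = t ≫ r ≫ g),
      P.app x t h = tr D (t ≫ r) x (by rw [Category.assoc, h]) (t ≫ 𝟙 _)
        (by rw [Category.assoc, hr]) := fun x t h => ofCompat_app _ x t h
  obtain ⟨⟨v, hv⟩, ev, -⟩ := hrep _ P
  have h1 : pullback.lift r v hv.symm ≫ c.σ = 𝟙 _ := by
    have e := congrArg (fun C : Sec D (r ≫ g) => C.app r (𝟙 _) (Category.id_comp _).symm) ev
    simp only [Sec.res_app] at e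
    refine ((c.app_congr _ (by rw [Category.id_comp, hv]) rfl (Category.id_comp _).symm).trans
      (e.trans (hP _ _ _))).trans ?_
    refine (tr_congr _ rfl _ hr (Category.id_comp _) rfl (Category.id_comp _)).trans ?_
    exact tr_self _ _
  have h2 : c.σ ≫ pullback.lift r v hv.symm = 𝟙 _ := by
    apply pullback.hom_ext
    · rw [Category.assoc, pullback.lift_fst, Category.id_comp]; exact c.w
    · rw [Category.assoc, pullback.lift_snd, Category.id_comp]
      have hs : pullback.snd g U.hom ≫ U.hom = pullback.fst g U.hom ≫ g := pullback.condition.symm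
      have hsv : (c.σ ≫ v) ≫ U.hom = pullback.fst g U.hom ≫ g := by
        rw [Category.assoc, hv, ← Category.assoc, c.w]
      obtain ⟨v', -, huv⟩ := hrep _ (c.res (pullback.snd g U.hom) hs)
      refine congrArg Subtype.val ((huv ⟨c.σ ≫ v, hsv⟩ ?_).trans (huv ⟨_, hs⟩ rfl).symm)
      dsimp only
      rw [← Sec.res_res c v hv c.σ (by rw [← Category.assoc, c.w])]
      refine (congrArg (fun C : Sec D (r ≫ g) => C.res c.σ (by rw [← Category.assoc, c.w])) ev).trans ?_
      refine Sec.ext_app fun x t h => ?_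
      rw [Sec.res_app, Sec.res_app, hP]
      have hx₀ : (t ≫ pullback.fst g U.hom) ≫ g = (t ≫ pullback.snd g U.hom) ≫ U.hom := by
        simp [pullback.condition]
      have hx₁ : x ≫ g = (t ≫ pullback.snd g U.hom) ≫ U.hom := by
        rw [h, Category.assoc, hs]
      rw [← c.tr_app _ x _ hx₀ hx₁ (hx₀.trans hx₁.symm) (c.app_hom _ _ _)]
      refine tr_congr _ _ _ _ (by rw [Category.assoc]; exact congrArg (t ≫ ·) c.w) rfl ?_
      rw [Category.comp_id, c.comp_σ t]
  have : IsIso c.σ := ⟨_, h2, h1⟩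
  exact ⟨U, ‹_›, nonempty_iso_of_sec c⟩

end Groth.Agent.EtEff48
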